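import Mathlib
import Cfsg.Agent.Lib.Yos.Model
import Cfsg.Agent.Lib.Transfer.Cocycle

/-!
# Yoshida's theorem: tools for table groups and the interfaces (plans/YOS.md)
-/

set_option autoImplicit false
set_option maxRecDepth 100000

namespace CfsgLib.Yos

open Subgroup Cfsg CfsgLib.W2 CfsgLib.W2.TG CfsgLib.Tech CfsgLib.CosetEnum

section tools
variable {G : Type*} [Group G] {n : ℕ} {m : ℕ → ℕ → ℕ} {i : ℕ → ℕ} {h : TOk n m i}

/-- `∀ g ∈ l, p g` with a decision procedure which runs through the list only. -/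
def LA {α : Type*} (l : List α) (p : α → Prop) : Prop := ∀ g ∈ l, p g

instance {α : Type*} (l : List α) (p : α → Prop) [DecidablePred p] : Decidable (LA l p) :=
  List.decidableBAll p l

/-- `∃ g ∈ l, p g` with a decision procedure which runs through the list only. -/
def LE {α : Type*} (l : List α) (p : α → Prop) : Prop := ∃ g ∈ l, p g

instance {α : Type*} (l : List α) (p : α → Prop) [DecidablePred p] : Decidable (LE l p) :=
  List.decidableBEx p l

/-- Test that the elements with `P` lie in the span of `gs`. -/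
noncomputable def spB (P : TG h → Prop) [DecidablePred P] (gs : List (TG h)) (D : ℕ) : Bool :=
  force (sp gs D) fun M => allN (fun k => !decide (P (o k)) || bit M k) n

theorem bit_of_spB {P : TG h → Prop} [DecidablePred P] {gs : List (TG h)} {D : ℕ}
    (H : spB P gs D = true) {a : TG h} (ha : P a) : bit (sp gs D) a.v = true := by
  rw [spB, force_eq, allN_iff] at H
  simpa [o_v, ha] using H _ a.v_lt

/-- The subgroup of the elements with `P`, from generators. -/
def subG (P : TG h → Prop) [DecidablePred P] (gs : List (TG h)) (D : ℕ)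
    (H : spB P gs D = true ∧ P 1 ∧ ∀ a, P a → LA gs fun g => P (a * g)) : Subgroup (TG h) :=
  (closure {g | g ∈ gs}).copy {a | P a} (Set.ext fun a =>
    ⟨fun ha => mem_of_sp (fun _ hg => subset_closure hg) (bit_of_spB H.1 ha), fun ha => by
      have ha' : a ∈ Submonoid.closure {g | g ∈ gs} := by
        rw [← closure_toSubmonoid_of_finite]; exact ha
      induction ha' using Submonoid.closure_induction_right with
      | one => exact H.2.1
      | mul_right x hx y hy ih => exact H.2.2 x (ih (by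
          rw [← closure_toSubmonoid_of_finite] at hx; exact hx)) y hy⟩)

theorem mem_subG {P : TG h → Prop} [DecidablePred P] {gs : List (TG h)} {D : ℕ}
    {H : spB P gs D = true ∧ P 1 ∧ ∀ a, P a → LA gs fun g => P (a * g)} {a : TG h} :
    a ∈ subG P gs D H ↔ P a := Iff.rfl

theorem subG_le {P : TG h → Prop} [DecidablePred P] {gs : List (TG h)} {D : ℕ}
    {H : spB P gs D = true ∧ P 1 ∧ ∀ a, P a → LA gs fun g => P (a * g)} {S : Subgroup (TG h)}
    (hS : ∀ g ∈ gs, g ∈ S) : subG P gs D H ≤ S := fun _ ha => mem_of_sp hS (bit_of_spB H.1 ha)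

theorem card_subG {P : TG h → Prop} [DecidablePred P] {gs : List (TG h)} {D : ℕ}
    {H : spB P gs D = true ∧ P 1 ∧ ∀ a, P a → LA gs fun g => P (a * g)} :
    Nat.card (subG P gs D H) = cnt P := card_subgroup _ P fun _ => Iff.rfl

/-- The action of `u` on a subgroup of the model, from generators. -/
theorem rel_of_gen {φ : TG h →* G} {u : G} (α : TG h → TG h) (P : TG h → Prop) [DecidablePred P]
    (gs : List (TG h)) (D : ℕ) (H : spB P gs D = true ∧ P 1 ∧ α 1 = 1 ∧ ∀ a, P a →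
      LA gs fun g => P (a * g) ∧ α (a * g) = α a * α g) (hr : ∀ g ∈ gs, W2.Rel φ u g (α g)) (a : TG h)
    (ha : P a) : W2.Rel φ u a (α a) :=
  (sp_ind (P := fun a => P a ∧ W2.Rel φ u a (α a)) ⟨H.2.1, H.2.2.1.symm ▸ Rel.one⟩ (fun a h1 g hg =>
    ⟨(H.2.2.2 a h1.1 g hg).1, (H.2.2.2 a h1.1 g hg).2.symm ▸ h1.2.mul (hr g hg)⟩)
    (bit_of_spB H.1 ha)).2

/-- Homomorphisms from a semidirect product. -/
theorem sd_lift {k N : ℕ} {mK act : ℕ → ℕ → ℕ} {iK j : ℕ → ℕ} {hK : TOk k mK iK}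
    (H : TOk N (sdm n m mK act) j) (hN : N = n * k) (φ : TG h →* G) (ψ : TG hK →* G)
    (lt : ∀ s < k, ∀ a < n, act s a < n) (e : ∀ s a, W2.Rel φ (ψ s) a (o (act s.v a.v))) :
    ∃ Φ : TG H →* G, ∀ c, Φ c = φ (o (c.v % n)) * ψ (o (c.v / n)) := by
  refine ⟨MonoidHom.mk' (fun c => φ (o (c.v % n)) * ψ (o (c.v / n))) fun a b => ?_, fun _ => rfl⟩
  have hp : ∀ a : TG H, a.v % n < n ∧ a.v / n < k := fun a =>
    ⟨Nat.mod_lt _ h.pos, Nat.div_lt_of_lt_mul (hN ▸ a.v_lt)⟩
  have h1 := lt _ (hp a).2 _ (hp b).1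
  have h2 := h.lt _ (hp a).1 _ h1
  have h3 : (a * b).v = m (a.v % n) (act (a.v / n) (b.v % n)) + n * mK (a.v / n) (b.v / n) := rfl
  have h4 := e (o (a.v / n)) (o (b.v % n))
  rw [v_o (hp a).2, v_o (hp b).1, W2.Rel] at h4
  have h5 : (o (m (a.v % n) (act (a.v / n) (b.v % n))) : TG h) =
      o (a.v % n) * o (act (a.v / n) (b.v % n)) := ext' (by rw [v_mul, v_o h2, v_o (hp a).1, v_o h1])
  have h6 : (o (mK (a.v / n) (b.v / n)) : TG hK) = o (a.v / n) * o (b.v / n) :=
    ext' (by rw [v_mul, v_o (hK.lt _ (hp a).2 _ (hp b).2), v_o (hp a).2, v_o (hp b).2])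
  simp only [h3, Nat.add_mul_mod_self_left, Nat.mod_eq_of_lt h2, Nat.add_mul_div_left _ _ h.pos,
    Nat.div_eq_of_lt h2, zero_add, h5, h6, map_mul, ← h4]
  group

/-- The homomorphism from the group of order two given by an involution. -/
noncomputable def hom2 (u : G) (hu : u * u = 1) : TG ok2 →* G :=
  MonoidHom.mk' (fun s => u ^ s.v) fun a b => by
    rcases (by decide +kernel : ∀ a : TG ok2, a = o 0 ∨ a = o 1) a with rfl | rfl <;>
    rcases (by decide +kernel : ∀ a : TG ok2, a = o 0 ∨ a = o 1) b with rfl | rfl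
    exacts [show u ^ 0 = u ^ 0 * u ^ 0 by simp, show u ^ 1 = u ^ 0 * u ^ 1 by simp,
      show u ^ 1 = u ^ 1 * u ^ 0 by simp, show u ^ 0 = u ^ 1 * u ^ 1 by simp [hu]]

theorem hom2_apply {u : G} (hu : u * u = 1) (s : TG ok2) : hom2 u hu s = u ^ s.v := rfl

open CfsgLib.Transfer in
/-- Extremal Thompson transfer lemma for an involution of `O²(G)`. -/
theorem thompson_ext [Finite G] {H Q R : Subgroup G} (hH : ¬ 2 ∣ H.index) (hQi : Q.relIndex H = 2)
    {u : G} (hu : u * u = 1) (hO : u ∈ pResidual 2 G) (hR : IsPGroup 2 R) (hRu : R ≤ centralizer {u}) :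
    ∃ t : G, t⁻¹ * u * t ∈ Q ∧ ∀ r ∈ R, t⁻¹ * r * t ∈ H := by
  classical
  have := Fintype.ofFinite (G ⧸ H)
  obtain ⟨ϕ, hϕ⟩ := exists_hom_of_relIndex_two hQi
  have hc := isCocycle_cosetCocycle ϕ
  have h2 : ∀ y : Multiplicative (ZMod 2), y = 1 ∨ y = Multiplicative.ofAdd 1 := by decide
  have htr : tr ϕ u = 1 := pResidual_le_ker (IsPGroup.of_card (n := 1) (by simp)) (tr ϕ) hO
  -- the points fixed by `u` on which the cocycle is trivial
  let Z : SubMulAction R (G ⧸ H) :=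
    { carrier := {q | u • q = q ∧ cosetCocycle ϕ u q = 1}
      smul_mem' := fun r q hq => by
        have h3 : (r : G) * u * (r : G)⁻¹ = u := by
          rw [mem_centralizer_singleton_iff.1 (hRu r.2), mul_inv_cancel_right]
        refine ⟨?_, ?_⟩
        · change u • (r : G) • q = (r : G) • q
          rw [← mul_smul, ← mem_centralizer_singleton_iff.1 (hRu r.2), mul_smul, hq.1]
        · change cosetCocycle ϕ u ((r : G) • q) = 1
          rw [← hq.2, ← hc.conj r hq.1, h3] }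
  have hodd : ¬ 2 ∣ Nat.card Z := by
    intro hd
    let σ : Multiplicative (ZMod 2) := Multiplicative.ofAdd 1
    have hσ : σ * σ = 1 := by decide
    have hσ2 : σ ^ 2 = 1 := by rw [pow_two, hσ]
    let P : G ⧸ H → Prop := fun q => u • q = q ∧ cosetCocycle ϕ u q = 1
    have e1 : ∏ q ∈ Finset.univ.filter (fun q => ¬ P q), cosetCocycle ϕ u q * σ = 1 := by
      refine Finset.prod_involution (fun q _ => u • q) ?_ ?_ ?_ ?_
      · intro q _
        have := hc u u q
        rw [hu, hc.one] at this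
        rw [mul_mul_mul_comm, hσ, mul_one, mul_comm, ← this]
      · intro q hq h1 h3
        apply h1
        rw [(h2 _).resolve_left fun e => (Finset.mem_filter.1 hq).2 ⟨h3, e⟩]
        exact hσ
      · intro q hq
        refine Finset.mem_filter.2 ⟨Finset.mem_univ _, fun h1 => (Finset.mem_filter.1 hq).2 ?_⟩
        rwa [MulAction.injective u h1.1] at h1
      · intro q _
        rw [← mul_smul, hu, one_smul]
    have e2 : ∏ q ∈ Finset.univ.filter P, cosetCocycle ϕ u q * σ = 1 := by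
      rw [Finset.prod_congr rfl (g := fun _ => σ) fun q hq => by
        rw [(Finset.mem_filter.1 hq).2.2, one_mul], Finset.prod_const]
      have : (Finset.univ.filter P).card = Nat.card Z := by
        rw [← Fintype.card_subtype, ← Nat.card_eq_fintype_card]
        rfl
      obtain ⟨m, hm⟩ := hd
      rw [this, hm, pow_mul, hσ2, one_pow]
    have e3 := Finset.prod_filter_mul_prod_filter_not Finset.univ P
      (fun q => cosetCocycle ϕ u q * σ)
    rw [e1, e2, Finset.prod_mul_distrib, ← tr_apply, htr, Finset.prod_const, Finset.card_univ,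
      ← Nat.card_eq_fintype_card, ← index, one_mul, one_mul] at e3
    obtain ⟨m, hm⟩ := Nat.odd_iff.2 (Nat.two_dvd_ne_zero.1 hH)
    rw [hm, pow_succ, pow_mul, hσ2, one_pow, one_mul] at e3
    exact absurd e3 (by decide)
  obtain ⟨⟨q, hq1, hq2⟩, hq⟩ := hR.nonempty_fixed_point_of_prime_not_dvd_card Z hodd
  induction q using QuotientGroup.induction_on with | H t => ?_
  have h5 := smul_mk_eq_iff.1 hq1
  refine ⟨t, ?_, fun r hr => smul_mk_eq_iff.1 (congrArg Subtype.val (hq ⟨r, hr⟩))⟩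
  by_contra hn
  rw [cosetCocycle_mk ϕ h5, (hϕ ⟨_, h5⟩).2 hn] at hq2
  exact absurd hq2 (by decide)

end tools

variable {G : Type*} [Group G]

/-! ### The data from `M₁₂` -/

/-- `C(e) = ⟨e⟩ × M`, `φ` is onto `C_M(z)`, `z = φ (o 1)`, and `σ` permutes `z, s, sz`. -/
structure Ctx0 (e : G) (M : Subgroup G) (φ : HM →* G) (σ : G) : Prop where
  inj : Function.Injective φ
  ee : e * e = 1
  eM : e ∉ M
  cent : ∀ g, g ∈ Cx e ↔ g ∈ M ∨ g * e ∈ M
  rng : ∀ g, g ∈ φ.range ↔ g ∈ M ∧ g ∈ Cx (φ (o 1))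
  syl : ¬ 128 ∣ Nat.card M
  sM : σ ∈ M
  s3 : σ * σ * σ = 1
  rel : ∀ p ∈ [(1, 2), (2, 3), (4, 46), (8, 8), (32, 4)], W2.Rel φ σ (o p.1) (o p.2)
  qinv : φ (o 16) * σ * φ (o 16) = σ⁻¹

/-- An involution which interchanges `e` and `e z` and centralises `z` and `ρ`. -/
structure XD (e : G) (φ : HM →* G) (x : G) : Prop where
  xx : x * x = 1
  xe : x * e * x⁻¹ = e * φ (o 1)
  xz : W2.Rel φ x (o 1) (o 1)
  xr : W2.Rel φ x (o 64) (o 64)

/-- The action of `x` on `C_M(z)` and the product of its three conjugates under `σ`. -/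
structure XA (e : G) (φ : HM →* G) (σ x : G) (c i : ℕ) : Prop extends XD e φ x where
  hc : c < 2
  hi : i < 2
  xq : ∀ q < 32, W2.Rel φ x (o q) (o q)
  xt : W2.Rel φ x (o 32) (o (32 + c))
  k : x * (σ * x * σ⁻¹) * (σ⁻¹ * x * σ) = φ (o (8 * c + 2 * i)) * e ^ i

/-! ### The models of order 3072 -/

/-- `e = φ (o 32)`, `z = φ (o 1)`, `x = φ (o 64)`, `t = φ (o 512)`, `ρ = φ (o 1024)`. -/
structure Ctx {m : ℕ → ℕ → ℕ} {i : ℕ → ℕ} {h : TOk 3072 m i} (φ : TG h →* G) (σ : G) (xp xq : ℕ) :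
    Prop where
  inj : Function.Injective φ
  cent : ∀ g ∈ Cx (φ (o 32)), g ∈ Cx (φ (o 1)) → ∃ n : TG h, n.v % 512 < 64 ∧ g = φ n
  syl : ¬ 256 ∣ Nat.card (Cx (φ (o 32)))
  nc : ¬ IsConj (φ (o 32)) (φ (o 1))
  s3 : σ * σ * σ = 1
  rel : ∀ p ∈ [(1, 2), (2, 3), (4, 526), (8, 8), (32, 32), (512, 4), (64, xp), (xp, xq)],
    W2.Rel φ σ (o p.1) (o p.2)

/-- The group `J` of order 256. -/
abbrev InJ {m : ℕ → ℕ → ℕ} {i : ℕ → ℕ} {h : TOk 3072 m i} (a : TG h) : Prop :=
  a.v < 1024 ∧ a.v % 512 < 256 ∧ a * o 2 = o 2 * a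

theorem Ctx.relW {φ : NW →* G} {σ : G} {δ : ℕ} (hδ : δ < 2) (C : Ctx φ σ (128 + δ) (192 + δ)) (a : NW)
    (ha : InJ a) : W2.Rel φ σ a (o (sgW δ a.v)) := by
  refine rel_of_gen (fun a => o (sgW δ a.v)) InJ [o 2, o 4, o 8, o 32, o 512, o 64, o (128 + δ)] 4
    ?_ ?_ a ha
  · interval_cases δ <;> decide +kernel
  · have := C.rel
    simp only [List.forall_mem_cons] at this ⊢
    obtain ⟨-, h1, h2, h3, h4, h5, h6, h7, -⟩ := this
    refine ⟨h1.of_eq rfl ?_, h2.of_eq rfl ?_, h3.of_eq rfl ?_, h4.of_eq rfl ?_, h5.of_eq rfl ?_,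
      h6.of_eq rfl ?_, h7.of_eq rfl ?_, by simp⟩ <;> interval_cases δ <;> decide +kernel

theorem Ctx.relC {φ : NC →* G} {σ : G} {δ : ℕ} (hδ : δ < 2) (C : Ctx φ σ (678 + δ) (716 + δ)) (a : NC)
    (ha : InJ a) : W2.Rel φ σ a (o (sgC δ a.v)) := by
  refine rel_of_gen (fun a => o (sgC δ a.v)) InJ [o 2, o 4, o 8, o 32, o 512, o 64, o (678 + δ)] 4
    ?_ ?_ a ha
  · interval_cases δ <;> decide +kernel
  · have := C.rel
    simp only [List.forall_mem_cons] at this ⊢
    obtain ⟨-, h1, h2, h3, h4, h5, h6, h7, -⟩ := this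
    refine ⟨h1.of_eq rfl ?_, h2.of_eq rfl ?_, h3.of_eq rfl ?_, h4.of_eq rfl ?_, h5.of_eq rfl ?_,
      h6.of_eq rfl ?_, h7.of_eq rfl ?_, by simp⟩ <;> interval_cases δ <;> decide +kernel

/-- The normaliser of `⟨e, z⟩`. -/
theorem Ctx.normE {m : ℕ → ℕ → ℕ} {i : ℕ → ℕ} {h : TOk 3072 m i} {φ : TG h →* G} {σ : G} {xp xq : ℕ}
    (C : Ctx φ σ xp xq) (H : (o 64 : TG h) * o 32 * (o 64)⁻¹ = o 33 ∧ (o 64 : TG h) * o 1 = o 1 * o 64 ∧
      ∀ n : TG h, n.v % 512 < 64 → (o 64 * n).v % 512 < 128) {g : G} (hz : g ∈ Cx (φ (o 1)))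
    (he : W2.Rel φ g (o 32) (o 32) ∨ W2.Rel φ g (o 32) (o 33)) : ∃ n : TG h, n.v % 512 < 128 ∧ g = φ n := by
  rcases he with he | he
  · obtain ⟨n, h1, h2⟩ := C.cent g (mem_Cx'.2 he) hz
    exact ⟨n, by omega, h2⟩
  · obtain ⟨n, h1, h2⟩ := C.cent ((φ (o 64))⁻¹ * g)
      (mem_Cx'.2 (((Rel.conj φ (o 64) (o 32)).of_eq rfl H.1).symm.comp he))
      (mul_mem (inv_mem (mem_Cx.2 (by rw [← map_mul, H.2.1, map_mul]))) hz)
    exact ⟨o 64 * n, H.2.2 n h1, by rw [map_mul, ← h2, mul_inv_cancel_left]⟩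

theorem normE_W : (o 64 : NW) * o 32 * (o 64)⁻¹ = o 33 ∧ (o 64 : NW) * o 1 = o 1 * o 64 ∧
    ∀ n : NW, n.v % 512 < 64 → (o 64 * n).v % 512 < 128 := by decide +kernel

theorem normE_C : (o 64 : NC) * o 32 * (o 64)⁻¹ = o 33 ∧ (o 64 : NC) * o 1 = o 1 * o 64 ∧
    ∀ n : NC, n.v % 512 < 64 → (o 64 * n).v % 512 < 128 := by decide +kernel

/-! ### The wreathed case -/

/-- `A = ⟨z, x⟩`. -/
abbrev InA (a : NW) : Prop := a.v % 64 < 2 ∧ a.v < 128
/-- `R₀ = Q × ⟨x⟩`. -/
abbrev InR0 (a : NW) : Prop := a.v % 64 < 32 ∧ a.v < 128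

noncomputable def A0 : Subgroup NW := subG InA [o 1, o 64] 2 (by decide +kernel)
noncomputable def R0 : Subgroup NW := subG InR0 [o 2, o 4, o 8, o 16, o 64] 3 (by decide +kernel)

/-- A subgroup `Q` of order `2 ^ 10` of `C(A)` with `Q / A` elementary abelian. -/
structure QF (φ : NW →* G) (Q : Subgroup G) : Prop where
  le : Q ≤ Cx (φ (o 1)) ⊓ Cx (φ (o 64))
  ge : R0.map φ ≤ Q
  card : Nat.card Q = 1024
  sq : ∀ g ∈ Q, g * g ∈ A0.map φ
  ne : φ (o 32) ∈ normalizer (Q : Set G)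
  nt : φ (o 512) ∈ normalizer (Q : Set G)
  ce : ∀ g ∈ Q, g * φ (o 32) * g⁻¹ * φ (o 32) ∈ R0.map φ
  ker : ∀ g ∈ Q, g * φ (o 32) * g⁻¹ * φ (o 32) ∈ A0.map φ → g ∈ R0.map φ
  surj : ∀ r ∈ R0, ∃ g ∈ Q, g * φ (o 32) * g⁻¹ * φ (o 32) * φ r ∈ A0.map φ
  cen : ∀ n : NW, n.v < 128 → (∀ g ∈ Q, W2.Rel φ g n n ∨ W2.Rel φ g n (n * o 1)) → InA n

/-! ### The case of `Co₃` -/

/-- `N = 4 ∘ 2^{1+4}`; `y = o 96`. -/
abbrev InN (a : NC) : Prop := a.v / 8 ∈ [0, 12, 21, 25, 38, 42, 51, 63]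

/-- The involutions which are conjugate to `z`. -/
abbrev IsZ (a : NC) : Prop := bit 0xcc0000000000cc000000000000000000000000000000000000000000000000000000000000000000cc003300000000000000000000000000000000000000000000000000000000000000000000000000000000000000000000000000000000000000000000000000000000c30000000000000000000000000000c300000000000000000000000000000000000000000000000000000000000000000000000000000000000000003c0000c3000000000000000000000000000000000000000000000000000000000000000000000000000000000000000000000000000000000000000000000000000000000000000000000000000000000000000000000000000000000000000000000000000000000000f000000000f0000000000000000000000000000000000000f00fc300000000000000000000003c0000000000000000cc00000033000000000000000000000000f00000000f000000000000000000000000ff00000000000000fe a.v = true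

noncomputable def N0 : Subgroup NC := subG InN [o 2, o 4, o 96, o 168, o 304] 3 (by decide +kernel)
noncomputable def T0 : Subgroup NC := subG (fun a => a.v < 1024) [o 2, o 4, o 8, o 16, o 32, o 64, o 128, o 256, o 512] 4
  (by decide +kernel)

/-- The elements of weight two in `N / ⟨z⟩`. -/
noncomputable def tt (p q : Fin 6) : NC := o (![![0, 98, 506, 414, 340, 306], ![98, 0, 408, 508, 310, 336],
  ![506, 408, 0, 100, 202, 172], ![414, 508, 100, 0, 174, 200], ![340, 310, 202, 174, 0, 102],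
  ![306, 336, 172, 200, 102, 0]] p q)

/-- The image of the model in `Γ = C(z) / ⟨z⟩`. -/
structure BCtx {Γ : Type*} [Group Γ] (ψ : NC →* Γ) : Prop where
  ker : ∀ a, ψ a = 1 ↔ a = 1 ∨ a = o 1
  syl : ¬ 1024 ∣ Nat.card Γ
  sc : ∀ g ∈ Cx (ψ (o 96)), ∀ a b, InN a → b.v < 1024 → W2.Rel ψ g a b → InN b
  sq : ∀ g a b, W2.Rel ψ g a b → a * a = 1 → b * b = 1
  cm : ∀ g a b a' b', W2.Rel ψ g a a' → W2.Rel ψ g b b' → a * b = b * a → a' * b' = b' * a'
  two : ∀ d ∈ [8, 16, 24], ∀ g ∈ Cx (ψ (o 96)), g ∈ Cx (ψ (o d)) → Odd (orderOf g) → g = 1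
  tau : ∃ g ∈ Cx (ψ (o 96)), g ∉ ψ.range
  ce : Nat.card (Cx (ψ (o 32))) ≤ 384
  fus : IsConj (ψ (o 32)) (ψ (o 8))

end CfsgLib.Yos
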