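import Mathlib
import Cfsg.Agent.Lib.Yos.Defs
import Cfsg.Agent.Lib.PGroup.Basic

/-!
# Yoshida's theorem, wreathed case: tools, the involution `t₃`, labels in `J` (plans/YOS.md)
-/

set_option autoImplicit false
set_option maxRecDepth 100000
set_option synthInstance.maxSize 4096

namespace CfsgLib.Yos

open Subgroup Cfsg CfsgLib.W2 CfsgLib.W2.TG CfsgLib.Tech CfsgLib.CosetEnum

section tools
variable {G : Type*} [Group G] {n : ℕ} {m : ℕ → ℕ → ℕ} {i : ℕ → ℕ} {h : TOk n m i}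

/-- `p` holds for the elements with number below `k`. -/
def UT (k : ℕ) (p : TG h → Prop) : Prop := ∀ a : TG h, a.v < k → p a

noncomputable instance (k : ℕ) (p : TG h → Prop) [DecidablePred p] : Decidable (UT k p) :=
  decidable_of_bool (allN (fun j => decide (p (o j))) k) (by
    simp only [allN_iff, decide_eq_true_eq]
    exact ⟨fun H x hx => o_v x ▸ H _ hx, fun H j hj => H _ ((Nat.mod_le j n).trans_lt hj)⟩)

theorem card_le_cnt (F : Subgroup (TG h)) (P : TG h → Prop) [DecidablePred P] (H : ∀ x ∈ F, P x) :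
    Nat.card F ≤ cnt P := by
  rw [← card_subtype]
  exact Nat.card_le_card_of_injective (fun x => (⟨x.1, H _ x.2⟩ : {x // P x}))
    fun x y e => Subtype.ext (congrArg Subtype.val e :)

theorem cenMod [Finite G] {T N : Subgroup G} (hT : IsPGroup 2 T) (hN : T ≤ normalizer (N : Set G))
    (h : ¬ T ≤ N) : ∃ x ∈ T, x ∉ N ∧ ∀ g ∈ T, x * g * x⁻¹ * g⁻¹ ∈ N := by
  have := hT.isNilpotent
  have := normal_subgroupOf_of_le_normalizer hN
  obtain ⟨x, -, hxN, h1⟩ := PGroup.exists_central_mod_of_not_le (M := (⊤ : Subgroup T))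
    (N := N.subgroupOf T) fun h1 => h fun x hx => h1 (mem_top (⟨x, hx⟩ : T))
  exact ⟨x, x.2, hxN, fun g hg => h1 ⟨g, hg⟩⟩

theorem card_twoW {S T : Subgroup G} (h : ∀ a ∈ S, ∀ b ∈ S, a ∉ T → b ∉ T → a * b ∈ T) :
    Nat.card S ≤ 2 * Nat.card (S ⊓ T : Subgroup G) := by
  by_cases hn : S ≤ T
  · rw [inf_eq_left.mpr hn]; omega
  obtain ⟨r, hr, hn⟩ := SetLike.not_le_iff_exists.mp hn
  have : (T.subgroupOf S).index = 2 := index_eq_two_iff.mpr ⟨⟨r, hr⟩, fun b => by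
    by_cases e : (b : G) ∈ T
    · exact Or.inr ⟨e, fun e' => hn ((T.mul_mem_cancel_left e).mp e')⟩
    · exact Or.inl ⟨h b b.2 r hr e hn, e⟩⟩
  rw [← (T.subgroupOf S).index_mul_card, this, ← inf_subgroupOf_left,
    Nat.card_congr (subgroupOfEquivOfLe inf_le_left).toEquiv]

theorem card_homW {E : Type*} [Group E] (D : Subgroup G) (f : G → E)
    (hf : ∀ a ∈ D, ∀ b ∈ D, f (a * b) = f a * f b) : ∃ (K : Subgroup G) (W : Subgroup E),
      Nat.card D = Nat.card K * Nat.card W ∧ (∀ a, a ∈ K ↔ a ∈ D ∧ f a = 1) ∧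
        ∀ w, w ∈ W ↔ ∃ a ∈ D, f a = w := by
  let F : D →* E := MonoidHom.mk' (fun a => f a) fun a b => hf a a.2 b b.2
  refine ⟨F.ker.map D.subtype, F.range, ?_, fun a => ⟨?_, fun ⟨h1, h2⟩ => ⟨⟨a, h1⟩, h2, rfl⟩⟩,
    fun w => ⟨fun ⟨a, ha⟩ => ⟨a, a.2, ha⟩, fun ⟨a, ha, e⟩ => ⟨⟨a, ha⟩, e⟩⟩⟩
  · rw [card_map_of_injective D.subtype_injective, ← index_ker, card_mul_index]
  · rintro ⟨b, hb, rfl⟩
    exact ⟨b.2, hb⟩

theorem comm_of_sqW {E : Subgroup G} (h : ∀ u ∈ E, u * u = 1) {a b : G} (ha : a ∈ E) (hb : b ∈ E) :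
    a * b = b * a := by
  have := h _ (mul_mem ha hb)
  calc a * b = (a * b)⁻¹ := mul_eq_one_iff_eq_inv.1 this
    _ = b⁻¹ * a⁻¹ := mul_inv_rev a b
    _ = b * a := by rw [← mul_eq_one_iff_eq_inv.1 (h a ha), ← mul_eq_one_iff_eq_inv.1 (h b hb)]

theorem eq_one_of_cubeW {T : Subgroup G} (hT : IsPGroup 2 T) {u : G} (hu : u ∈ T) (h3 : u * u * u = 1) :
    u = 1 := by
  obtain ⟨k, hk⟩ := isPGroup_iff_mem.1 hT u hu
  exact (mem_of_coprime_pow (H := ⊥) (a := 2 ^ k) (b := 3) (Nat.Coprime.pow_left k (by decide)) hk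
    (by rw [mem_bot, pow_succ, pow_two, h3]) :)

end tools

variable {G : Type*} [Group G] {σ : G} {φ : NW →* G} {δ : ℕ}

theorem relW_iff (hφ : Function.Injective φ) {n a b : NW} : W2.Rel φ (φ n) a b ↔ n * a * n⁻¹ = b :=
  ⟨fun h => (Rel.conj φ n a).uniq hφ h rfl, fun h => (Rel.conj φ n a).of_eq rfl h⟩

theorem commW_iff (hφ : Function.Injective φ) {n a : NW} : φ n ∈ Cx (φ a) ↔ n * a = a * n := by
  rw [mem_Cx, ← map_mul, ← map_mul, hφ.eq_iff]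

/-! ### The involution `t₃` -/

/-- The action of `g₂ σ` on `J`. -/
noncomputable def f1 (δ : ℕ) (a : NW) : NW := o 256 * o (sgW δ a.v) * (o 256)⁻¹
/-- The action of `t₃ = (g₂ σ)³` on `J`. -/
noncomputable def f3 (δ : ℕ) (a : NW) : NW := f1 δ (f1 δ (f1 δ a))

theorem f1_J : ∀ δ < 2, UT 1024 fun a : NW => InJ a → InJ (f1 δ a) ∧ InJ (o 16 * a * (o 16)⁻¹) ∧
    f3 δ (f3 δ a) = a := by decide +kernel

theorem Ctx.exists_t3 (hδ : δ < 2) (C : Ctx φ σ (128 + δ) (192 + δ)) : ∃ u : G, u * u = 1 ∧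
    (∀ a, InJ a → W2.Rel φ u a (f3 δ a)) ∧ ∃ α, InA α ∧ W2.Rel φ u (o 16) (o 16 * α) := by
  have j1 : ∀ a, InJ a → InJ (f1 δ a) := fun a ha => (f1_J δ hδ a ha.1 ha).1
  have j3 : ∀ a, InJ a → InJ (f3 δ a) := fun a ha => j1 _ (j1 _ (j1 _ ha))
  have r1 : ∀ a, InJ a → W2.Rel φ (φ (o 256) * σ) a (f1 δ a) := fun a ha =>
    (Rel.conj φ _ _).comp (C.relW hδ a ha)
  set k := φ (o 256) * σ
  have r3 : ∀ a, InJ a → W2.Rel φ (k * (k * k)) a (f3 δ a) := fun a ha =>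
    (r1 _ (j1 _ (j1 _ ha))).comp ((r1 _ (j1 _ ha)).comp (r1 _ ha))
  set u := k * (k * k) with hu
  have r6 : ∀ a, InJ a → W2.Rel φ (u * u) a a := fun a ha =>
    ((r3 _ (j3 _ ha)).comp (r3 _ ha)).of_eq rfl (f1_J δ hδ a ha.1 ha).2.2
  have hJ : LA [1, 2, 4, 8, 32, 64, 128, 512] fun j => InJ (o j : NW) := by decide +kernel
  have uu : u * u = 1 := by
    obtain ⟨n, h1, h2⟩ := C.cent _ (mem_Cx'.2 (r6 _ (hJ 32 (by simp)))) (mem_Cx'.2 (r6 _ (hJ 1 (by simp))))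
    have H : ∀ δ < 2, ∀ n : NW, n.v % 512 < 64 → LA [4, 8, 64, 128, 512] (fun j => n * o j * n⁻¹ = o j) →
        InJ n ∧ (f1 δ n = n → n = 1) := by decide +kernel
    obtain ⟨h3, h4⟩ := H δ hδ n h1 fun j hj => (relW_iff C.inj).1 (h2 ▸ r6 _ (hJ j (by
      simp only [List.mem_cons] at hj ⊢; tauto)))
    rw [h2, h4 ((r1 n h3).uniq C.inj (Rel.of_comm (by rw [← h2, hu]; group)) rfl), map_one]
  refine ⟨u, uu, r3, ?_⟩
  have rq : ∀ a, InJ a → W2.Rel φ (u * φ (o 16) * u⁻¹) a (f3 δ (o 16 * f3 δ a * (o 16)⁻¹)) := fun a ha => by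
    rw [← mul_eq_one_iff_eq_inv.1 uu]
    exact ((r3 _ (f1_J δ hδ _ (j3 a ha).1 (j3 a ha)).2.1).comp (Rel.conj φ _ _)).comp (r3 a ha)
  have H1 : ∀ δ < 2, f3 δ (o 16 * f3 δ (o 1) * (o 16)⁻¹) = o 1 ∧ (f3 δ (o 16 * f3 δ (o 32) * (o 16)⁻¹) = o 32 ∨
    f3 δ (o 16 * f3 δ (o 32) * (o 16)⁻¹) = o 33) := by decide +kernel
  obtain ⟨n, h1, h2⟩ := C.normE normE_W (mem_Cx'.2 ((rq _ (hJ 1 (by simp))).of_eq rfl (H1 δ hδ).1))
    ((H1 δ hδ).2.imp ((rq _ (hJ 32 (by simp))).of_eq rfl) ((rq _ (hJ 32 (by simp))).of_eq rfl))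
  have H2 : ∀ δ < 2, ∀ n : NW, n.v % 512 < 128 → n * n = 1 → LA [2, 4, 8, 32, 64]
      (fun j => n * o j * n⁻¹ = f3 δ (o 16 * f3 δ (o j) * (o 16)⁻¹)) → InA ((o 16)⁻¹ * n) := by
    decide +kernel
  refine ⟨_, H2 δ hδ n h1 (C.inj ?_) fun j hj => (relW_iff C.inj).1 (h2 ▸ rq _ (hJ j (by
    simp only [List.mem_cons] at hj ⊢; tauto))), by rw [mul_inv_cancel_left]; exact h2⟩
  have : φ (o 16) * φ (o 16) = 1 := by
    rw [← map_mul, (by decide +kernel : (o 16 : NW) * o 16 = 1), map_one]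
  rw [map_mul, ← h2, map_one, show u * φ (o 16) * u⁻¹ * (u * φ (o 16) * u⁻¹) =
    u * (φ (o 16) * φ (o 16)) * u⁻¹ by group, this, mul_one, mul_inv_cancel]

/-! ### Labels -/

/-- A Sylow 2-subgroup of `C(e)`. -/
abbrev InS (a : NW) : Prop := a.v < 1024 ∧ a.v % 512 < 64

noncomputable def S0 : Subgroup NW := subG InS [o 2, o 4, o 8, o 16, o 32, o 512] 3 (by decide +kernel)

variable [Finite G]

theorem Ctx.sylS (C : Ctx φ σ (128 + δ) (192 + δ)) : IsSylowIn 2 (S0.map φ) (Cx (φ (o 32))) := by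
  have hc : Nat.card (S0.map φ) = 128 := by
    rw [card_map_of_injective C.inj, S0, card_subG]; decide +kernel
  have hle : S0.map φ ≤ Cx (φ (o 32)) := by
    rintro _ ⟨a, ha, rfl⟩
    exact (commW_iff C.inj).2 ((by decide +kernel : UT 1024 fun a : NW => InS a → a * o 32 = o 32 * a) a ha.1 ha)
  refine ⟨hle, IsPGroup.of_card (n := 7) hc, fun ⟨k, hk⟩ => C.syl ⟨k, ?_⟩⟩
  rw [← card_mul_relIndex' hle, hc, hk]; omega

theorem Ctx.noE32 (C : Ctx φ σ (128 + δ) (192 + δ)) {a : NW} (h : IsConj (φ (o 32)) (φ a))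
    {F : Subgroup NW} (ha : a ∈ F) (hF : ∀ u ∈ F, u * u = 1) : Nat.card F < 32 := by
  obtain ⟨g, hg⟩ := isConj_iff.1 h
  have sq : ∀ k, ∀ u ∈ cj k (F.map φ), u * u = 1 := by
    rintro k _ ⟨_, ⟨u, hu, rfl⟩, rfl⟩
    rw [← map_mul, ← map_mul, hF u hu, map_one, map_one]
  obtain ⟨k, -, hk⟩ := C.sylS.exists_cj_le (Q := cj g⁻¹ (F.map φ))
    (isPGroup_iff_mem.2 fun x hx => ⟨1, by rw [pow_one, pow_two, sq _ x hx]⟩) fun x hx =>
      mem_Cx.2 (comm_of_sqW (sq _) hx (mem_cj.2 (by rw [inv_inv, hg]; exact mem_map_of_mem φ ha)))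
  rw [← cj_mul] at hk
  have hc : Nat.card ((cj (k * g⁻¹) (F.map φ)).comap φ) = Nat.card F := by
    rw [← card_map_of_injective C.inj, map_comap_eq_self (hk.trans (map_le_range φ _)), card_cj,
      card_map_of_injective C.inj]
  have hS : ∀ u ∈ (cj (k * g⁻¹) (F.map φ)).comap φ, InS u := fun u hu => by
    obtain ⟨v, hv, e⟩ := hk hu
    exact C.inj e ▸ hv
  have hq : ∀ u ∈ (cj (k * g⁻¹) (F.map φ)).comap φ, u * u = 1 := fun u hu =>
    C.inj (by rw [map_mul, map_one]; exact sq _ _ hu)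
  rw [← hc]
  by_contra hn
  have H : UT 1024 fun u : NW => InS u → u * u = 1 → (u.v < 64 ∧ u.v % 32 < 4) ∨
    cnt (fun n : NW => InS n ∧ n * n = 1 ∧ n * u = u * n) < 32 := by decide +kernel
  have := card_le_cnt _ (fun u : NW => u.v < 64 ∧ u.v % 32 < 4) fun u hu =>
    (H u (hS u hu).1 (hS u hu) (hq u hu)).resolve_right fun h1 => hn ((card_le_cnt _ _ fun n hn =>
      ⟨hS n hn, hq n hn, comm_of_sqW hq hn hu⟩).trans_lt h1)
  exact hn (this.trans_lt (by decide +kernel))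

/-- The elementary abelian groups of order 32 in `J`. -/
abbrev InE (g : ℕ) (a : NW) : Prop := a.v < 1024 ∧ ((a.v < 256 ∧ a.v % 64 < 4) ∨
  ((a * o g).v < 256 ∧ (a * o g).v % 64 < 4))

/-- The conjugates of `e` in `J` lie in eight cosets of `V`. -/
theorem Ctx.labW (hδ : δ < 2) (C : Ctx φ σ (128 + δ) (192 + δ)) (a : NW) (ha : InJ a)
    (h : IsConj (φ (o 32)) (φ a)) : a.v / 4 ∈ [8, 9, 10, 27, 136, 139, 169, 186] := by
  have H : LA [8, 4, 512, 524] fun g => (spB (InE g) [o 1, o 2, o 64, o 128, o g] 3 = true ∧ InE g 1 ∧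
      ∀ a, InE g a → LA [o 1, o 2, o 64, o 128, o g] fun b => InE g (a * b)) ∧ cnt (InE g) = 32 ∧
      ∀ a, InE g a → a * a = 1 := by decide +kernel
  have H2 : UT 1024 fun a : NW => InJ a → a * a = 1 → a.v / 4 ∈ [8, 9, 10, 27, 136, 139, 169, 186] ∨
      LE [8, 4, 512, 524] fun g => InE g a := by decide +kernel
  obtain ⟨g, hg⟩ := isConj_iff.1 h
  refine (H2 a ha.1 ha (C.inj ?_)).resolve_right fun ⟨g, h1, h2⟩ => ?_
  · rw [map_mul, ← hg, map_one, conj_mul, ← map_mul, (by decide +kernel : (o 32 : NW) * o 32 = 1), map_one,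
      mul_one, mul_inv_cancel]
  · have := C.noE32 h (F := subG _ _ _ (H g h1).1) h2 (H g h1).2.2
    rw [card_subG, (H g h1).2.1] at this
    exact this.false

/-- All involutions of `S ∖ M` are conjugate to `e`. -/
theorem Ctx.labW' (hδ : δ < 2) (C : Ctx φ σ (128 + δ) (192 + δ)) (a : NW) (h1 : a.v < 1024)
    (h2 : 32 ≤ a.v % 512) (h3 : a.v % 512 < 64) (h4 : a * a = 1) : IsConj (φ (o 32)) (φ a) := by
  obtain ⟨u, -, hu, -⟩ := C.exists_t3 hδ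
  have H : ∀ δ < 2, UT 1024 fun a : NW => 32 ≤ a.v % 512 → a.v % 512 < 64 → a * a = 1 → ∃ g : NW,
    g * o 32 * g⁻¹ = a ∨ g * f3 δ (o 32) * g⁻¹ = a ∨ g * o 544 * g⁻¹ = a := by decide +kernel
  have H1 : ∀ δ < 2, InJ (o 32 : NW) ∧ InJ (o 544 : NW) ∧ (o 256 : NW) * o 32 * (o 256)⁻¹ = o (sgW δ (o 544 : NW).v) := by
    decide +kernel
  obtain ⟨g, rfl | rfl | rfl⟩ := H δ hδ a h1 h2 h3 h4
  · exact isConj_map_conj φ _ _
  · exact (hu _ (H1 δ hδ).1).isConj.trans (isConj_map_conj φ _ _)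
  · exact ((isConj_map_conj φ (o 256) _).trans
      ((C.relW hδ _ (H1 δ hδ).2.1).of_eq rfl (H1 δ hδ).2.2.symm).isConj.symm).trans (isConj_map_conj φ _ _)

/-- `C(V) ∩ N(⟨e⟩ V) = J`. -/
theorem Ctx.memJ (hδ : δ < 2) (C : Ctx φ σ (128 + δ) (192 + δ)) {g : G} (h1 : g ∈ Cx (φ (o 1)))
    (h2 : g ∈ Cx (φ (o 2))) {v : NW} (hv : v.v < 4) (h3 : W2.Rel φ g (o 32) (o 32 * v)) :
    ∃ a, InJ a ∧ g = φ a := by
  have H : UT 4 fun v : NW => LE [0, 64, 128, 192] fun j => o j * o 32 * (o j)⁻¹ = o 32 * v ∧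
    (o j : NW) * o 1 = o 1 * o j ∧ (o j : NW) * o 2 = o 2 * o j ∧
      ∀ m : NW, m.v % 512 < 64 → m * o 2 = o 2 * m → InJ (o j * m) := by decide +kernel
  obtain ⟨j, -, e1, e2, e3, e4⟩ := H v hv
  obtain ⟨m, h4, h5⟩ := C.cent ((φ (o j))⁻¹ * g) (mem_Cx'.2 (((relW_iff C.inj).2 e1).symm.comp h3))
    (mul_mem (inv_mem ((commW_iff C.inj).2 e2)) h1)
  exact ⟨_, e4 m h4 ((commW_iff C.inj).1 (h5 ▸ mul_mem (inv_mem ((commW_iff C.inj).2 e3)) h2)),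
    by rw [map_mul, ← h5, mul_inv_cancel_left]⟩

end CfsgLib.Yos
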