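import Mathlib
import Cfsg.Agent.Lib.Yos.Defs

/-! Homomorphisms from the models `RG`, `NW`, `NC`. -/

set_option autoImplicit false
set_option maxRecDepth 100000

namespace CfsgLib.Yos

open Subgroup Cfsg CfsgLib.W2 CfsgLib.W2.TG CfsgLib.Tech CfsgLib.CosetEnum

variable {G : Type*} [Group G]

theorem o_zero {n : ℕ} {m : ℕ → ℕ → ℕ} {i : ℕ → ℕ} {h : TOk n m i} : (o 0 : TG h) = 1 :=
  ext' (Nat.zero_mod n)

theorem exists_homR {e x : G} {φ : HM →* G} (ee : e * e = 1) (xx : x * x = 1)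
    (he : ∀ p, e * φ p = φ p * e) (hx : ∀ q < 32, W2.Rel φ x (o q) (o q))
    (xe : x * e * x⁻¹ = e * φ (o 1)) :
    ∃ ψ : RG →* G, (∀ q < 32, ψ (o q) = φ (o q)) ∧ ψ (o 32) = e ∧ ψ (o 64) = x := by
  have d : ∀ a b : RG, (o ((a * b).v % 32) : HM) =
      o (a.v % 32) * o (b.v % 32) * o (a.v / 64 * (b.v / 32 % 2)) ∧
      (a * b).v / 32 % 2 = (a.v / 32 % 2 + b.v / 32 % 2) % 2 ∧
      (a * b).v / 64 = (a.v / 64 + b.v / 64) % 2 := by decide +kernel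
  have L : ∀ j < 2, ∀ i < 2, x ^ j * e ^ i = φ (o (j * i)) * (e ^ i * x ^ j) := fun j hj i hi => by
    have h0 : φ (o 0) = 1 := map_one φ
    interval_cases j <;> interval_cases i <;> simp [h0]
    rw [← mul_assoc, ← he, ← xe, inv_mul_cancel_right]
  refine ⟨MonoidHom.mk' (fun a => φ (o (a.v % 32)) * e ^ (a.v / 32 % 2) * x ^ (a.v / 64))
    fun a b => ?_, fun q hq => ?_, ?_, ?_⟩
  · obtain ⟨d1, d2, d3⟩ := d a b
    have h1 : Commute x (φ (o (b.v % 32))) := (hx _ (Nat.mod_lt _ (by norm_num))).comm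
    have h2 : ∀ p, Commute e (φ p) := he
    have h3 := L (a.v / 64) (by have := a.v_lt; omega) (b.v / 32 % 2) (Nat.mod_lt _ (by norm_num))
    simp only [d1, d2, d3, map_mul, ← pow_eq_pow_mod _ ((sq e).trans ee),
      ← pow_eq_pow_mod (a.v / 64 + b.v / 64) ((sq x).trans xx), pow_add, mul_assoc]
    rw [(h1.pow_left _).left_comm, ((h2 _).pow_left _).left_comm, ← mul_assoc (x ^ _) (e ^ _),
      show e ^ (b.v / 32) = e ^ (b.v / 32 % 2) from pow_eq_pow_mod _ ((sq e).trans ee), h3, mul_assoc,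
      ((h2 _).pow_left _).left_comm, mul_assoc]
  · have h1 : (o q : RG).v = q := v_o (by omega)
    simp [h1, Nat.mod_eq_of_lt hq, Nat.div_eq_of_lt hq, Nat.div_eq_of_lt (show q < 64 by omega)]
  · exact show φ 1 * e ^ 1 * x ^ 0 = e by simp
  · exact show φ 1 * e ^ 0 * x ^ 1 = x by simp

/-- The automorphism of `R` with the given images of the generators. -/
noncomputable def wR (l : List ℕ) (a : RG) : RG := wd (l.map o) a.v

theorem relR {ψ : RG →* G} {u : G} {l : List ℕ}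
    (h : List.Forall₂ (fun p q => W2.Rel ψ u (o p) (o q)) [1, 2, 4, 8, 16, 32, 64] l) (a : RG) :
    W2.Rel ψ u a (wR l a) :=
  (Rel.wd (l := [1, 2, 4, 8, 16, 32, 64].map o) (by simpa only [List.forall₂_map_left_iff,
    List.forall₂_map_right_iff] using h) a.v).of_eq
    ((by decide +kernel : ∀ a : RG, wd ([1, 2, 4, 8, 16, 32, 64].map o) a.v = a) a) rfl

/-- The images of the generators under `ρ`. -/
def lr : List ℕ := [1, 4, 6, 16, 24, 32, 64]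

section build
variable {a1 a2 a3 : ℕ → ℕ → ℕ} {iN : ℕ → ℕ} (h1 : TOk 256 (sdm 128 mR Nat.xor a1) iN)
  (h2 : TOk 512 (sdm 256 (sdm 128 mR Nat.xor a1) Nat.xor a2) iN)
  (h3 : TOk 3072 (sdm 512 (sdm 256 (sdm 128 mR Nat.xor a1) Nat.xor a2) mS a3) iN)

/-- The tables are the ones given by the relations. -/
def BOk (ft fg : RG → RG) (r : RG) : Prop :=
  ((∀ s < 2, ∀ a < 128, a1 s a < 128) ∧ (∀ s < 2, ∀ a < 256, a2 s a < 256) ∧
    ∀ s < 6, ∀ a < 512, a3 s a < 512) ∧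
  (∀ a : RG, o (a1 0 a.v) = a ∧ o (a1 1 a.v) = fg a) ∧
  (∀ c : TG h1, o (a2 0 c.v) = c ∧ (o (a2 1 c.v) : TG h1) =
    o (wR lr (fg (wR lr (wR lr (o (c.v % 128)))))).v *
      ((o 128 * o r.v)⁻¹ * (o (wR lr (fg (wR lr (wR lr r)))).v)⁻¹) ^ (c.v / 128)) ∧
  ∀ c : TG h2, o (a3 0 c.v) = c ∧
    (o (a3 1 c.v) : TG h2) = o (ft (o (c.v % 256 % 128))).v * o 128 ^ (c.v % 256 / 128) *
      (o 256 * o 128 * o r.v) ^ (c.v / 256) ∧
    (o (a3 2 c.v) : TG h2) = o (wR lr (o (c.v % 256 % 128))).v * o 256 ^ (c.v % 256 / 128) *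
      (o 256 * o 128 * o r.v) ^ (c.v / 256) ∧
    ∀ s : TG ok6, a3 (s * o 1).v c.v = a3 s.v (a3 1 c.v) ∧ a3 (s * o 2).v c.v = a3 s.v (a3 2 c.v)

theorem build {ft fg : RG → RG} {r : RG} (H : BOk h1 h2 ft fg r (a3 := a3)) (ψ : RG →* G)
    (χ : TG ok6 →* G) {g : G} (gg : g * g = 1) (hρ : ∀ a, W2.Rel ψ (χ (o 2)) a (wR lr a))
    (ht : ∀ a, W2.Rel ψ (χ (o 1)) a (ft a)) (hg : ∀ a, W2.Rel ψ g a (fg a))
    (tg : χ (o 1) * g * (χ (o 1))⁻¹ = g)
    (hr : g * (χ (o 2) * g * (χ (o 2))⁻¹) * (χ (o 2) * (χ (o 2) * g * (χ (o 2))⁻¹) * (χ (o 2))⁻¹) = ψ r) :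
    ∃ Φ : TG h3 →* G, (∀ a : RG, Φ (o a.v) = ψ a) ∧ Φ (o 128) = g ∧ ∀ s, Φ (o (512 * s.v)) = χ s := by
  obtain ⟨⟨l1, l2, l3⟩, d1, d2, d3⟩ := H
  set ρ := χ (o 2) with eρ
  set t := χ (o 1) with et
  set g2 := ρ * g * ρ⁻¹ with e2
  have c2 : ∀ s : TG ok2, s = o 0 ∨ s = o 1 := by decide +kernel
  have r3 : ρ * ρ * ρ = 1 := by rw [eρ, ← map_mul, ← map_mul, ← map_one χ]; congr 1
  have tr : t * ρ = ρ * ρ * t := by rw [eρ, et, ← map_mul, ← map_mul, ← map_mul]; congr 1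
  have gg2 : g2 * g2 = 1 := by rw [e2, conj_mul, gg]; simp
  have e3 : ρ * g2 * ρ⁻¹ = g2 * g * ψ r := by
    rw [← hr, mul_assoc g, ← mul_assoc (g2 * g), mul_assoc g2, gg, mul_one, ← mul_assoc g2, gg2, one_mul]
  obtain ⟨Φ1, f1⟩ := sd_lift h1 rfl ψ (hom2 g gg) l1 fun s a => by
    rcases c2 s with rfl | rfl
    · exact (show W2.Rel ψ (g ^ 0) a a by simp [W2.Rel]).of_eq rfl (d1 a).1.symm
    · exact (show W2.Rel ψ (g ^ 1) a _ by rw [pow_one]; exact hg a).of_eq rfl (d1 a).2.symm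
  have k1 : ∀ a : RG, Φ1 (o a.v) = ψ a := fun a => by
    have := a.v_lt
    rw [f1, v_o (by omega), Nat.mod_eq_of_lt this, Nat.div_eq_of_lt this, o_v, o_zero, map_one, mul_one]
  have k3 : ∀ c : TG h1, Φ1 c = ψ (o (c.v % 128)) * g ^ (c.v / 128) := fun c => by
    rw [f1, hom2_apply, v_o (by have := c.v_lt; omega)]
  have k2 : Φ1 (o 128) = g := by simp [k3, v_o (show 128 < 256 by norm_num), o_zero]
  have hg2 : ∀ a, W2.Rel ψ g2 a (wR lr (fg (wR lr (wR lr a)))) := fun a =>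
    ((hρ _).comp (hg _)).comp ((hρ a).inv_of_cube r3 (hρ _))
  have e4 : g2 * g * g2⁻¹ = (g * ψ r)⁻¹ * (ψ (wR lr (fg (wR lr (wR lr r)))))⁻¹ := by
    have : g2 * g * ψ r * (g2 * g * ψ r) = 1 := by rw [← e3, conj_mul, gg2]; simp
    rw [← hg2 r, eq_mul_inv_iff_mul_eq, conj_mul, eq_inv_iff_mul_eq_one, inv_eq_of_mul_eq_one_right gg2,
      ← this]
    simp only [mul_assoc]
  obtain ⟨Φ2, f2⟩ := sd_lift h2 rfl Φ1 (hom2 g2 gg2) l2 fun s c => by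
    rcases c2 s with rfl | rfl
    · exact (show W2.Rel Φ1 (g2 ^ 0) c c by simp [W2.Rel]).of_eq rfl (d2 c).1.symm
    · refine (show W2.Rel Φ1 (g2 ^ 1) c _ from ?_).of_eq rfl (d2 c).2.symm
      rw [W2.Rel, pow_one, k3, map_mul, map_pow, map_mul, map_inv, map_inv, map_mul, k1, k1, k1, k2, ← e4,
        ← hg2, conj_pow, conj_mul]
  have m1 : ∀ c : TG h1, Φ2 (o c.v) = Φ1 c := fun c => by
    have := c.v_lt
    rw [f2, v_o (by omega), Nat.mod_eq_of_lt this, Nat.div_eq_of_lt this, o_v, o_zero, map_one, mul_one]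
  have m2 : ∀ a : RG, Φ2 (o a.v) = ψ a := fun a => by
    rw [← k1, ← m1, v_o (by have := a.v_lt; omega)]
  have m3 : Φ2 (o 128) = g := (m1 (o 128)).trans k2
  have m5 : ∀ c : TG h2, Φ2 c = ψ (o (c.v % 256 % 128)) * g ^ (c.v % 256 / 128) * g2 ^ (c.v / 256) :=
    fun c => by rw [f2, hom2_apply, k3, v_o (Nat.mod_lt _ (by norm_num)), v_o (by have := c.v_lt; omega)]
  have m4 : Φ2 (o 256) = g2 := by simp [m5, v_o (show 256 < 512 by norm_num), o_zero]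
  have n1 : ∀ c, W2.Rel Φ2 t c (o (a3 1 c.v)) := fun c => by
    rw [W2.Rel, (d3 c).2.1, m5, map_mul, map_mul, map_pow, map_pow, map_mul, map_mul, m2, m2, m3, m4, ← e3,
      ← ht, ← conj_mul, ← conj_mul, ← conj_pow, ← conj_pow, tg]
    congr 2
    calc t * (ρ * g * ρ⁻¹) * t⁻¹ = t * ρ * g * (t * ρ)⁻¹ := by group
      _ = ρ * (ρ * (t * g * t⁻¹) * ρ⁻¹) * ρ⁻¹ := by rw [tr]; group
      _ = _ := by rw [tg]
  have n2 : ∀ c, W2.Rel Φ2 ρ c (o (a3 2 c.v)) := fun c => by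
    rw [W2.Rel, (d3 c).2.2.1, m5, map_mul, map_mul, map_pow, map_pow, map_mul, map_mul, m2, m2, m3, m4,
      ← e3, ← hρ, ← conj_mul, ← conj_mul, ← conj_pow, ← conj_pow]
  obtain ⟨Φ, f3⟩ := sd_lift h3 rfl Φ2 χ l3 fun s => ind_of_genB (gs := [o 1, o 2]) (D := 3)
    (P := fun s => ∀ c, W2.Rel Φ2 (χ s) c (o (a3 s.v c.v))) (by decide +kernel)
    (fun c => (show W2.Rel Φ2 (χ 1) c c by simp [W2.Rel]).of_eq rfl (d3 c).1.symm) (fun s ih => by
      simp only [List.forall_mem_cons, map_mul]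
      refine ⟨fun c => ((ih _).comp (n1 c)).of_eq rfl ?_, fun c => ((ih _).comp (n2 c)).of_eq rfl ?_,
        by simp⟩
      · rw [((d3 c).2.2.2 s).1, v_o (l3 _ (by norm_num) _ c.v_lt)]
      · rw [((d3 c).2.2.2 s).2, v_o (l3 _ (by norm_num) _ c.v_lt)]) s
  have p1 : ∀ c : TG h2, Φ (o c.v) = Φ2 c := fun c => by
    have := c.v_lt
    rw [f3, v_o (by omega), Nat.mod_eq_of_lt this, Nat.div_eq_of_lt this, o_v, o_zero, map_one, mul_one]
  refine ⟨Φ, fun a => by rw [← m2, ← p1, v_o (by have := a.v_lt; omega)], (p1 (o 128)).trans m3, fun s => ?_⟩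
  have := s.v_lt
  rw [f3, v_o (by omega), Nat.mul_mod_right, Nat.mul_div_cancel_left _ (by norm_num), o_v, o_zero,
    map_one, one_mul]

end build

theorem bokW : BOk ok1W ok2W (wR [1, 2, 6, 11, 31, 32, 64]) (wR [1, 2, 4, 8, 80, 34, 64]) (o 0) (a3 := a3W) := by
  unfold BOk; decide +kernel

theorem bokC : BOk ok1C ok2C (wR [1, 2, 6, 11, 31, 32, 65]) (wR [1, 2, 4, 10, 118, 34, 67]) (o 36)
    (a3 := a3C) := by
  unfold BOk; decide +kernel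

end CfsgLib.Yos
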