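import Mathlib
import Cfsg.Agent.Lib.Yos.Defs
import Cfsg.Agent.S2775

/-! The subgroup `N` is normal and self-centralising in `C(y)` (plans/YOS.md, C3). -/

set_option autoImplicit false
set_option maxRecDepth 100000

namespace CfsgLib.Yos

open Subgroup Cfsg CfsgLib.W2 CfsgLib.W2.TG CfsgLib.Tech CfsgLib.CosetEnum

section general
variable {G : Type*} [Group G] [Finite G]

/-- A four-group on a section of odd order. -/
theorem le_of_four_mod {N B : Subgroup G} (hS : IsSylowIn 2 N B) (hBN : B ≤ normalizer (N : Set G))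
    {a b : G} (ha : a * a = 1) (hb : b * b = 1) (hc : a * b = b * a) (a1 : a ∉ N) (b1 : b ∉ N)
    (ab : a * b ∉ N) (aN : a ∈ normalizer (N : Set G)) (bN : b ∈ normalizer (N : Set G))
    (aB : a ∈ normalizer (B : Set G)) (bB : b ∈ normalizer (B : Set G))
    (h : ∀ d, d = a ∨ d = b ∨ d = a * b → ∀ x ∈ B, x * d * x⁻¹ * d⁻¹ ∈ N → x ∈ N) : B ≤ N := by
  set H := normalizer (N : Set G) with hH
  let f := QuotientGroup.mk' (N.subgroupOf H)
  have hk : ∀ x : H, f x = 1 ↔ (x : G) ∈ N := fun x => QuotientGroup.eq_one_iff x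
  have hD : Odd (Nat.card ((B.subgroupOf H).map f)) := by
    rw [← relIndex_ker, QuotientGroup.ker_mk', relIndex_subgroupOf hBN, ← Nat.not_even_iff_odd,
      even_iff_two_dvd]
    exact hS.not_dvd
  have h1 : ∀ d : H, (d : G) ∈ normalizer (B : Set G) →
      f d ∈ normalizer ((B.subgroupOf H).map f : Set _) := fun d hd => mem_normalizer_of_forall (by
    rintro _ ⟨x, hx, rfl⟩
    exact ⟨d * x * d⁻¹, conj_mem_of_mem_normalizer (x := (x : G)) hd hx, by simp only [map_mul, map_inv]⟩)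
  have h2 : ∀ d : H, (d : G) * d = 1 → (d : G) ∉ N → orderOf (f d) = 2 := fun d e hd =>
    ord_two (by rw [← map_mul, show d * d = 1 from Subtype.ext e, map_one]) fun e' => hd ((hk d).1 e')
  have h3 : ∀ d : H, ((d : G) = a ∨ (d : G) = b ∨ (d : G) = a * b) →
      (B.subgroupOf H).map f ⊓ Cx (f d) ≤ ⊥ := by
    rintro d hd _ ⟨⟨x, hx, rfl⟩, e⟩
    refine (hk x).2 (h d hd x hx ((hk (x * d * x⁻¹ * d⁻¹)).1 ?_))
    rw [map_mul, map_mul, map_mul, map_inv, map_inv, mem_Cx'.1 e, mul_inv_cancel]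
  have h5 := h3 (⟨a, aN⟩ * ⟨b, bN⟩) (Or.inr (Or.inr rfl))
  rw [map_mul] at h5
  have h4 := le_of_four hD (h2 ⟨a, aN⟩ ha a1) (h2 ⟨b, bN⟩ hb b1) (fun e => ab ((hk (⟨a, aN⟩ * ⟨b, bN⟩)).1
      (by rw [map_mul, e, ← map_mul, show (⟨b, bN⟩ : H) * ⟨b, bN⟩ = 1 from Subtype.ext hb, map_one])))
    (by rw [← map_mul, ← map_mul]; exact congrArg f (Subtype.ext hc)) (h1 _ aB) (h1 _ bB)
    (h3 _ (Or.inl rfl)) (h3 _ (Or.inr (Or.inl rfl))) h5
  exact fun x hx => (hk ⟨x, hBN hx⟩).1 (h4 ⟨⟨x, hBN hx⟩, hx, rfl⟩)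

omit [Finite G] in
theorem comm_of_sq {A : Subgroup G} (h2 : ∀ a ∈ A, a * a = 1) {x y : G} (hx : x ∈ A) (hy : y ∈ A) :
    x * y = y * x := by
  have e := inv_eq_of_mul_eq_one_right (h2 _ (mul_mem hx hy))
  rw [mul_inv_rev, inv_eq_of_mul_eq_one_right (h2 x hx), inv_eq_of_mul_eq_one_right (h2 y hy)] at e
  exact e.symm

/-- Goldschmidt: the involutions of `S ∩ ⟨A^G⟩` lie in `A`. -/
theorem gold_top (S : Sylow 2 G) {A : Subgroup G} (h2 : ∀ a ∈ A, a * a = 1)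
    (hsc : IsStronglyClosed A (S : Subgroup G)) (hO : PComp.opOf 2 (normalClosure (A : Set G)) = ⊥)
    {j : G} (hS : j ∈ (S : Subgroup G)) (hj : j ∈ normalClosure (A : Set G)) (jj : j * j = 1) : j ∈ A := by
  obtain ⟨-, -, ⟨T, -, h4⟩, -⟩ := Cfsg.Agent.S2775.result S A
    ⟨⟨fun x y => Subtype.ext (comm_of_sq h2 x.2 y.2)⟩⟩ hsc _ rfl _ (MonoidHom.id _)
    Function.surjective_id (by rw [MonoidHom.ker_id, ← PComp.opOf_subgroupOf, hO, bot_subgroupOf])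
  rw [map_id] at h4
  obtain ⟨n, -, y, hy, e⟩ := (IsSylowIn.of_sylow_subgroup T).exists_conj_mem hj
    (isPGroup_zpowers_of_pow (k := 1) (by rw [pow_one, sq, jj]))
  have h6 : y ∈ A.subgroupOf (normalClosure (A : Set G)) := h4 ▸ mem_sup_right
    (subset_closure ⟨hy, Subtype.ext (by
      change (normalClosure (A : Set G)).subtype y ^ 2 = 1
      rw [e, conj_pow, sq, jj]; group)⟩)
  have h7 : n * j * n⁻¹ ∈ A := e ▸ h6
  simpa [mul_assoc] using hsc.2 _ h7 n⁻¹ (by simpa [mul_assoc] using hS)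

theorem gold_in {K S A : Subgroup G} (hS : IsSylowIn 2 S K) (h2 : ∀ a ∈ A, a * a = 1) (hA : A ≤ S)
    (sc : ∀ k ∈ K, ∀ a ∈ A, k * a * k⁻¹ ∈ S → k * a * k⁻¹ ∈ A)
    (hO : ∀ Y ≤ K, Odd (Nat.card Y) → K ≤ normalizer (Y : Set G) → Y = ⊥) :
    ∃ L, A ≤ L ∧ L ≤ K ∧ K ≤ normalizer (L : Set G) ∧ ∀ j ∈ S, j ∈ L → j * j = 1 → j ∈ A := by
  refine ⟨(normalClosure (A.subgroupOf K : Set K)).map K.subtype, fun a ha =>
    ⟨⟨a, hS.le (hA ha)⟩, le_normalClosure (show _ ∈ A.subgroupOf K from ha), rfl⟩, map_subtype_le _,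
    Core.le_normalizer_map_subtype_of_normal _, ?_⟩
  rintro _ hj ⟨j, hj', rfl⟩ jj
  have hn := PComp.opOf_normal (p := 2) (normalClosure (A.subgroupOf K : Set K))
  refine gold_top hS.toSylow (A := A.subgroupOf K) (fun a ha => Subtype.ext (h2 _ ha))
    ⟨fun a ha => hA ha, fun a ha k hk => sc k k.2 a ha hk⟩ ?_ hj hj' (Subtype.ext jj)
  rw [← map_eq_bot_iff_of_injective _ K.subtype_injective]
  refine hO _ (map_subtype_le _) ?_ (Core.le_normalizer_map_subtype_of_normal _)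
  rw [card_map_of_injective K.subtype_injective]
  exact W2.odd_card_opOf _

end general

variable {Γ : Type*} [Group Γ] {ψ : NC →* Γ}

theorem BCtx.eqz (B : BCtx ψ) {a b : NC} : ψ a = ψ b ↔ a = b ∨ a = b * o 1 := by
  rw [eq_comm, ← inv_mul_eq_one, ← map_inv, ← map_mul, B.ker, inv_mul_eq_one, inv_mul_eq_iff_eq_mul,
    eq_comm]

theorem BCtx.mem_map (B : BCtx ψ) {X : Subgroup NC} (hX : o 1 ∈ X) {a : NC} : ψ a ∈ X.map ψ ↔ a ∈ X := by
  refine ⟨fun ⟨b, hb, e⟩ => ?_, mem_map_of_mem ψ⟩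
  rcases B.eqz.1 e.symm with rfl | rfl
  exacts [hb, mul_mem hb hX]

theorem mem_N0 {a : NC} : a ∈ N0 ↔ InN a := Iff.rfl

theorem mem_T0 {a : NC} : a ∈ T0 ↔ a.v < 1024 := Iff.rfl

theorem BCtx.mem_N (B : BCtx ψ) {a : NC} : ψ a ∈ N0.map ψ ↔ InN a :=
  B.mem_map (mem_N0.2 (by decide +kernel))

theorem BCtx.mem_T (B : BCtx ψ) {a : NC} : ψ a ∈ T0.map ψ ↔ a.v < 1024 :=
  B.mem_map (mem_T0.2 (by decide +kernel))

theorem BCtx.mem_K (B : BCtx ψ) (a : NC) : ψ a ∈ Cx (ψ (o 96)) := by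
  rw [mem_Cx', ← map_inv, ← map_mul, ← map_mul, B.eqz]
  revert a
  decide +kernel

theorem BCtx.sqN (B : BCtx ψ) : ∀ x ∈ N0.map ψ, x * x = 1 := by
  rintro _ ⟨a, ha, rfl⟩
  rw [← map_mul, B.ker]
  exact (by decide +kernel : ∀ a : NC, InN a → a * a = 1 ∨ a * a = o 1) a ha

theorem N0_le_T0 : N0 ≤ T0 := fun a ha => (by decide +kernel : ∀ a : NC, InN a → a.v < 1024) a ha

theorem BCtx.card_map (B : BCtx ψ) {X : Subgroup NC} (hX : o 1 ∈ X) :
    2 * Nat.card (X.map ψ) = Nat.card X := by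
  have h1 : Nat.card ψ.ker = 2 := by
    rw [card_subgroup _ (fun a => a = 1 ∨ a = o 1) fun a => B.ker a]
    decide +kernel
  rw [← relIndex_ker, ← h1]
  refine card_mul_relIndex' fun a ha => ?_
  rcases (B.ker a).1 ha with rfl | rfl
  exacts [one_mem _, hX]

variable [Finite Γ]

theorem BCtx.four (B : BCtx ψ) {Y : Subgroup Γ} (hY : Y ≤ Cx (ψ (o 96))) (h : Odd (Nat.card Y))
    (h1 : ψ (o 8) ∈ normalizer (Y : Set Γ)) (h2 : ψ (o 16) ∈ normalizer (Y : Set Γ)) : Y = ⊥ := by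
  have h3 : ∀ d ∈ [8, 16, 24], Y ⊓ Cx (ψ (o d)) ≤ ⊥ := fun d hd g hg =>
    B.two d hd g (hY hg.1) hg.2 (h.of_dvd_nat (orderOf_dvd_natCard _ hg.1))
  have h4 : ∀ d ∈ [8, 16], orderOf (ψ (o d)) = 2 := fun d hd => ord_two
    (by rw [← map_mul, B.ker]; revert d; decide +kernel) (by rw [Ne, B.ker]; revert d; decide +kernel)
  refine le_bot_iff.1 (le_of_four h (h4 8 (by simp)) (h4 16 (by simp))
    (by rw [Ne, B.eqz]; decide +kernel) (by rw [← map_mul, ← map_mul, B.eqz]; decide +kernel) h1 h2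
    (h3 8 (by simp)) (h3 16 (by simp)) ?_)
  rw [← map_mul, (by decide +kernel : (o 8 * o 16 : NC) = o 24)]
  exact h3 24 (by simp)

theorem BCtx.sylT (B : BCtx ψ) : IsSylowIn 2 (T0.map ψ) ⊤ := by
  have h1 : Nat.card T0 = 1024 := card_subG.trans (by decide +kernel)
  have h2 := B.card_map (X := T0) (mem_T0.2 (by decide +kernel))
  refine ⟨le_top, (IsPGroup.of_card (n := 10) h1).map ψ, fun ⟨k, hk⟩ => B.syl ⟨k, ?_⟩⟩
  have h3 := card_mul_relIndex' (le_top : T0.map ψ ≤ ⊤)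
  rw [card_top, hk, show Nat.card (T0.map ψ) = 512 by omega] at h3
  omega

theorem BCtx.sylK (B : BCtx ψ) : IsSylowIn 2 (T0.map ψ) (Cx (ψ (o 96))) :=
  B.sylT.of_le (by rintro _ ⟨a, -, rfl⟩; exact B.mem_K a) le_top

/-- Lemma B. -/
theorem BCtx.lemB (B : BCtx ψ) {X : Subgroup Γ} (hS : IsSylowIn 2 (N0.map ψ) X)
    (hK : X ≤ Cx (ψ (o 96))) (hN : X ≤ normalizer (N0.map ψ : Set Γ))
    (h1 : ψ (o 8) ∈ normalizer (X : Set Γ)) (h2 : ψ (o 16) ∈ normalizer (X : Set Γ)) : X ≤ N0.map ψ := by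
  have h3 : ∀ d ∈ [8, 16], ψ (o d) ∈ normalizer (N0.map ψ : Set Γ) := fun d hd =>
    mem_normalizer_of_forall (by
      rintro _ ⟨a, ha, rfl⟩
      rw [← map_inv, ← map_mul, ← map_mul, B.mem_N]
      exact (by decide +kernel : ∀ d ∈ [8, 16], ∀ a : NC, InN a → InN (o d * a * (o d)⁻¹)) d hd a ha)
  have h4 : ∀ d ∈ [8, 16, 24], ∀ x ∈ X, x * ψ (o d) * x⁻¹ * (ψ (o d))⁻¹ ∈ N0.map ψ → x ∈ N0.map ψ := by
    rintro d hd x hx ⟨n, hn, e⟩
    have h5 : W2.Rel ψ x (o d) (n * o d) := by rw [W2.Rel, map_mul, e, inv_mul_cancel_right]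
    obtain ⟨m, hm, h6⟩ := (by decide +kernel : ∀ d ∈ [8, 16, 24], ∀ n : NC, InN n →
      n * o d * (n * o d) = 1 → LE [0, 168, 304, 408] fun m => InN (o m) ∧
        (n * o d = o m * o d * (o m)⁻¹ ∨ n * o d = o m * o d * (o m)⁻¹ * o 1)) d hd n hn
      (B.sq x _ _ h5 ((by decide +kernel : ∀ d ∈ [8, 16, 24], (o d * o d : NC) = 1) d hd))
    have h7 : ψ (o m) ∈ N0.map ψ := B.mem_N.2 h6.1
    have h8 : (ψ (o m))⁻¹ * x ∈ X := mul_mem (inv_mem (hS.le h7)) hx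
    have h9 : (ψ (o m))⁻¹ * x ∈ Cx (ψ (o d)) := by
      rw [mem_Cx']
      calc _ = (ψ (o m))⁻¹ * (x * ψ (o d) * x⁻¹) * ψ (o m) := by group
        _ = _ := by rw [h5, B.eqz.2 h6.2, map_mul, map_mul, map_inv]; group
    set g := (ψ (o m))⁻¹ * x with hg
    obtain ⟨k, r, hr, e1⟩ := Nat.exists_eq_two_pow_mul_odd (orderOf_pos g).ne'
    have h10 := B.two d hd (g ^ 2 ^ k) (pow_mem (hK h8) _) (pow_mem h9 _)
      (hr.of_dvd_nat (orderOf_dvd_of_pow_eq_one (by rw [← pow_mul, ← e1, pow_orderOf_eq_one])))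
    have h11 := hS.le_of_normalizes (isPGroup_zpowers_of_pow h10) (zpowers_le.2 h8) (zpowers_le.2 (hN h8))
      (mem_zpowers g)
    simpa [hg] using mul_mem h7 h11
  have e : ψ (o 8) * ψ (o 16) = ψ (o 24) := by
    rw [← map_mul, (by decide +kernel : (o 8 * o 16 : NC) = o 24)]
  refine le_of_four_mod hS hN (by rw [← map_mul, B.ker]; decide +kernel)
    (by rw [← map_mul, B.ker]; decide +kernel) (by rw [← map_mul, ← map_mul, B.eqz]; decide +kernel)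
    (by rw [B.mem_N]; decide +kernel) (by rw [B.mem_N]; decide +kernel)
    (by rw [e, B.mem_N]; decide +kernel) (h3 8 (by simp)) (h3 16 (by simp)) h1 h2 ?_
  rintro d (rfl | rfl | rfl)
  exacts [h4 8 (by simp), h4 16 (by simp), e ▸ h4 24 (by simp)]

/-- Representatives of the cosets of `N` in `T`. -/
def repT : List ℕ := [0, 14, 16, 30, 32, 46, 48, 62, 512, 526, 528, 542, 544, 558, 560, 574]

theorem BCtx.inf_le (B : BCtx ψ) {X : Subgroup Γ} (hN : N0.map ψ ≤ X)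
    (h : ∀ c ∈ repT, ψ (o c) ∈ X → c = 0) : T0.map ψ ⊓ X = N0.map ψ := by
  refine le_antisymm ?_ (le_inf (map_mono N0_le_T0) hN)
  rintro _ ⟨⟨a, ha, rfl⟩, hx⟩
  obtain ⟨c, hc, h1⟩ := (by decide +kernel : ∀ a : NC, a.v < 1024 → LE repT fun c => InN (a * (o c)⁻¹)) a ha
  have h2 := hN (B.mem_N.2 h1)
  rw [map_mul, map_inv, X.mul_mem_cancel_left hx, inv_mem_iff] at h2
  rw [h c hc h2, (by decide +kernel : (o 0 : NC)⁻¹ = 1), mul_one] at h1
  exact B.mem_N.2 h1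

theorem BCtx.normal (B : BCtx ψ) : Cx (ψ (o 96)) ≤ normalizer (N0.map ψ : Set Γ) := by
  obtain ⟨L, h1, h2, h3, h4⟩ := gold_in B.sylK B.sqN (map_mono N0_le_T0) (by
      rintro k hk _ ⟨a, ha, rfl⟩ ⟨b, hb, e⟩
      exact e ▸ B.mem_N.2 (B.sc k hk a b ha hb e.symm))
    fun Y h1 h2 h3 => B.four h1 h2 (h3 (B.mem_K _)) (h3 (B.mem_K _))
  have h5 := B.sylK.inf_of_le_normalizer h3
  rw [inf_eq_right.2 h2, B.inf_le h1 fun c hc h => ?_] at h5
  · have h6 : ∀ d ∈ [8, 16], ψ (o d) ∈ normalizer ((L ⊓ normalizer (N0.map ψ : Set Γ) : Subgroup Γ) : Set Γ) :=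
      fun d hd => mem_normalizer_iff_cj.2 (by
        rw [cj_inf, mem_normalizer_iff_cj.1 (h3 (B.mem_K _)), cj_eq_of_mem]
        refine mem_normalizer_of_forall ?_
        rintro _ ⟨a, ha, rfl⟩
        rw [← map_inv, ← map_mul, ← map_mul, B.mem_N]
        exact (by decide +kernel : ∀ d ∈ [8, 16], ∀ a : NC, InN a → InN (o d * a * (o d)⁻¹)) d hd a ha)
    have h7 := B.lemB (h5.of_le (le_inf h1 le_normalizer) inf_le_left) (inf_le_left.trans h2) inf_le_right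
      (h6 8 (by simp)) (h6 16 (by simp))
    have h8 := PComp.normalizer_le_normalizer_opOf (p := 2) L
    have h9 := le_of_npc (npc_of_burnside h5 fun n hn hn' x hx => comm_of_sq B.sqN (h7 ⟨hn, hn'⟩) hx) h5
      ((B.four ((PComp.opOf_le L).trans h2) (W2.odd_card_opOf L) (h8 (h3 (B.mem_K _)))
        (h8 (h3 (B.mem_K _)))).le.trans bot_le) le_rfl
    rwa [le_antisymm h1 h9]
  · have h6 : ∀ a : NC, ψ a ∈ L → a.v < 1024 → (a * a = 1 ∨ a * a = o 1) → InN a := fun a ha h7 h8 =>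
      B.mem_N.1 (h4 _ (B.mem_T.2 h7) ha (by rwa [← map_mul, B.ker]))
    rcases (by decide +kernel : LA repT fun c => c = 0 ∨ LE [(o c : NC), o c * o c] fun a => a.v < 1024 ∧
      (a * a = 1 ∨ a * a = o 1) ∧ ¬ InN a) c hc with e | ⟨a, ha, h7, h8, h9⟩
    · exact e
    · refine absurd (h6 a ?_ h7 h8) h9
      simp only [List.mem_cons, List.not_mem_nil, or_false] at ha
      rcases ha with rfl | rfl
      exacts [h, map_mul ψ _ _ ▸ mul_mem h h]

theorem BCtx.cent (B : BCtx ψ) : Cx (ψ (o 96)) ⊓ centralizer (N0.map ψ : Set Γ) ≤ N0.map ψ := by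
  have h1 : Cx (ψ (o 96)) ≤ normalizer (centralizer (N0.map ψ : Set Γ) : Set Γ) := fun k hk =>
    mem_normalizer_iff_cj.2 (by rw [cj_centralizer, mem_normalizer_iff_cj.1 (B.normal hk)])
  have h2 := B.sylK.inf_of_le_normalizer h1
  rw [B.inf_le (fun x hx => mem_centralizer_iff.2 fun y hy => comm_of_sq B.sqN hy hx) fun c hc h => ?_] at h2
  · have h3 : ∀ a, ψ a ∈ normalizer ((Cx (ψ (o 96)) ⊓ centralizer (N0.map ψ : Set Γ) : Subgroup Γ) : Set Γ) :=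
      fun a => mem_normalizer_iff_cj.2 (by
        rw [cj_inf, cj_eq_of_mem (B.mem_K a), mem_normalizer_iff_cj.1 (h1 (B.mem_K a))])
    exact B.lemB h2 inf_le_left (inf_le_left.trans B.normal) (h3 _) (h3 _)
  · rcases (by decide +kernel : LA repT fun c => c = 0 ∨ LE [2, 4, 168, 304] fun n => InN (o n) ∧
      ¬ ((o n * o c : NC) = o c * o n ∨ (o n * o c : NC) = o c * o n * o 1)) c hc with e | ⟨n, -, h3, h4⟩
    · exact e
    · exact absurd (B.eqz.1 (by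
        rw [map_mul, map_mul]; exact mem_centralizer_iff.1 h _ (B.mem_N.2 h3))) h4

end CfsgLib.Yos
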