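import Mathlib
import Cfsg.Agent.Lib.Yos.Defs

/-! Package XA of plans/YOS.md: the action of `x` on `C_M(z)`. -/

set_option autoImplicit false
set_option maxRecDepth 100000
set_option synthInstance.maxSize 2000

namespace CfsgLib.Yos

open Subgroup Cfsg CfsgLib.W2 CfsgLib.W2.TG CfsgLib.Tech CfsgLib.CosetEnum

variable {G : Type*} [Group G] {e σ x : G} {M : Subgroup G} {φ : HM →* G}

namespace XAa

/-- the model of `C(e, z)` -/
abbrev HE : Type := HM × TG ok2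

noncomputable def n (a : ℕ) : HE := (o a, 1)
noncomputable def e0 : HE := (1, o 1)

theorem rel_pow {K : Type*} [Group K] {ψ : K →* G} {p q : K} (h : W2.Rel ψ x p q) (k : ℕ) :
    W2.Rel ψ x (p ^ k) (q ^ k) := by
  induction k with
  | zero => simpa using Rel.one
  | succ k ih => rw [pow_succ, pow_succ]; exact ih.mul h

/-- `C_M(V)` -/
abbrev CV (a : HM) : Prop := a.v < 48 ∧ a.v % 32 < 16

/-- the action of `σ` -/
noncomputable def sg (a : HM) : HM := o (tab1 8 255 0x222021230c0e0f0d282a2b29050706040000000000000000000000000000000024262725090b0a082f2d2c2e01030200 a.v)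

/-- the action of `x` -/
noncomputable def xg (b c : ℕ) (a : HM) : HM :=
  o (Nat.xor (Nat.xor a.v (cond (bit a.v 3) (Nat.xor b 8) 0)) (cond (bit a.v 5) c 0))

theorem f1 : ∀ q : HE, q * n 64 * q⁻¹ = (n 64)⁻¹ → LE [0, 1] fun a => LE [0, 1] fun b => LE [0, 1, 2] fun c =>
    q * n 32 = n 1 ^ b * n 64 ^ c * e0 ^ a ∧
      (n 32 * q = n 1 ^ b * n 64 ^ c * (e0 * n 1) ^ a → q = n 32 ∨ q = n 33) := by decide +kernel

theorem f2 : ∀ q : HE, q * q = 1 → q ≠ 1 → q * (n 64 * q * (n 64)⁻¹) * (n 128 * q * (n 128)⁻¹) = 1 →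
    (LA [32, 33] fun c => q * n c = n c * q → q = n 2) ∧
    (q * n 2 = n 2 * q → q * n 4 = n 4 * q * n 1 → q = n 8 ∨ q = n 11) := by decide +kernel

theorem f3 : n 32 * n 64 * (n 32)⁻¹ = (n 64)⁻¹ ∧ n 64 * n 64 = n 128 ∧ n 2 * n 32 = n 32 * n 2 ∧
    n 8 * n 2 = n 2 * n 8 ∧ n 8 * n 4 = n 4 * n 8 * n 1 ∧ n 64 * n 2 * (n 64)⁻¹ = n 4 ∧
    (LA [2, 8] fun a => n a * n a = 1 ∧ n a ≠ 1 ∧
      n a * (n 64 * n a * (n 64)⁻¹) * (n 128 * n a * (n 128)⁻¹) = 1) ∧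
    (o 64 : HM) * o 8 * (o 64)⁻¹ = o 16 ∧ (o 1 : HM) * o 2 = o 3 := by decide +kernel

theorem f4 : LA [8, 11] fun b => LA [0, 1] fun c => ∀ h : HM, h * o 2 * h⁻¹ = o 2 →
    (LA [4, 8, 32] fun p => h * o p * h⁻¹ = xg b c (sg (xg b c (sg (sg (sg (sg (xg b c (sg (o p)))))))))) →
    b = 8 ∧ CV h ∧ LA [0, 1] fun i => sg h = xg b c h * o 1 ^ i → h = o (8 * c + 2 * i) := by
  decide +kernel

theorem f5 : (∀ a : HM, CV a → CV (sg a) ∧ sg (sg (sg a)) = a ∧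
    LA [8, 11] fun b => LA [0, 1] fun c => CV (xg b c a)) ∧ LA [2, 4, 8, 32] fun p => CV (o p) := by
  decide +kernel

end XAa

open XAa

theorem Ctx0.comm_e (C : Ctx0 e M φ σ) (a : HM) : φ a * e = e * φ a :=
  mem_Cx.1 ((C.cent _).2 (.inl ((C.rng _).1 ⟨a, rfl⟩).1))

theorem Ctx0.exists_he (C : Ctx0 e M φ σ) : ∃ ψ : HE →* G, Function.Injective ψ ∧
    (∀ a, ψ a = φ a.1 * e ^ a.2.v) ∧ ∀ g ∈ Cx e, g ∈ Cx (φ (o 1)) → ∃ a, g = ψ a := by
  refine ⟨φ.noncommCoprod (hom2 e C.ee) fun a s => (Commute.pow_right (C.comm_e a) s.v), ?_,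
    fun _ => rfl, fun g h1 h2 => ?_⟩
  · refine (injective_iff_map_eq_one _).2 fun a ha => ?_
    change φ a.1 * e ^ a.2.v = 1 at ha
    rcases (by decide +kernel : ∀ s : TG ok2, s = 1 ∧ s.v = 0 ∨ s.v = 1) a.2 with k | k
    · rw [k.2, pow_zero, mul_one] at ha
      exact Prod.ext (C.inj (ha.trans φ.map_one.symm)) k.1
    · rw [k, pow_one] at ha
      exact absurd (eq_inv_of_mul_eq_one_right ha ▸ inv_mem ((C.rng _).1 ⟨a.1, rfl⟩).1) C.eM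
  · rcases (C.cent g).1 h1 with k | k
    · obtain ⟨a, rfl⟩ := (C.rng g).2 ⟨k, h2⟩
      exact ⟨(a, 1), show φ a = φ a * e ^ 0 by simp⟩
    · obtain ⟨a, ha⟩ := (C.rng _).2 ⟨k, mul_mem h2 (mem_Cx.2 (C.comm_e _).symm)⟩
      exact ⟨(a, o 1), show g = φ a * e ^ 1 by rw [ha, pow_one, mul_assoc, C.ee, mul_one]⟩

theorem Ctx0.rel_sg (C : Ctx0 e M φ σ) (a : HM) (ha : CV a) : W2.Rel φ σ a (sg a) := by
  refine rel_of_gen sg CV [o 2, o 4, o 8, o 32] 4 (by decide +kernel) ?_ a ha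
  have := C.rel
  simp only [List.forall_mem_cons] at this ⊢
  obtain ⟨-, h1, h2, h3, h4, -⟩ := this
  refine ⟨h1.of_eq rfl ?_, h2.of_eq rfl ?_, h3.of_eq rfl ?_, h4.of_eq rfl ?_, by simp⟩ <;> decide +kernel

theorem Ctx0.xa (C : Ctx0 e M φ σ) (X : XD e φ x) : ∃ c i, XA e φ σ x c i := by
  obtain ⟨ψ, inj, hψ, sur⟩ := C.exists_he
  have p1 : ∀ a, ψ (n a) = φ (o a) := fun a => (hψ _).trans (show φ (o a) * e ^ 0 = _ by simp)
  have p2 : ψ e0 = e := by rw [hψ]; exact (congrArg (· * _) φ.map_one).trans ((one_mul _).trans (pow_one e))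
  have up : ∀ {y a b}, W2.Rel φ y (o a) (o b) ↔ W2.Rel ψ y (n a) (n b) := fun {y a b} => by
    simp only [W2.Rel, p1]
  have xi : x⁻¹ = x := inv_eq_of_mul_eq_one_right X.xx
  have xz := up.1 X.xz
  have xr := up.1 X.xr
  have xe : W2.Rel ψ x e0 (e0 * n 1) := by rw [W2.Rel, map_mul, p1, p2, X.xe]
  have ex : ∀ a : ℕ, ∃ q, W2.Rel ψ x (n a) q := fun a => by
    have h1 : x * φ (o a) * x⁻¹ ∈ Cx (φ (o 1)) := by
      rw [← X.xz, conj_mem_Cx, mem_Cx, ← map_mul, ← map_mul,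
        (by decide +kernel : ∀ a : HM, a * o 1 = o 1 * a)]
    have h2 : x * φ (o a) * x⁻¹ ∈ Cx (e * φ (o 1)) := by
      rw [← X.xe, conj_mem_Cx, mem_Cx, C.comm_e]
    obtain ⟨q, hq⟩ := sur _ (Cx_comm.1 ((mul_mem_cancel_right (Cx_comm.1 h1)).1 (Cx_comm.1 h2))) h1
    exact ⟨q, by rw [W2.Rel, p1, hq]⟩
  obtain ⟨g1, g2, g3, g4, g5, g6, g7, g8, g9⟩ := f3
  have xr2 : W2.Rel ψ x (n 128) (n 128) := (xr.mul xr).of_eq g2 g2
  obtain ⟨c, hc, xt⟩ : ∃ c < 2, W2.Rel ψ x (n 32) (n (32 + c)) := by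
    obtain ⟨q, hq⟩ := ex 32
    obtain ⟨a, -, b, -, c, -, h1, h2⟩ := f1 q (((hq.mul xr).mul hq.inv).uniq inj xr.inv g1)
    rcases h2 ((Rel.mul (xi ▸ hq.symm) hq).uniq inj (((rel_pow xz b).mul (rel_pow xr c)).mul
      (rel_pow xe a)) h1) with rfl | rfl
    exacts [⟨0, by omega, hq⟩, ⟨1, by omega, hq⟩]
  have key : ∀ a ∈ [2, 8], ∀ q, W2.Rel ψ x (n a) q →
      (LA [32, 33] fun c => q * n c = n c * q → q = n 2) ∧
      (q * n 2 = n 2 * q → q * n 4 = n 4 * q * n 1 → q = n 8 ∨ q = n 11) := fun a ha q hq =>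
    f2 q ((hq.mul hq).uniq inj Rel.one (g7 a ha).1)
      (fun k => (g7 a ha).2.1 (hq.uniq' inj Rel.one k))
      (((hq.mul ((xr.mul hq).mul xr.inv)).mul ((xr2.mul hq).mul xr2.inv)).uniq inj Rel.one (g7 a ha).2.2)
  have x2 : W2.Rel ψ x (n 2) (n 2) := by
    obtain ⟨q, hq⟩ := ex 2
    exact hq.of_eq rfl ((key 2 (by simp) q hq).1 (32 + c) (by interval_cases c <;> simp)
      ((hq.mul xt).uniq inj (xt.mul hq) g3))
  have x4 : W2.Rel ψ x (n 4) (n 4) := ((xr.mul x2).mul xr.inv).of_eq g6 g6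
  obtain ⟨b, hb, x8⟩ : ∃ b ∈ [8, 11], W2.Rel ψ x (n 8) (n b) := by
    obtain ⟨q, hq⟩ := ex 8
    rcases (key 8 (by simp) q hq).2 ((hq.mul x2).uniq inj (x2.mul hq) g4)
      ((hq.mul x4).uniq inj ((x4.mul hq).mul xz) g5) with rfl | rfl
    exacts [⟨8, by simp, hq⟩, ⟨11, by simp, hq⟩]
  have hc' : c ∈ [0, 1] := by interval_cases c <;> simp
  rw [← up] at x2 x4 x8 xt
  have rx : ∀ a, CV a → W2.Rel φ x a (xg b c a) := by
    refine rel_of_gen (xg b c) CV [o 2, o 4, o 8, o 32] 4 ?_ ?_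
    · simp only [List.mem_cons, List.not_mem_nil, or_false] at hb hc'
      rcases hb with rfl | rfl <;> rcases hc' with rfl | rfl <;> decide +kernel
    · simp only [List.mem_cons, List.not_mem_nil, or_false] at hb hc'
      simp only [List.forall_mem_cons]
      refine ⟨x2.of_eq rfl ?_, x4.of_eq rfl ?_, x8.of_eq rfl ?_, xt.of_eq rfl ?_, by simp⟩ <;>
        rcases hb with rfl | rfl <;> rcases hc' with rfl | rfl <;> decide +kernel
  have c1 : ∀ {a}, CV a → CV (sg a) := fun h => (f5.1 _ h).1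
  have c2 : ∀ {a}, CV a → CV (xg b c a) := fun h => (f5.1 _ h).2.2 b hb c hc'
  have rs := C.rel_sg
  have ri : ∀ a, CV a → W2.Rel φ σ⁻¹ a (sg (sg a)) := fun a h => (rs a h).inv_of_cube C.s3 (rs _ (c1 h))
  have rk : ∀ a, CV a → W2.Rel φ (x * (σ * x * σ⁻¹) * (σ⁻¹ * x * σ)) a
      (xg b c (sg (xg b c (sg (sg (sg (sg (xg b c (sg a))))))))) := fun a h =>
    ((rx _ (c1 (c2 (c1 (c1 (c1 (c1 (c2 (c1 h))))))))).comp (((rs _ (c2 (c1 (c1 (c1 (c1 (c2 (c1 h)))))))).comp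
      (rx _ (c1 (c1 (c1 (c1 (c2 (c1 h)))))))).comp (ri _ (c1 (c1 (c2 (c1 h))))))).comp
      (((ri _ (c2 (c1 h))).comp (rx _ (c1 h))).comp (rs a h))
  have se : σ * e * σ⁻¹ = e := mem_Cx'.1 ((C.cent σ).2 (.inl C.sM))
  have se' : σ⁻¹ * e * σ = e := by rw [mul_assoc, ← mul_inv_eq_iff_eq_mul.1 se, inv_mul_cancel_left]
  have cv : ∀ k ∈ [1, 2, 3], CV (o k) := by decide +kernel
  have ke : x * (σ * x * σ⁻¹) * (σ⁻¹ * x * σ) ∈ Cx e := by
    have h1 : σ⁻¹ * x * σ * e * (σ⁻¹ * x * σ)⁻¹ = e * φ (o 3) := by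
      calc _ = σ⁻¹ * (x * (σ * e * σ⁻¹) * x⁻¹) * σ := by group
        _ = σ⁻¹ * e * σ * (σ⁻¹ * φ (o 1) * σ⁻¹⁻¹) := by rw [se, X.xe]; group
        _ = _ := by rw [se', ri _ (cv 1 (by simp)), (by decide +kernel : sg (sg (o 1)) = o 3)]
    have h2 : σ * x * σ⁻¹ * e * (σ * x * σ⁻¹)⁻¹ = e * φ (o 2) := by
      calc _ = σ * (x * (σ⁻¹ * e * σ) * x⁻¹) * σ⁻¹ := by group
        _ = σ * e * σ⁻¹ * (σ * φ (o 1) * σ⁻¹) := by rw [se', X.xe]; group
        _ = _ := by rw [se, C.rel (1, 2) (by simp)]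
    have h3 : W2.Rel φ (σ * x * σ⁻¹) (o 3) (o 3) :=
      ((C.rel (2, 3) (by simp)).comp x2).comp (C.rel (2, 3) (by simp)).symm
    refine mem_Cx'.2 ?_
    calc _ = x * (σ * x * σ⁻¹ * (σ⁻¹ * x * σ * e * (σ⁻¹ * x * σ)⁻¹) * (σ * x * σ⁻¹)⁻¹) * x⁻¹ := by
          simp only [mul_assoc, mul_inv_rev]
      _ = x * e * x⁻¹ * (x * φ (o 2 * o 3) * x⁻¹) := by
        rw [h1, ← conj_mul (b := σ * x * σ⁻¹), h2, h3, map_mul]; group
      _ = e := by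
        rw [(by decide +kernel : (o 2 * o 3 : HM) = o 1), X.xe, X.xz, mul_assoc, ← map_mul,
          (by decide +kernel : (o 1 * o 1 : HM) = 1), map_one, mul_one]
  have vx : ∀ k ∈ [1, 2], xg b c (sg (xg b c (sg (sg (sg (sg (xg b c (sg (o k))))))))) = o k := by
    simp only [List.mem_cons, List.not_mem_nil, or_false] at hb hc'
    rcases hb with rfl | rfl <;> rcases hc' with rfl | rfl <;> decide +kernel
  obtain ⟨⟨h, s⟩, hk⟩ := sur _ ke (mem_Cx'.2 ((rk _ (cv 1 (by simp))).of_eq rfl (vx 1 (by simp))))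
  replace hk : _ = φ h * e ^ s.v := hk.trans (hψ _)
  have rh : ∀ p, W2.Rel φ (φ h * e ^ s.v) p (h * p * h⁻¹) := fun p =>
    (Rel.conj φ h p).comp (Rel.of_comm (Commute.pow_left (C.comm_e p).symm s.v))
  rw [hk] at rk
  obtain ⟨rfl, h1, h2⟩ := f4 b hb c hc' h ((rh _).uniq C.inj ((rk _ (cv 2 (by simp))).of_eq rfl
    (vx 2 (by simp))) rfl) fun p hp => (rh _).uniq C.inj (rk _ (f5.2 p (List.mem_cons_of_mem _ hp))) rfl
  have hs : s.v < 2 := s.v_lt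
  refine ⟨c, s.v, X, hc, hs, fun q hq => ?_, xt, hk.trans (congrArg (φ · * _)
    (h2 s.v (by generalize s.v = i at hs; interval_cases i <;> simp) (C.inj ?_)))⟩
  · refine rel_of_gen id (fun a => a.v < 32) [o 2, o 4, o 8, o 16] 4 (by decide +kernel) ?_ _
      (by rwa [v_o (by omega)])
    simp only [List.forall_mem_cons]
    exact ⟨x2, x4, x8, ((X.xr.mul x8).mul X.xr.inv).of_eq g8 g8, by simp⟩
  · have h3 : σ * (φ h * e ^ s.v) * σ⁻¹ = x * (φ h * e ^ s.v) * x⁻¹ := by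
      rw [← hk]
      calc _ = σ * x * σ⁻¹ * (σ * σ * x * (σ * σ)⁻¹) * x := by
            simp only [mul_assoc, mul_inv_rev, inv_mul_cancel_left, mul_inv_cancel, mul_one]
        _ = x * x * (σ * x * σ⁻¹ * (σ⁻¹ * x * σ)) * x⁻¹ := by
          rw [eq_inv_of_mul_eq_one_left C.s3, inv_inv, X.xx, xi, one_mul]
        _ = _ := by group
    rw [← conj_mul, ← conj_mul, ← conj_pow, ← conj_pow, se, X.xe, rs h h1, rx h h1,
      (C.comm_e (o 1)).symm, Commute.mul_pow (C.comm_e (o 1)), ← mul_assoc, mul_left_inj] at h3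
    rw [h3, map_mul, map_pow]

end CfsgLib.Yos
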