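import Mathlib
import Cfsg.Agent.Lib.Yos.Defs
import Cfsg.Agent.Lib.Yos.XA
import Cfsg.Agent.Lib.W2.LocM12a

/-! Package A of plans/YOS.md: the data from `M₁₂` and the involution `x`. -/

set_option autoImplicit false
set_option maxRecDepth 100000
set_option synthInstance.maxSize 2000

namespace CfsgLib.Yos

open Subgroup Cfsg CfsgLib.W2 CfsgLib.W2.TG CfsgLib.Tech CfsgLib.CosetEnum

variable {G : Type*} [Group G]

theorem exists_M12 : ∃ φ : HM →* Spor.M12, Cfg φ ∧ gM 7 * gM 7 * gM 7 = 1 ∧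
    (∀ p ∈ [(1, 2), (2, 3), (4, 46), (8, 8), (32, 4)], W2.Rel φ (gM 7) (o p.1) (o p.2)) ∧
    φ (o 16) * gM 7 * φ (o 16) = (gM 7)⁻¹ := by
  obtain ⟨φ, h, -⟩ := pHM_pres.exists_hom (g := gM)
    (f := gv [(o 2 : HM), o 4, o 8, o 16, o 1, o 32, o 64])
    (fun r hr => gM_rels r ((by decide +kernel : ∀ r ∈ sqW [0, 1, 2, 3, 4, 5] ++ pHM_rels,
      r ∈ sqW [0, 1, 2, 3, 4, 5] ++ pM12_rels) r hr)) (by decide +kernel) card_eq.ge
    (eq_top_of_genB (gs := [o 2, o 8, o 32, o 64]) (D := 4) (by decide +kernel) (by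
      simp only [List.forall_mem_cons]
      exact ⟨mem_gen_gv (i := 0) (by simp), mem_gen_gv (i := 2) (by simp),
        mem_gen_gv (i := 5) (by simp), mem_gen_gv (i := 6) (by simp), by simp⟩))
  have h1 : φ (o 1) = gM 4 := map_single h 4 (by simp)
  have a2 : φ (o 2) = gM 0 := map_single h 0 (by simp)
  have a4 : φ (o 4) = gM 1 := map_single h 1 (by simp)
  have a8 : φ (o 8) = gM 2 := map_single h 2 (by simp)
  have a16 : φ (o 16) = gM 3 := map_single h 3 (by simp)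
  have a32 : φ (o 32) = gM 5 := map_single h 5 (by simp)
  let κ := (CG.eqv ok24).toMonoidHom.comp Spor.M12.subtype
  have hκ : Function.Injective κ := (CG.eqv ok24).injective.comp Subtype.val_injective
  have hf : ∀ j, κ (gM j) = fM j := fun j => Subtype.ext (code_gM j)
  have h2 : Function.Injective φ := injective_of_socle φ (z := o 1) (fun e => by
    have := hf 4
    rw [← h1, e, map_one] at this
    revert this; decide +kernel) [o 2, o 4, o 8, o 16] (by decide +kernel)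
  refine ⟨φ, ⟨h2, eq_of_le_of_card_ge ?_ ?_⟩, hκ ?_, ?_, hκ ?_⟩
  · rintro _ ⟨p, rfl⟩
    rw [mem_Cx, ← map_mul, hfM.zc, map_mul]
  · rw [MonoidHom.range_eq_map, card_map_of_injective h2, card_top, card_eq, h1]
    exact card_cent_M12
  · simp only [map_mul, map_one, hf]
    decide +kernel
  · simp only [List.forall_mem_cons, W2.Rel, (by decide +kernel : (o 3 : HM) = o 1 * o 2),
      (by decide +kernel : (o 46 : HM) = o 2 * o 4 * o 8 * o 32), map_mul, h1, a2, a4, a8, a32]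
    refine ⟨hκ ?_, hκ ?_, hκ ?_, hκ ?_, hκ ?_, by simp⟩ <;> simp only [map_mul, map_inv, hf] <;> decide +kernel
  · simp only [a16, map_mul, map_inv, hf]
    decide +kernel

theorem exists_ctx0 {e : G} (he : orderOf e = 2)
    (hC : Nonempty (centralizer ({e} : Set G) ≃* (Multiplicative (ZMod 2) × Spor.M12))) :
    ∃ (M : Subgroup G) (φ : HM →* G) (σ : G), Ctx0 e M φ σ := by
  obtain ⟨f⟩ := hC
  obtain ⟨φ, hφ, h1, h2, h3⟩ := exists_M12
  let ι : Spor.M12 →* G := ((Cx e).subtype.comp f.symm.toMonoidHom).comp (MonoidHom.inr _ _)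
  have hι : Function.Injective ι := fun x y h => congrArg Prod.snd (f.symm.injective (Subtype.ext h))
  have mem : ∀ g : Cx e, g.1 ∈ ι.range ↔ (f g).1 = 1 := fun g =>
    ⟨fun ⟨m, h⟩ => by rw [← show f.symm (1, m) = g from Subtype.ext h, f.apply_symm_apply],
      fun h => ⟨(f g).2, congrArg Subtype.val (f.symm_apply_eq.2 (Prod.ext h.symm rfl))⟩⟩
  have le : ι.range ≤ Cx e := by rintro _ ⟨m, rfl⟩; exact (f.symm _).2
  let e' : Cx e := ⟨e, mem_Cx.2 rfl⟩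
  have h4 : (f e').1 ≠ 1 := fun h => by
    have h5 : (f e').2 ∈ center Spor.M12 := mem_center_iff.2 fun m => by
      have h6 : f.symm (1, m) * e' = e' * f.symm (1, m) := Subtype.ext (mem_Cx.1 (f.symm _).2)
      simpa using congrArg (fun x => (f x).2) h6
    rcases Mathieu.simple_M12.eq_bot_or_eq_top_of_normal (center Spor.M12) inferInstance with k | k
    · rw [k, mem_bot] at h5
      exact ne_one_of_ord he (congrArg Subtype.val (f.map_eq_one_iff.1 (Prod.ext h h5)))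
    · have h6 := mem_center_iff.1 (k.ge (mem_top (φ (o 4)))) (φ (o 8))
      rw [← map_mul, ← map_mul] at h6
      exact absurd (hφ.inj h6) (by decide +kernel)
  refine ⟨ι.range, ι.comp φ, ι (gM 7), hι.comp hφ.inj, sq_of_ord he, fun h => h4 ((mem e').1 h),
    fun g => ⟨fun hg => ?_, fun hg => ?_⟩, fun g => ⟨?_, ?_⟩, ?_, ⟨_, rfl⟩, ?_, fun p hp => ?_, ?_⟩
  · rw [mem ⟨g, hg⟩, show g * e = (⟨g, hg⟩ * e' : Cx e).1 from rfl, mem, map_mul, Prod.fst_mul]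
    revert h4
    generalize (f ⟨g, hg⟩).1 = a, (f e').1 = b
    revert a b
    decide
  · exact hg.elim (fun h => le h) fun h => (mul_mem_cancel_right e'.2).1 (le h)
  · rintro ⟨a, rfl⟩
    exact ⟨⟨_, rfl⟩, mem_Cx.2 (by rw [← map_mul, hfM.zc, map_mul])⟩
  · rintro ⟨⟨m, rfl⟩, h⟩
    obtain ⟨a, rfl⟩ := hφ.range.ge (x := m) (mem_Cx.2 (hι (by rw [map_mul, map_mul]; exact mem_Cx.1 h)))
    exact ⟨a, rfl⟩
  · rw [MonoidHom.range_eq_map, card_map_of_injective hι, card_top, Mathieu.card_M12]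
    decide
  · rw [← map_mul, ← map_mul, h1, map_one]
  · have := congrArg ι (h2 p hp)
    rwa [map_mul, map_mul, map_inv] at this
  · have := congrArg ι h3
    rwa [map_mul, map_mul, map_inv] at this

variable {e σ : G} {M : Subgroup G} {φ : HM →* G}

theorem Ctx0.not_conj (C : Ctx0 e M φ σ) : ¬ IsConj e (φ (o 1)) := by
  intro h
  obtain ⟨g, hg⟩ := isConj_iff.1 h
  have h1 : ∀ a ∈ Cx e, ∃ m ∈ M, ∀ b ∈ Cx e, a * b * a⁻¹ = m * b * m⁻¹ := fun a ha =>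
    ((C.cent a).1 ha).elim (fun k => ⟨a, k, fun _ _ => rfl⟩) fun k => ⟨a * e, k, fun b hb => by
      rw [mul_assoc a e, ← mem_Cx.1 hb]; group⟩
  have h2 : ∀ p : HM, g⁻¹ * φ p * g ∈ Cx e := fun p => by
    rw [← conj_mem_Cx (g := g), hg, mem_Cx]
    simp only [mul_assoc, mul_inv_cancel_left, mul_inv_cancel, mul_one]
    rw [← map_mul, hfM.zc, map_mul]
  obtain ⟨a, ha, h3⟩ := h1 _ (h2 (o 8))
  obtain ⟨b, hb, h4⟩ := h1 _ (h2 (o 4))
  have h5 : e = (g⁻¹ * φ (o 8) * g) * (g⁻¹ * φ (o 4) * g) * (g⁻¹ * φ (o 8) * g)⁻¹ * (g⁻¹ * φ (o 4) * g)⁻¹ := by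
    calc e = g⁻¹ * φ (o 8 * o 4 * (o 8)⁻¹ * (o 4)⁻¹) * g := by
          rw [(by decide +kernel : (o 8 * o 4 * (o 8)⁻¹ * (o 4)⁻¹ : HM) = o 1), ← hg]; group
      _ = _ := by simp only [map_mul, map_inv]; group
  rw [h3 _ (h2 _), mul_assoc, mul_assoc, ← mul_assoc _ a⁻¹, h4 _ (inv_mem ((C.cent a).2 (.inl ha)))] at h5
  exact C.eM (h5 ▸ mul_mem ha (mul_mem (mul_mem hb (inv_mem ha)) (inv_mem hb)))

theorem Ctx0.syl' [Finite G] (C : Ctx0 e M φ σ) : ¬ 256 ∣ Nat.card (Cx e) := by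
  have h1 : M.relIndex (Cx e) = 2 := relIndex_eq_two_iff.2 ⟨e, mem_Cx.2 rfl, fun b hb => by
    by_cases h : b ∈ M
    · exact Or.inr ⟨h, fun k => C.eM ((mul_mem_cancel_left h).1 k)⟩
    · exact Or.inl ⟨((C.cent b).1 hb).resolve_left h, h⟩⟩
  have h2 := card_mul_relIndex' (fun g hg => (C.cent g).2 (.inl hg) : M ≤ Cx e)
  have h3 := C.syl
  rw [h1] at h2
  omega

open XAa

/-- A Sylow 2-subgroup of `HM`. -/
noncomputable def SM : Subgroup HM := subG (fun a => a.v < 64) [o 2, o 4, o 8, o 16, o 32] 4 (by decide +kernel)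

theorem zS : ∀ a : HE, (LA [2, 4, 8, 16, 32] fun d => a * n d = n d * a) →
    a = 1 ∨ a = n 1 ∨ a = e0 ∨ a = e0 * n 1 := by decide +kernel

theorem Ctx0.exists_g [Finite G] (C : Ctx0 e M φ σ) (hO : e ∈ pResidual 2 G) :
    ∃ g, g * e * g⁻¹ = e * φ (o 1) ∧ W2.Rel φ g (o 1) (o 1) := by
  obtain ⟨ψ, inj, hψ, -⟩ := C.exists_he
  have p1 : ∀ a, ψ (n a) = φ (o a) := fun a => (hψ _).trans (show φ (o a) * e ^ 0 = _ by simp)
  have p2 : ψ e0 = e := by rw [hψ]; exact (congrArg (· * _) φ.map_one).trans ((one_mul _).trans (pow_one e))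
  have c1 : Nat.card SM = 64 := card_subG.trans (by decide +kernel)
  set S := (SM.prod ⊤).map ψ with hS
  have c2 : Nat.card S = 128 := by
    rw [card_map_of_injective inj, Nat.card_congr (prodEquiv _ _).toEquiv, Nat.card_prod, c1, card_top, card_eq]
  have hp : IsPGroup 2 S := IsPGroup.of_card (n := 7) c2
  have hc : ∀ p ∈ [e0, n 1], S ≤ Cx (ψ p) := by
    rintro p hp _ ⟨a, -, rfl⟩
    rw [mem_Cx, ← map_mul, ← map_mul, (by decide +kernel : ∀ p ∈ [e0, n 1], ∀ a : HE, a * p = p * a) p hp]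
  have he : S ≤ Cx e := p2 ▸ hc e0 (by simp)
  have hm : ∀ p ∈ [e0, n 1], ψ p ∈ S := fun p hp => mem_map_of_mem ψ
    ⟨(by decide +kernel : ∀ p ∈ [e0, n 1], p.1.v < 64) p hp, mem_top _⟩
  have hz : ∀ g ∈ normalizer (S : Set G), ∀ p ∈ [e0, n 1], ∃ q, W2.Rel ψ g p q ∧
      (q = n 1 ∨ q = e0 ∨ q = e0 * n 1) := fun g hg p hp => by
    obtain ⟨q, -, hq⟩ := conj_mem_of_mem_normalizer hg (hm p hp)
    have h1 : W2.Rel ψ g p q := hq.symm
    refine ⟨q, h1, (zS q fun d hd => inj ?_).resolve_left fun k =>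
      (by decide +kernel : ∀ p ∈ [e0, n 1], p ≠ 1) p hp (h1.uniq' inj Rel.one k)⟩
    have h2 := hc p hp (conj_mem_of_mem_normalizer' hg (mem_map_of_mem ψ (x := n d)
      ⟨(by decide +kernel : ∀ d ∈ [2, 4, 8, 16, 32], (n d).1.v < 64) d hd, mem_top _⟩))
    rw [← conj_mem_Cx (g := g), h1] at h2
    simpa [mul_assoc] using (mem_Cx.1 h2).symm
  have nc : ∀ g, ¬ W2.Rel ψ g e0 (n 1) := fun g h => C.not_conj (p1 1 ▸ p2 ▸ h.isConj)
  have hsy : IsSylowIn 2 S (Cx e) := ⟨he, hp, fun ⟨k, hk⟩ => C.syl' ⟨k, by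
    rw [← card_mul_relIndex' he, c2, hk]; omega⟩⟩
  have hn : ¬ IsSylowIn 2 S ⊤ := fun h => by
    have c3 : Nat.card ((SM.prod ⊥).map ψ) = 64 := by
      rw [card_map_of_injective inj, Nat.card_congr (prodEquiv _ _).toEquiv, Nat.card_prod, c1, card_bot]
    have h1 := card_mul_relIndex' (map_mono (prod_mono le_rfl bot_le) : (SM.prod ⊥).map ψ ≤ S)
    rw [c3, ← hS, c2] at h1
    obtain ⟨t, ⟨a, ha, h2⟩, h3⟩ := thompson_ext (H := S) (Q := (SM.prod ⊥).map ψ)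
      (relIndex_top_right S ▸ h.not_dvd) (by omega) C.ee hO hp he
    have h4 : W2.Rel ψ t⁻¹ e0 a := by rw [W2.Rel, inv_inv, p2, h2]
    obtain ⟨q, h5, h6⟩ := hz t⁻¹ (mem_normalizer_of_forall (by simpa using h3)) e0 (by simp)
    obtain rfl := h4.uniq inj h5 rfl
    rcases h6 with rfl | rfl | rfl
    exacts [nc _ h4, absurd (mem_bot.1 ha.2) (by decide +kernel), absurd (mem_bot.1 ha.2) (by decide +kernel)]
  obtain ⟨R, hR, hlt, -, hN⟩ := exists_lt_pgroup_normalizer hp le_top hn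
  obtain ⟨g, hg, hg'⟩ := SetLike.exists_of_lt hlt
  obtain ⟨q, h1, rfl | rfl | rfl⟩ := hz g (hN hg) e0 (by simp)
  · exact absurd h1 (nc g)
  · exact absurd (hsy.le_of_normalizes (isPGroup_zpowers_of_mem hR hg) (zpowers_le.2 (mem_Cx'.2 (p2 ▸ h1)))
      (zpowers_le.2 (hN hg)) (mem_zpowers g)) hg'
  refine ⟨g, by rw [← p1, ← p2, ← map_mul]; exact h1, ?_⟩
  obtain ⟨q, h2, rfl | rfl | rfl⟩ := hz g (hN hg) (n 1) (by simp)
  · rw [W2.Rel, ← p1]; exact h2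
  · exact absurd h2.symm (nc _)
  · exact absurd (h1.uniq' inj h2 rfl) (by decide +kernel)

theorem Ctx0.exists_x [Finite G] (C : Ctx0 e M φ σ) (hO : e ∈ pResidual 2 G) : ∃ x, XD e φ x := by
  obtain ⟨g, g1, g2⟩ := C.exists_g hO
  obtain ⟨ψ, inj, hψ, sur⟩ := C.exists_he
  have p1 : ∀ a, ψ (n a) = φ (o a) := fun a => (hψ _).trans (show φ (o a) * e ^ 0 = _ by simp)
  have p2 : ψ e0 = e := by rw [hψ]; exact (congrArg (· * _) φ.map_one).trans ((one_mul _).trans (pow_one e))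
  have up : ∀ {y a b}, W2.Rel φ y (o a) (o b) ↔ W2.Rel ψ y (n a) (n b) := fun {y a b} => by
    simp only [W2.Rel, p1]
  have ue : ∀ {y}, y * e * y⁻¹ = e * φ (o 1) ↔ W2.Rel ψ y e0 (e0 * n 1) := fun {y} => by
    rw [W2.Rel, map_mul, p1, p2]
  obtain ⟨q, hq⟩ : ∃ q, W2.Rel ψ g (n 64) q := by
    have h1 : g * φ (o 64) * g⁻¹ ∈ Cx (φ (o 1)) := by
      rw [← g2, conj_mem_Cx, mem_Cx, ← map_mul, hfM.zc, map_mul]
    have h2 : g * φ (o 64) * g⁻¹ ∈ Cx (e * φ (o 1)) := by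
      rw [← g1, conj_mem_Cx, mem_Cx, C.comm_e]
    obtain ⟨q, hq⟩ := sur _ (Cx_comm.1 ((mul_mem_cancel_right (Cx_comm.1 h1)).1 (Cx_comm.1 h2))) h1
    exact ⟨q, by rw [W2.Rel, p1, hq]⟩
  rw [up] at g2
  rw [ue] at g1
  obtain ⟨m, hm⟩ := (by decide +kernel : ∀ q : HE, q * q * q = 1 → q ≠ 1 → ∃ m : HM,
    (m, 1) * q * (m, 1)⁻¹ = n 64) q (((hq.mul hq).mul hq).uniq inj Rel.one (by decide +kernel))
      fun k => absurd (hq.uniq' inj Rel.one k) (by decide +kernel)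
  have hc : ∀ m : HM, LA [n 1, e0 * n 1] fun p => (m, 1) * p * (m, 1)⁻¹ = p := by decide +kernel
  have a1 := ((Rel.conj ψ (m, 1) _).comp g1).of_eq rfl (hc m _ (by simp))
  have a2 := ((Rel.conj ψ (m, 1) _).comp g2).of_eq rfl (hc m _ (by simp))
  have a3 := ((Rel.conj ψ (m, 1) _).comp hq).of_eq rfl hm
  generalize ψ (m, 1) * g = k at a1 a2 a3
  have a4 : W2.Rel ψ k (e0 * n 1) e0 := (a1.mul a2).of_eq rfl (by decide +kernel)
  obtain ⟨r, hr⟩ := sur (k * k) (mem_Cx'.2 (p2 ▸ a4.comp a1)) (mem_Cx'.2 (p1 1 ▸ a2.comp a2))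
  have a5 : W2.Rel ψ k r r := by rw [W2.Rel, ← hr]; group
  have b1 := (a1.comp a4).comp a1
  have b2 := (a2.comp a2).comp a2
  have b3 := (a3.comp a3).comp a3
  have b4 : k * k * k * (k * k * k) = ψ (r * r * r) := by rw [map_mul, map_mul, ← hr]; group
  have a6 := (a5.mul a5).mul a5
  generalize k * k * k = x at b1 b2 b3 b4
  rcases (by decide +kernel : ∀ r : HE, r * n 64 * r⁻¹ = n 64 → r * r * r = 1 ∨ r * r * r = n 1 ∨
    r * r * r = e0 ∨ r * r * r = e0 * n 1) r ((Rel.conj ψ r _).uniq inj (hr ▸ a3.comp a3) rfl) with h | h | h | h <;>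
    rw [h] at b4 a6
  · exact ⟨x, b4.trans (map_one ψ), ue.2 b1, up.2 b2, up.2 b3⟩
  · have c : ∀ p, W2.Rel ψ e p p := fun p => p2 ▸ (Rel.conj ψ e0 p).of_eq rfl
      ((by decide +kernel : ∀ p : HE, e0 * p * e0⁻¹ = p) p)
    refine ⟨x * e, ?_, ue.2 (b1.comp (c _)), up.2 (b2.comp (c _)), up.2 (b3.comp (c _))⟩
    calc x * e * (x * e) = x * ψ e0 * x⁻¹ * (x * x) * ψ e0 := by rw [p2]; group
      _ = 1 := by
        rw [b1, b4, ← map_mul, ← map_mul, (by decide +kernel : e0 * n 1 * n 1 * e0 = 1), map_one]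
  · exact absurd (a6.uniq inj a1 rfl) (by decide +kernel)
  · exact absurd (a6.uniq inj a4 rfl) (by decide +kernel)

end CfsgLib.Yos
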