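import Mathlib
import Cfsg.Agent.Lib.Yos.Defs
import Cfsg.Agent.Lib.Sect.Tools

/-! Package C1 of plans/YOS.md: labels of involutions, the Sylow subgroup, the quotient by `z`. -/

set_option autoImplicit false
set_option maxRecDepth 100000
set_option synthInstance.maxSize 2000

namespace CfsgLib.Yos

open Subgroup Cfsg CfsgLib.W2 CfsgLib.W2.TG CfsgLib.Tech CfsgLib.CosetEnum

variable {G : Type*} [Group G] [Finite G] {σ : G} {φ : NC →* G} {δ : ℕ}

namespace C1a

/-- an element conjugating an involution to the representative of its class -/
noncomputable def wit (a : NC) : NC := o (tab1 12 4095 0x71871400000071071c00000000000000000000000000000000000000000000000000000000000000000000000071871400000071071c00000000000000000000000000000070070c00000070470800000000000000000000000000000071871400000071071c00000000000000000000000000000070c70000000070870400000000000000000000000000000000000000000000000000000000000000000000000000000000000070c700000000708704000000000000000000000000000000000000000000000000000000000000000000000000000000000000000000000000000000000000000000000000000000000000000000000000000000000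00000000000000000000000000000000000000000000000000000000000000000000000000000000000000000000000000000000000000000000000000000000000000000000000000000000000000000000000000000000000000000000000000000000000000000000000000000000000000000000000000000000000000061461800000061c61000000000000000000000000000000000000060460800000060060c00000000000000000000000000000000000000000000000000000000000000000000000000000000000000000000000000000000000000000000000061861400000061061c00000000000000000000000000000000000060860400000060c60000000000000000000000000061861400000061061c00000000000000000000000000000000000060860400000060c60000000000000000000000000000000000000000000000000000000000000000000000000000000000000000000000000000000000000000000000000000000000000000000000000000000000000000000000000000000000000000000000000000000000000000000000000000000000000000000000000000000000000000000000000000000000000000000000000000000000000000000000000000000000000000000000000000000000000000000000000000000000000000000000000000000000000000000000000000000000000000000000000000000000000000000000000000000000000000000000000000000000000000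000000000000000000000000000000000000000000000000000000000000000000000000000000000000000000000000000000000000000000000000000000000000000000000000000000000000000000000000000000000000000000000000000000000000000000000000000000000000000000000000000000000000000000000000000000000000000000000000000000000000000000000000000000000000000000000000000000000000000000000000000000000000000000000000000000000000000000000000000000000000000000000000000000000000000000000000000000000000000000000000000000000000000000000000000000000000000000000000000000000000000000000000000000000000000000000000000000000000000000000000000000000000000000000000000000000000000000000000000000000000000000000000000000000000000000000000000000000000000000000000000000000000000000000000000000000000000000000000000000000000000000000000000000000000000000000000000000000000000000000000000000000000000000000000000000000000000000000000000000000000000000000000000000000000000000000000000000000000000000000000000000000000000000000000000000000000000000000000000000000000000000000000000000000051851400000000000051051c0000000000000000000000000000000000000000000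0000050450800000000000050050c00000051851451051c00000000000000000000000000000000000000000000000000000000000000000000000000000000000000000000000000000000000000000000000000000000000000000000000000000000000050850450c50000000051851400000000000051051c00000000000000000000000000000000000000000000000050850400000000000050c50000000000000000000000000000000000000000000000000000000000000000000000000000000000000000000000000000000000000000000000000000000000000000000000000000000000000000000000000000000000000000000000000000000000000000000000000000000000000000000000000000000000000000000000000000000000000000000000000000000000000000000000000000000000000000000000000000000000000000000000000000000000000000000000000000000000000000000000000000000000000000000000000000000000000000000000000000000000000000000000000000000000000000000000000000000000000000000000000000000000000000000000000000000000000000000000000000000000000000000000000000000000000000000000000000000000000000000000000000000000000000000000000000000000000000000000000000000000000000000000000000000000000000000000000000000000000000000000000000000041c410414418000000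00000000000000000000000000000000000000000000000040840400000000000040c40000000000000000000000000000000000000000000000000000000000000000000000000000000000000000000000000000000041c41041441800000000000000000000000000000000000000000000000000000040840400000000000040c40000000041c41041441800000000000000000000000000000000000000000000000000000040840400000000000040c40000000000000000000000000000000000000000000000000000000000000000000000000000000000000000000000000000000000000000000000000000000000000000000000000000000000000000000000000000000000000000000000000000000000000000000000000000000000000000000000000000000000000000000000000000000000000000000000000000000000000000000000000000000000000000000000000000000000000000000000000000000000000000000000000000000000000000000000000000000000000000000000000000000000000000000000000000000000000000000000000000000000000000000000000000000000000000000000000000000000000000000000000000000000000000000000000000000000000000000000000000000000000000000000000000000000000000000000000000000000000000000000000000000000000000000000000000000000000000000000000000000000000000000000000000000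00000000000000000000000000000000000000000000000000000000000000000000000000000000000000000000000000000000000000000000000000000000000000000000000000000000000000000000000000000000000000000000000000000000000000000000000000000000000000000000000000000000000000000000000000000000000000000000000000000000000000000000000000000000000000000000000000000000000000000000000000000000000000000000000000000000000000000000000000000000000000000000000000000000000000000000000000000000000000000000000000000000000000000000000000000000000000000000000000000000000000000000000000000000000000000000000000000000000000000000000000000000000000000000000000000000000000000000000000000000000000000000000000000000000000000000000000000000000000000000000000000000000000000000000000000000000000000000000000000000000000000000000000000000000000000000000000000000000000000000000000000000000000000000000000000000000000000000000000000000000000000000000000000000000000000000000000000000000000000000000000000000000000000000000000000000000000000000000000000000000000000000000000000000000000000000000000000000000000000000000000000000000000000000000000000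0000000000000000000000000000000000000000000000000000000000000000000000000000000000000000000000000000000000000000000000000000000000000000000000000000000000000000000000000000000000000000000000000000000000000000000000000000000000000000000000000000000000000000000000000000000000000000000000000000000000000000000000000000000000000000000000000000000000000000000000000000000000000000000000000000000000000000000000000000000000000000000000000000000000000000000000000000000000000000000000000000000000000000000000000011011c11811400000000000000000000000000000000000000000000000000000000000000000000000011011c11811400000000000010c10010810400000000000000000000000000000000000000000000000000000000000011c11011411800000000000010c10010810400000000000000000000000000000000000000000000000000000000000000000000000000000000000000000000000010c10010810400000000000000000000000000000000000000000000000001c01001401800000000000000000000000000800400c00000000000000000000000000000000000000000000000000000000000000000000000000000000000000000000000000000000000000000000000000000000000000000000000000001c010014018000000000000000000000000008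00400c00000000000000000000000000000000000000000000000000001c01001401800000000000000000000000000800400c00041841c00000000000041441000000000000000000000000000000000000000000000000000000000000000000000000000000000000000000000000000000000000000000000000000000000000000000000000041845051055855051845841000000000000000000000000000000000000000000000000000000000000000000000000054050844840044040854850000000040040440840c00000000000000000000000000000000000000000000000000000000000000000000000000000000000000000000000000000000000000000000000000000000000000000000000000000065861075071861865071075800000000000000000000000061861c00000061461000000000000000000000000000000000000000000000000000000000000000000000000000000000000060060400000060860c00000000000000000000000000000000000000000000000000000000000000000000000000000000000000000000000000000000000000000000000074870064060874070864860000000000000000000000000000000000000000000000000000000000000000000000000001005805001811815015811000000000000000000000000000000000000000000000000001401001801c00000000000000000000000000000000000000000000000000000000000000000000000000000000000000000000000000c008004000000000000000000000000000000000000000000000000000000000000000000000000000000000000000000000000000148100140108040008048000000000500504580584000000780784000000700704000000100104180184000000000000000000000000000000000000500504000000000000b00b040000009009040000007007040000000000001001043003041a01801001200800a0020000a00a040000000000004044000000006006040000008048000000000000002002040040001c01801401000c0080040000484480000000000000404400000000600604000000680684000000000000084080004000410400610600010000000000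 a.v)

noncomputable def cls (a : NC) : NC := wit a * a * (wit a)⁻¹

theorem f1 : ∀ a : NC, a * a = 1 → a ≠ 1 → (IsZ a ∧ LE [1, 2, 64, 168, 512] fun r => cls a = o r) ∨
    (¬ IsZ a ∧ LE [8, 32, 40, 128, 544, 608] fun r => cls a = o r) := by decide +kernel

theorem f2 : ∀ δ < 2, LA [(1, 1, 2), (4, 2, 512), (64, 64, 512), (68, 64, 168), (36, 32, 544), (72, 40, 608),
    (108, 8, 128), (132, 128, 544), (224, 128, 608)] fun t => InJ (o t.1 : NC) ∧ cls (o t.1) = o t.2.1 ∧
      cls (o (sgC δ (o t.1 : NC).v)) = o t.2.2 := by decide +kernel

theorem f3 : ∀ a : NC, a * o 1 = o 1 * a := by decide +kernel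

theorem f4 : cnt (fun a : NC => a.v < 1024) = 1024 ∧
    cnt (fun a : NC => a.v < 1024 ∧ a * a = 1 ∧ a ≠ 1 ∧ ¬ IsZ a) = 136 ∧
    cnt (fun a : NC => a.v % 512 < 128 ∧ a.v % 2 = 0) = 384 ∧
    (o 32 : NC) * o 32 = 1 ∧ (o 32 : NC) ≠ 1 ∧ (o 1 : NC) * o 1 = 1 ∧ (o 1 : NC) ≠ 1 ∧
    (o 96 : NC) * o 96 = o 1 ∧ (o 96 : NC) * o 1 = o 97 ∧ (o 32 : NC) * o 1 = o 33 ∧
    (LA [1, 96, 97] fun k => InN (o k) ∧ (o k : NC).v < 1024) ∧
    (LA [8, 16, 24] fun d => (o 96 : NC) * o d * (o 96)⁻¹ = o d) ∧
    (o 1024 : NC) * o 8 * (o 1024)⁻¹ = o 16 ∧ (o 1024 : NC) * o 16 * (o 1024)⁻¹ = o 24 := by decide +kernel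

theorem f5 : ∀ a : NC, (InN a → a * o 96 = o 96 * a ∧ (a * a = 1 → a = 1 ∨ IsZ a) ∧
      (a * a = 1 ∨ a * o 96 * (a * o 96) = 1)) ∧
    (a.v < 1024 → IsZ a → (a * o 96 = o 96 * a ∨ a * o 97 = o 97 * a) → InN a) ∧
    (a.v % 512 < 128 → a.v % 2 = 0 ∨ (a * o 1).v % 512 < 128 ∧ (a * o 1).v % 2 = 0) ∧
    (a * o 32 * a⁻¹).v < 40 ∧ (a * o 32 * a⁻¹ * o 1).v < 40 := by decide +kernel

theorem f6 : ∀ n : NC, n.v % 512 < 64 → (n ^ 3) ^ 8 = 1 ∧ (n ^ 3 = 1 → n = 1 ∨
    ∀ u : NC, u.v % 512 < 64 → u * u = o 1 → n * u ≠ u * n) := by decide +kernel

/-- words in `σ` and `g₂` -/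
def wG (σ g : G) (l : List Bool) : G := (l.map fun b => cond b σ g).prod

noncomputable def wN (δ : ℕ) (l : List Bool) (a : NC) : NC :=
  l.foldr (fun b a => cond b (o (sgC δ a.v)) (o 256 * a * (o 256)⁻¹)) a

theorem f7 : ∀ δ < 2, (∀ a : NC, InJ a → InJ (o (sgC δ a.v) : NC) ∧ InJ (o 256 * a * (o 256)⁻¹ : NC)) ∧
    (LA [1, 32, 96] fun k => InJ (o k : NC)) ∧
    wN δ [false, true, false, true, false, true, true, false, true, true] (o 1) = o 1 ∧
    o 512 ^ δ * wN δ [false, true, false, true, false, true, true, false, true, true] (o 32) * (o 512 ^ δ)⁻¹ = o 8 ∧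
    wN δ [true, false, true, false, true] (o 1) = o 1 ∧
    (wN δ [true, false, true, false, true] (o 96) = o 96 ∨
      wN δ [true, false, true, false, true] (o 96) = o 96 * o 1) ∧
    40 ≤ (wN δ [true, false, true, false, true] (o 32)).v := by decide +kernel

theorem dvd_card {R X : Type*} [Group R] [MulAction R X] [Finite X] {m : ℕ}
    (h : ∀ x : X, m ∣ (MulAction.stabilizer R x).index) : m ∣ Nat.card X := by
  classical
  have := Fintype.ofFinite (MulAction.orbitRel.Quotient R X)
  rw [Nat.card_congr (MulAction.selfEquivSigmaOrbits R X), Nat.card_sigma]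
  exact Finset.dvd_sum fun ω _ => (h _).trans (MulAction.index_stabilizer R _).dvd

end C1a

open C1a

theorem Ctx.lab (hδ : δ < 2) (C : Ctx φ σ (678 + δ) (716 + δ)) (a : NC) (h1 : a * a = 1) (h2 : a ≠ 1) :
    IsConj (φ a) (φ (if IsZ a then o 1 else o 32)) := by
  have k : ∀ t ∈ [(1, 1, 2), (4, 2, 512), (64, 64, 512), (68, 64, 168), (36, 32, 544), (72, 40, 608),
      (108, 8, 128), (132, 128, 544), (224, 128, 608)], IsConj (φ (o t.2.1)) (φ (o t.2.2)) := fun t ht => by
    obtain ⟨k1, k2, k3⟩ := f2 δ hδ t ht
    rw [← k2, ← k3]
    exact ((isConj_map_conj φ _ _).symm.trans (C.relC hδ _ k1).isConj).trans (isConj_map_conj φ _ _)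
  simp only [List.forall_mem_cons] at k
  obtain ⟨k1, k2, k3, k4, k5, k6, k7, k8, k9, -⟩ := k
  refine (isConj_map_conj φ (wit a) a).trans ?_
  rcases f1 a h1 h2 with ⟨h3, r, hr, e⟩ | ⟨h3, r, hr, e⟩
  · rw [if_pos h3, show wit a * a * (wit a)⁻¹ = o r from e]
    simp only [List.mem_cons, List.not_mem_nil, or_false] at hr
    rcases hr with rfl | rfl | rfl | rfl | rfl
    exacts [IsConj.refl _, k1.symm, (k3.trans k2.symm).trans k1.symm,
      ((k4.symm.trans k3).trans k2.symm).trans k1.symm, k2.symm.trans k1.symm]
  · rw [if_neg h3, show wit a * a * (wit a)⁻¹ = o r from e]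
    simp only [List.mem_cons, List.not_mem_nil, or_false] at hr
    rcases hr with rfl | rfl | rfl | rfl | rfl | rfl
    exacts [(k7.trans k8).trans k5.symm, IsConj.refl _, ((k6.trans k9.symm).trans k8).trans k5.symm,
      k8.trans k5.symm, k5.symm, (k9.symm.trans k8).trans k5.symm]

theorem Ctx.sylG (hδ : δ < 2) (C : Ctx φ σ (678 + δ) (716 + δ)) : ¬ 2048 ∣ Nat.card G := fun h => by
  have h1 : Nat.card (T0.map φ) = 1024 := (card_map_of_injective C.inj).trans (card_subG.trans f4.1)
  obtain ⟨R, hR, h2, -, h3⟩ := exists_lt_pgroup_normalizer (p := 2) (IsPGroup.of_card (n := 10) h1) le_top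
    fun k => k.not_dvd (by
      rw [← card_mul_index (T0.map φ), h1] at h
      rw [relIndex_top_right]
      exact Nat.dvd_of_mul_dvd_mul_left (k := 1024) (by omega) h)
  obtain ⟨k, hk⟩ := hR.exists_card_eq
  have h4 : 2 ^ 11 ∣ Nat.card R := by
    have := Sect.two_mul_card_le h2.le h2.not_ge
    rw [h1, hk] at this
    exact hk ▸ pow_dvd_pow 2 ((Nat.pow_le_pow_iff_right one_lt_two).1 this)
  let X : Set G := {g | g ∈ T0.map φ ∧ IsConj g (φ (o 32))}
  have h5 : X = φ '' {a | a.v < 1024 ∧ a * a = 1 ∧ a ≠ 1 ∧ ¬ IsZ a} := by
    refine Set.ext fun g => ⟨?_, ?_⟩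
    · rintro ⟨⟨a, ha, rfl⟩, e⟩
      obtain ⟨c, hc⟩ := isConj_iff.1 e
      have e1 : a * a = 1 := ((Rel.mul hc hc).uniq' C.inj Rel.one f4.2.2.2.1)
      have e2 : a ≠ 1 := fun k => f4.2.2.2.2.1 (Rel.uniq C.inj hc Rel.one k)
      refine ⟨a, ⟨ha, e1, e2, fun k => C.nc (e.symm.trans ?_)⟩, rfl⟩
      simpa only [if_pos k] using C.lab hδ a e1 e2
    · rintro ⟨a, ⟨e0, e1, e2, e3⟩, rfl⟩
      exact ⟨⟨a, e0, rfl⟩, by simpa only [if_neg e3] using C.lab hδ a e1 e2⟩
  letI : MulAction R X :=
    { smul := fun g x => ⟨g * x * (g : G)⁻¹, conj_mem_of_mem_normalizer (h3 g.2) x.2.1,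
        (isConj_iff.2 ⟨g, rfl⟩ : IsConj (x : G) _).symm.trans x.2.2⟩
      one_smul := fun x => Subtype.ext (show (1 : G) * x * 1⁻¹ = x by simp)
      mul_smul := fun g k x => Subtype.ext (show (g * k : G) * x * (g * k : G)⁻¹ =
        g * (k * x * (k : G)⁻¹) * (g : G)⁻¹ by group) }
  have h6 := dvd_card (R := R) (X := X) (m := 2 ^ 4) fun x => by
    obtain ⟨i, -, hi⟩ := (Nat.dvd_prime_pow Nat.prime_two).1 (hk ▸ index_dvd_card (MulAction.stabilizer R x))
    by_contra h7
    obtain ⟨c, hc⟩ := isConj_iff.1 x.2.2
    have h8 := card_dvd_of_le (show (MulAction.stabilizer R x).map R.subtype ≤ Cx (x : G) from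
      map_le_iff_le_comap.2 fun g hg => mem_Cx'.2 (congrArg Subtype.val hg))
    rw [card_map_of_injective R.subtype_injective, ← card_cj c, cj_Cx, hc] at h8
    rw [← card_mul_index (MulAction.stabilizer R x)] at h4
    refine C.syl ((Nat.dvd_of_mul_dvd_mul_right (k := 2 ^ 3) (by omega) (h4.trans (Nat.mul_dvd_mul_left _ ?_))).trans h8)
    rw [hi] at h7 ⊢
    exact pow_dvd_pow 2 (by_contra fun k => h7 (pow_dvd_pow 2 (by omega)))
  rw [h5, Nat.card_coe_set_eq, Set.ncard_image_of_injective _ C.inj, ← Nat.card_coe_set_eq] at h6
  exact absurd (h6.trans ((TG.card_subtype _).trans f4.2.1).dvd) (by decide)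

theorem Ctx.rel_w (hδ : δ < 2) (C : Ctx φ σ (678 + δ) (716 + δ)) (l : List Bool) {a : NC} (ha : InJ a) :
    InJ (wN δ l a) ∧ W2.Rel φ (wG σ (φ (o 256)) l) a (wN δ l a) := by
  induction l with
  | nil => exact ⟨ha, by simp [W2.Rel, wG, wN]⟩
  | cons b l ih =>
    cases b
    exacts [⟨((f7 δ hδ).1 _ ih.1).2, (Rel.conj φ _ _).comp ih.2⟩,
      ⟨((f7 δ hδ).1 _ ih.1).1, (C.relC hδ _ ih.1).comp ih.2⟩]

theorem Ctx.exists_bar (hδ : δ < 2) (C : Ctx φ σ (678 + δ) (716 + δ)) {Γ : Type*} [Group Γ]
    (π : Cx (φ (o 1)) →* Γ) (hπ : Function.Surjective π)
    (hk : ∀ k, π k = 1 ↔ k.1 = 1 ∨ k.1 = φ (o 1)) :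
    ∃ ψ : NC →* Γ, BCtx ψ ∧ ∀ a h, ψ a = π ⟨φ a, h⟩ := by
  have hz : ∀ a, φ a ∈ Cx (φ (o 1)) := fun a => mem_Cx.2 (by rw [← map_mul, f3, map_mul])
  obtain ⟨ψ, hψ⟩ : ∃ ψ : NC →* Γ, ∀ a, ψ a = π ⟨φ a, hz a⟩ := ⟨π.comp (φ.codRestrict _ hz), fun _ => rfl⟩
  obtain ⟨-, -, g3, -, -, g6, g7, g8, g9, g10, g11, g12, g13, g14⟩ := f4
  obtain ⟨-, j1, j2, j3, j4, j5, j6⟩ := f7 δ hδ
  have lift : ∀ {k : Cx (φ (o 1))} {a b}, W2.Rel ψ (π k) a b ↔
      W2.Rel φ k a b ∨ W2.Rel φ k a (b * o 1) := fun {k a b} => by
    rw [W2.Rel, hψ, hψ, ← map_inv, ← map_mul, ← map_mul, ← inv_mul_eq_one, ← map_inv, ← map_mul,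
      ← inv_eq_one, ← map_inv, hk, mul_inv_rev, inv_inv]
    simp only [W2.Rel, map_mul, coe_mul, coe_inv, inv_mul_eq_iff_eq_mul, mul_one]
  have kz : ∀ k : Cx (φ (o 1)), W2.Rel φ k (o 1) (o 1) := fun k => mem_Cx'.1 k.2
  have ker : ∀ a, ψ a = 1 ↔ a = 1 ∨ a = o 1 := fun a => by
    rw [hψ, hk, ← φ.map_one, C.inj.eq_iff, C.inj.eq_iff]
  have zz : ∀ b : NC, b * o 1 * (b * o 1) = b * b := fun b => by
    rw [mul_assoc, ← mul_assoc (o 1), ← f3, mul_assoc, g6, mul_one]
  obtain ⟨w, hw, hw'⟩ : ∃ w ∈ Cx (φ (o 1)), W2.Rel φ w (o 32) (o 8) :=
    ⟨_, mul_mem (hz _) (mem_Cx'.2 ((C.rel_w hδ _ (j1 1 (by simp))).2.of_eq rfl j2)),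
      ((Rel.conj φ _ _).comp (C.rel_w hδ _ (j1 32 (by simp))).2).of_eq rfl j3⟩
  refine ⟨ψ, ⟨ker, fun h => C.sylG hδ ?_, fun g hg a b ha hb e => ?_, fun g a b e h => ?_,
    fun g a b a' b' e e' h => ?_, fun d hd g h1 h2 ho => ?_, ?_, ?_,
    (lift (k := ⟨w, hw⟩).2 (.inl hw')).isConj⟩, fun a _ => hψ a⟩
  · refine Dvd.dvd.trans ?_ (card_subgroup_dvd_card (Cx (φ (o 1))))
    rw [← card_mul_index π.ker, index_ker, MonoidHom.range_eq_top.2 hπ, card_top]
    refine Nat.mul_dvd_mul (a := 2) (Dvd.dvd.trans (Eq.dvd ?_) (Subgroup.orderOf_dvd_natCard _
      ((hk ⟨_, hz _⟩).2 (.inr rfl)))) h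
    rw [orderOf_mk, orderOf_injective φ C.inj, ord_two g6 g7]
  · obtain ⟨k, rfl⟩ := hπ g
    obtain ⟨y, hy, ky⟩ : ∃ y ∈ [96, 97], W2.Rel φ k (o 96) (o y) := (lift.1 (mem_Cx'.1 hg)).elim
      (fun e => ⟨96, by simp, e⟩) fun e => ⟨97, by simp, e.of_eq rfl g9⟩
    have key : ∀ a b, InN a → a * a = 1 → b ∈ T0 → W2.Rel φ k a b → b ∈ N0 := fun a b ha h1 hb e => by
      rcases ((f5 a).1 ha).2.1 h1 with rfl | h2
      · exact e.uniq C.inj Rel.one rfl ▸ one_mem _
      by_cases h3 : a = 1
      · exact e.uniq C.inj Rel.one h3 ▸ one_mem _
      refine (f5 b).2.1 hb (by_contra fun h4 => C.nc ?_) ?_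
      · have e1 := C.lab hδ a h1 h3
        have e2 := C.lab hδ b ((e.mul e).uniq C.inj Rel.one h1) fun k => h3 (e.uniq' C.inj Rel.one k)
        rw [if_pos h2] at e1
        rw [if_neg h4] at e2
        exact (e2.symm.trans e.isConj.symm).trans e1
      · have := (e.mul ky).uniq C.inj (ky.mul e) ((f5 a).1 ha).1
        simp only [List.mem_cons, List.not_mem_nil, or_false] at hy
        rcases hy with rfl | rfl
        exacts [.inl this, .inr this]
    have key' : ∀ b, b ∈ T0 → W2.Rel φ k a b → b ∈ N0 := fun b hb e =>
      ((f5 a).1 ha).2.2.elim (fun h1 => key a b ha h1 hb e) fun h1 =>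
        (mul_mem_cancel_right (H := N0) (g11 y (List.mem_cons_of_mem _ hy)).1).1 (key _ _
          (N0.mul_mem ha (g11 96 (by simp)).1) h1 (T0.mul_mem hb (g11 y (List.mem_cons_of_mem _ hy)).2) (e.mul ky))
    exact (lift.1 e).elim (key' b hb) fun e => (mul_mem_cancel_right (H := N0) (g11 1 (by simp)).1).1
      (key' _ (T0.mul_mem hb (g11 1 (by simp)).2) e)
  · obtain ⟨k, rfl⟩ := hπ g
    exact (lift.1 e).elim (fun e => (e.mul e).uniq C.inj Rel.one h) fun e =>
      (zz b).symm.trans ((e.mul e).uniq C.inj Rel.one h)
  · obtain ⟨k, rfl⟩ := hπ g
    have c1 : ∀ a b : NC, a * o 1 * b = b * (a * o 1) → a * b = b * a := fun a b e => by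
      rwa [mul_assoc, ← f3, ← mul_assoc, ← mul_assoc, mul_left_inj] at e
    rcases lift.1 e with e | e <;> rcases lift.1 e' with e' | e' <;>
      have := (e.mul e').uniq C.inj (e'.mul e) h
    exacts [this, (c1 _ _ this.symm).symm, c1 _ _ this, (c1 _ _ (c1 _ _ this).symm).symm]
  · obtain ⟨k, rfl⟩ := hπ g
    obtain ⟨w, hw, hw'⟩ : ∃ w ∈ Cx (φ (o 1)), W2.Rel φ w (o 32) (o d) := by
      have r1 := ((Rel.conj φ (o 1024) _).comp hw').of_eq rfl g13
      simp only [List.mem_cons, List.not_mem_nil, or_false] at hd
      rcases hd with rfl | rfl | rfl
      exacts [⟨w, hw, hw'⟩, ⟨_, mul_mem (hz _) hw, r1⟩,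
        ⟨_, mul_mem (hz _) (mul_mem (hz _) hw), ((Rel.conj φ (o 1024) _).comp r1).of_eq rfl g14⟩]
    have sq : ∀ a, π k ∈ Cx (ψ a) → W2.Rel φ (k * k) a a := fun a h => (lift.1 (mem_Cx'.1 h)).elim
      (fun e => e.comp e) fun e => ((e.mul (kz k)).comp e).of_eq rfl (by rw [mul_assoc, g6, mul_one])
    obtain ⟨n, hn, e1⟩ := C.cent (w⁻¹ * (k * k) * w) (mem_Cx'.2 ((hw'.symm.comp (sq _ h2)).comp hw'))
      (mul_mem (mul_mem (inv_mem hw) (mul_mem k.2 k.2)) hw)
    obtain ⟨u, hu, e2⟩ := C.cent (w⁻¹ * φ (o 96) * w) (mem_Cx'.2 ((hw'.symm.comp
      ((Rel.conj φ _ _).of_eq rfl (g12 d hd))).comp hw')) (mul_mem (mul_mem (inv_mem hw) (hz _)) hw)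
    have e3 : ((k : G) * k) ^ orderOf (π k) = 1 := by
      rw [(Commute.refl (k : G)).mul_pow]
      rcases (hk (k ^ orderOf (π k))).1 (by rw [map_pow, pow_orderOf_eq_one]) with e | e <;>
        rw [coe_pow] at e <;> rw [e]
      exacts [mul_one 1, by rw [← map_mul, g6, map_one]]
    have e4 : n ^ orderOf (π k) = 1 := C.inj (by
      rw [map_pow, ← e1, ← inv_inv w, inv_inv w⁻¹, conj_pow, e3]; simp)
    have e5 : n ^ 3 = 1 := mem_bot.1 (mem_of_coprime_pow (H := ⊥) (a := 8) (b := orderOf (π k))
      ((Nat.coprime_two_left.2 ho).pow_left 3) (f6 n hn).1 (by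
        rw [← pow_mul, mul_comm, pow_mul, e4, one_pow]; exact one_mem _))
    obtain rfl : n = 1 := ((f6 n hn).2 e5).resolve_right fun h => h u hu (C.inj (by
        rw [map_mul, ← e2, mul_assoc, ← mul_assoc w, ← mul_assoc w, mul_inv_cancel, one_mul, mul_assoc,
          ← mul_assoc (φ _), ← map_mul, g8, ← mem_Cx.1 hw, inv_mul_cancel_left])) (C.inj (by
        rw [map_mul, map_mul, ← e1, ← e2]
        calc _ = w⁻¹ * (k * k * φ (o 96)) * w := by group
          _ = _ := by rw [(sq _ h1).comm]; group))
    have e6 : π k ^ 2 = 1 := by
      rw [← map_pow, pow_two, hk]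
      exact .inl (by simpa [mul_assoc w⁻¹, inv_mul_eq_iff_eq_mul] using e1)
    exact orderOf_eq_one_iff.1 ((Nat.coprime_two_right.2 ho).eq_one_of_dvd (orderOf_dvd_of_pow_eq_one e6))
  · have t1 := (C.rel_w hδ [true, false, true, false, true] (j1 96 (by simp))).2
    have t2 := (C.rel_w hδ [true, false, true, false, true] (j1 32 (by simp))).2
    refine ⟨π ⟨_, mem_Cx'.2 ((C.rel_w hδ _ (j1 1 (by simp))).2.of_eq rfl j4)⟩,
      mem_Cx'.2 (lift.2 (j5.imp (t1.of_eq rfl) (t1.of_eq rfl))), fun ⟨n, hn⟩ => ?_⟩
    rcases lift.1 (hn ▸ Rel.conj ψ n (o 32)) with e | e <;> rw [t2.uniq C.inj e rfl] at j6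
    exacts [j6.not_gt (f5 n).2.2.2.1, j6.not_gt (f5 n).2.2.2.2]
  · refine (Set.ncard_le_ncard (s := (Cx (ψ (o 32)) : Set Γ))
      (t := ψ '' {a | a.v % 512 < 128 ∧ a.v % 2 = 0}) (fun g hg => ?_) (Set.toFinite _)).trans
      ((Set.ncard_image_le (Set.toFinite _)).trans_eq ((TG.card_subtype _).trans g3))
    obtain ⟨k, rfl⟩ := hπ g
    obtain ⟨n, hn, e⟩ := C.normE normE_C k.2 ((lift.1 (mem_Cx'.1 hg)).imp_right fun e => e.of_eq rfl g10)
    have e1 : ψ n = π k := (hψ n).trans (congrArg π (Subtype.ext e.symm))
    exact ((f5 n).2.2.1 hn).elim (fun h => ⟨n, ⟨hn, h⟩, e1⟩) fun h =>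
      ⟨_, h, by rw [map_mul, (ker _).2 (.inr rfl), mul_one, e1]⟩

end CfsgLib.Yos
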