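import Mathlib
import Cfsg.Agent.Lib.Yos.C3

set_option autoImplicit false
set_option maxRecDepth 100000
set_option synthInstance.maxSize 4096

namespace CfsgLib.Yos

open Subgroup Cfsg CfsgLib.W2 CfsgLib.W2.TG CfsgLib.Tech CfsgLib.CosetEnum Equiv

/-- The pairs have exactly one common point. -/
abbrev Mt (p q r s : Fin 6) : Prop := ¬ ((p = r ∨ p = s) ↔ (q = r ∨ q = s))

theorem tt_comm : ∀ p q, p ≠ q → ∀ r s, r ≠ s → (tt p q * tt r s = tt r s * tt p q ↔ ¬ Mt p q r s) := by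
  decide +kernel

theorem path : ∀ a b : Fin 6, a < b → ∀ c d : Fin 6, c < d ∧ Mt a b c d → ∀ e f : Fin 6,
    e < f ∧ Mt c d e f ∧ ¬ Mt a b e f → ∀ g h : Fin 6, g < h ∧ Mt e f g h ∧ ¬ Mt a b g h ∧ ¬ Mt c d g h →
    ∀ i j : Fin 6, i < j ∧ Mt g h i j ∧ ¬ Mt a b i j ∧ ¬ Mt c d i j ∧ ¬ Mt e f i j →
    ∃ u v, tt a b = tt u v ∧ ∃ w, tt c d = tt v w ∧ ∃ x, tt e f = tt w x ∧ ∃ y, tt g h = tt x y ∧
      ∃ z, tt i j = tt y z ∧ Function.Injective ![u, v, w, x, y, z] := by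
  decide +kernel

/-- The partner of a point. -/
def pr : Fin 6 → Fin 6 := ![1, 0, 3, 2, 5, 4]

variable {Γ : Type*} [Group Γ] {ψ : NC →* Γ}

/-- `g` acts on the pairs as `c`. -/
def Acts (ψ : NC →* Γ) (g : Γ) (c : Fin 6 → Fin 6) : Prop :=
  ∀ p q, W2.Rel ψ g (tt p q) (tt (c p) (c q))

theorem BCtx.tt_mul (B : BCtx ψ) (p q r : Fin 6) : ψ (tt p q) * ψ (tt q r) = ψ (tt p r) := by
  rw [← map_mul, B.eqz]; revert p q r; decide +kernel

theorem BCtx.acts_of (B : BCtx ψ) {g : Γ} {c : Fin 6 → Fin 6}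
    (h : ∀ i : Fin 5, W2.Rel ψ g (tt i.castSucc i.succ) (tt (c i.castSucc) (c i.succ))) : Acts ψ g c := by
  have t0 : ∀ p, tt p p = 1 := by decide +kernel
  have ts : ∀ p q, tt p q = tt q p := by decide +kernel
  have tr : ∀ {p q r}, W2.Rel ψ g (tt p q) (tt (c p) (c q)) → W2.Rel ψ g (tt q r) (tt (c q) (c r)) →
      W2.Rel ψ g (tt p r) (tt (c p) (c r)) := fun {p q r} h1 h2 => by
    rw [W2.Rel, ← B.tt_mul p q, ← B.tt_mul (c p) (c q), ← h1, ← h2, conj_mul]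
  have h0 : ∀ p, W2.Rel ψ g (tt 0 p) (tt (c 0) (c p)) := fun p => by
    induction p using Fin.induction with
    | zero => exact Rel.one.of_eq (t0 _).symm (t0 _).symm
    | succ i ih => exact tr ih (h i)
  exact fun p q => tr ((h0 p).of_eq (ts _ _) (ts _ _)) (h0 q)

theorem BCtx.acts_uniq (B : BCtx ψ) {g : Γ} {c d : Perm (Fin 6)} (h1 : Acts ψ g c) (h2 : Acts ψ g d) :
    c = d := by
  have k : ∀ a b, a ≠ b → ∀ r s, tt a b = tt r s ∨ tt a b = tt r s * o 1 → a = r ∨ a = s := by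
    decide +kernel
  refine Equiv.ext fun p => ?_
  obtain ⟨q, r, h3, h4, h5⟩ : ∃ q r, p ≠ q ∧ p ≠ r ∧ q ≠ r := by clear * -; revert p; decide
  by_contra h
  exact h5 (d.injective (((k _ _ (c.injective.ne h3) _ _ (B.eqz.1 ((Eq.symm (h1 p q)).trans (h2 p q)))).resolve_left
    h).symm.trans ((k _ _ (c.injective.ne h4) _ _ (B.eqz.1 ((Eq.symm (h1 p r)).trans (h2 p r)))).resolve_left h)))

theorem BCtx.acts_pres (B : BCtx ψ) {c : Perm (Fin 6)} (h : ∀ i, c (pr i) = pr (c i)) :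
    ∃ a, Acts ψ (ψ a) c := by
  have k : ∀ u v w : Fin 6, Function.Injective ![u, pr u, v, pr v, w, pr w] → ∃ n < 8, ∃ s < 6,
      ∀ i : Fin 5, o (8 * n + 512 * s) * tt i.castSucc i.succ * (o (8 * n + 512 * s))⁻¹ =
        tt (![u, pr u, v, pr v, w, pr w] i.castSucc) (![u, pr u, v, pr v, w, pr w] i.succ) ∨
      o (8 * n + 512 * s) * tt i.castSucc i.succ * (o (8 * n + 512 * s))⁻¹ =
        tt (![u, pr u, v, pr v, w, pr w] i.castSucc) (![u, pr u, v, pr v, w, pr w] i.succ) * o 1 := by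
    decide +kernel
  have e : ![c 0, pr (c 0), c 2, pr (c 2), c 4, pr (c 4)] = c := by
    simp only [← h]; funext i; fin_cases i <;> rfl
  obtain ⟨n, -, s, -, h1⟩ := k (c 0) (c 2) (c 4) (e ▸ c.injective)
  rw [e] at h1
  exact ⟨_, B.acts_of fun i => (Rel.conj ψ _ _).trans (B.eqz.2 (h1 i))⟩

variable [Finite Γ]

theorem BCtx.exists_acts (B : BCtx ψ) {g : Γ} (hg : g ∈ Cx (ψ (o 96))) : ∃ c : Perm (Fin 6), Acts ψ g c := by
  have k1 : ∀ p q, p ≠ q → ∃ r s, r < s ∧ W2.Rel ψ g (tt p q) (tt r s) := fun p q hpq => by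
    have d0 : ∀ p q, p ≠ q → InN (tt p q) ∧ tt p q * tt p q ≠ 1 ∧ ¬ (tt p q = o 96 ∨ tt p q = o 96 * o 1) := by
      decide +kernel
    have d1 : ∀ b : NC, InN b → b * b = 1 ∨ (o 96 = b ∨ o 96 = b * o 1) ∨
        ∃ r s, r < s ∧ (b = tt r s ∨ b = tt r s * o 1) := by decide +kernel
    obtain ⟨b, hb, e⟩ := (mem_normalizer_iff.1 (B.normal hg) _).1 (B.mem_N.2 (d0 p q hpq).1)
    rcases d1 b hb with h | h | ⟨r, s, h1, h⟩
    · exact absurd (B.sq _ _ _ (Rel.symm e.symm) h) (d0 p q hpq).2.1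
    · refine absurd (B.eqz.1 ?_) (d0 p q hpq).2.2
      simpa using (e.symm.trans (B.eqz.2 h).symm).trans (mem_Cx'.1 hg).symm
    · exact ⟨r, s, h1, e.symm.trans (B.eqz.2 h)⟩
  have k2 : ∀ {p q r s a b c d}, p ≠ q → r ≠ s → a < b → c < d → W2.Rel ψ g (tt p q) (tt a b) →
      W2.Rel ψ g (tt r s) (tt c d) → (Mt a b c d ↔ Mt p q r s) := fun h1 h2 h3 h4 h5 h6 => by
    rw [← not_iff_not, ← tt_comm _ _ h1 _ _ h2, ← tt_comm _ _ h3.ne _ _ h4.ne]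
    exact ⟨B.cm _ _ _ _ _ h5.symm h6.symm, B.cm _ _ _ _ _ h5 h6⟩
  obtain ⟨a, b, h0, r0⟩ := k1 0 1 (by decide)
  obtain ⟨c, d, h1, r1⟩ := k1 1 2 (by decide)
  obtain ⟨e, f, h2, r2⟩ := k1 2 3 (by decide)
  obtain ⟨u, v, h3, r3⟩ := k1 3 4 (by decide)
  obtain ⟨i, j, h4, r4⟩ := k1 4 5 (by decide)
  obtain ⟨u, v, e0, w, e1, x, e2, y, e3, z, e4, hi⟩ := path a b h0 c d
    ⟨h1, (k2 (by decide) (by decide) h0 h1 r0 r1).2 (by decide)⟩ e f
    ⟨h2, (k2 (by decide) (by decide) h1 h2 r1 r2).2 (by decide),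
      (k2 (by decide) (by decide) h0 h2 r0 r2).not.2 (by decide)⟩ u v
    ⟨h3, (k2 (by decide) (by decide) h2 h3 r2 r3).2 (by decide),
      (k2 (by decide) (by decide) h0 h3 r0 r3).not.2 (by decide),
      (k2 (by decide) (by decide) h1 h3 r1 r3).not.2 (by decide)⟩ i j
    ⟨h4, (k2 (by decide) (by decide) h3 h4 r3 r4).2 (by decide),
      (k2 (by decide) (by decide) h0 h4 r0 r4).not.2 (by decide),
      (k2 (by decide) (by decide) h1 h4 r1 r4).not.2 (by decide),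
      (k2 (by decide) (by decide) h2 h4 r2 r4).not.2 (by decide)⟩
  refine ⟨Equiv.ofBijective _ (Finite.injective_iff_bijective.1 hi), B.acts_of fun i => ?_⟩
  fin_cases i
  exacts [r0.of_eq rfl e0, r1.of_eq rfl e1, r2.of_eq rfl e2, r3.of_eq rfl e3, r4.of_eq rfl e4]

theorem BCtx.mem_of_acts (B : BCtx ψ) {g : Γ} (hg : g ∈ Cx (ψ (o 96))) (h : Acts ψ g id) :
    g ∈ N0.map ψ := by
  refine B.cent ⟨hg, ?_⟩
  rintro _ ⟨a, ha, rfl⟩
  obtain ⟨k, -, e⟩ := (by decide +kernel : ∀ a : NC, InN a → ∃ k < 32,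
    a = wd [tt 0 1, tt 1 2, tt 2 3, tt 3 4, tt 4 5] k ∨
      a = wd [tt 0 1, tt 1 2, tt 2 3, tt 3 4, tt 4 5] k * o 1) a ha
  rw [B.eqz.2 e]
  exact (Rel.wd (List.forall₂_same.2 (by simp [show ∀ p q, W2.Rel ψ g (tt p q) (tt p q) from h]))
    k).comm.symm

theorem BCtx.exists_pi (B : BCtx ψ) : ∃ π : Cx (ψ (o 96)) →* Equiv.Perm (Fin 6), Function.Surjective π ∧
    ∀ g p q, W2.Rel ψ g.1 (tt p q) (tt (π g p) (π g q)) := by
  choose f hf using fun g : Cx (ψ (o 96)) => B.exists_acts g.2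
  let π : Cx (ψ (o 96)) →* Perm (Fin 6) := MonoidHom.mk' f fun g h =>
    B.acts_uniq (hf _) fun p q => (hf g _ _).comp (hf h p q)
  refine ⟨π, MonoidHom.range_eq_top.1 ?_, hf⟩
  have k1 : ∀ c : Perm (Fin 6), (∀ i, c (pr i) = pr (c i)) → c ∈ π.range := fun c h =>
    let ⟨a, ha⟩ := B.acts_pres h; ⟨⟨_, B.mem_K a⟩, B.acts_uniq (hf _) ha⟩
  have k2 : ∀ a b : Fin 6, a ≠ b → b ≠ pr a → ∃ n ∈ π.range, swap a b = n * swap 1 2 * n⁻¹ := by
    intro a b h1 h2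
    obtain ⟨k, h3, h4⟩ : ∃ k, Function.Injective ![pr a, a, b, pr b, k, pr k] ∧
      ∀ i, ![pr a, a, b, pr b, k, pr k] (pr i) = pr (![pr a, a, b, pr b, k, pr k] i) := by
      clear * - h1 h2; revert a b; decide +kernel
    exact ⟨Equiv.ofBijective _ (Finite.injective_iff_bijective.1 h3), k1 _ h4, swap_apply_apply
      (Equiv.ofBijective _ (Finite.injective_iff_bijective.1 h3)) 1 2⟩
  obtain ⟨g, hg, h1⟩ := B.tau
  obtain ⟨i, hi⟩ : ∃ i, f ⟨g, hg⟩ (pr i) ≠ pr (f ⟨g, hg⟩ i) := by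
    by_contra! h
    obtain ⟨a, ha⟩ := B.acts_pres h
    obtain ⟨b, -, hb⟩ := B.mem_of_acts (mul_mem (inv_mem (B.mem_K a)) hg) fun p q =>
      (ha p q).symm.comp (hf ⟨g, hg⟩ p q)
    exact h1 ⟨a * b, by rw [map_mul, hb, mul_inv_cancel_left]⟩
  have h2 : ∀ i, i ≠ pr i ∧ ∀ j, swap i (pr i) (pr j) = pr (swap i (pr i) j) := by decide +kernel
  obtain ⟨n, h3, h4⟩ := k2 _ _ ((f ⟨g, hg⟩).injective.ne (h2 i).1) hi
  have h5 : swap 1 2 ∈ π.range := by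
    rw [show swap 1 2 = n⁻¹ * (n * swap 1 2 * n⁻¹) * n by group, ← h4, swap_apply_apply]
    exact mul_mem (mul_mem (inv_mem h3) (mul_mem (mul_mem ⟨_, rfl⟩ (k1 _ (h2 i).2)) (inv_mem ⟨_, rfl⟩))) h3
  refine eq_top_iff.2 fun c _ => ?_
  refine (Submonoid.closure_le (S := π.range.toSubmonoid)).2 ?_
    ((Perm.mclosure_swap_castSucc_succ 5).ge (Submonoid.mem_top c))
  rintro _ ⟨j, rfl⟩
  change swap j.castSucc j.succ ∈ π.range
  by_cases h : j.succ = pr j.castSucc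
  · exact k1 _ (h ▸ (h2 _).2)
  · obtain ⟨m, h6, h7⟩ := k2 _ _ (Fin.castSucc_lt_succ (i := j)).ne h
    exact h7 ▸ mul_mem (mul_mem h6 h5) (inv_mem h6)

end CfsgLib.Yos
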