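import Mathlib
import Cfsg.Agent.Lib.Yos.C4
import Cfsg.Agent.Lib.Y12.Model2
import Cfsg.Agent.S0051

/-! The centraliser of `y` is the Weyl group of type `D₆` (plans/YOS.md, C5). -/

set_option autoImplicit false
set_option maxRecDepth 100000

namespace CfsgLib.Yos

open Subgroup Cfsg CfsgLib.W2 CfsgLib.W2.TG CfsgLib.Tech CfsgLib.CosetEnum

namespace C5

open Y12 Equiv

section general

variable {K M : Type*} [Group K] [Group M]

/-- the simple generators of the even weight module -/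
def us (u : Fin 6 → Fin 6 → K) : List K := [u 0 1, u 1 2, u 2 3, u 3 4, u 4 5]

theorem map_wd (f : M →* K) : ∀ (l : List M) (n : ℕ), f (wd l n) = wd (l.map f) n
  | [], _ => map_one f
  | x :: l, n => by
    rw [List.map_cons, wd_cons, wd_cons, ← map_wd f l]
    cases bit n 0
    exacts [rfl, map_mul f _ _]

/-- the relations of the split extension -/
structure W0 (u : Fin 6 → Fin 6 → K) (s : Perm (Fin 6) →* K) : Prop where
  mul : ∀ p q r, u p q * u q r = u p r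
  symm : ∀ p q, u p q = u q p
  conj : ∀ σ p q, s σ * u p q * (s σ)⁻¹ = u (σ p) (σ q)

/-- the split extension of the even weight module by `S₆` -/
structure WD (u : Fin 6 → Fin 6 → K) (s : Perm (Fin 6) →* K) (π : K →* Perm (Fin 6)) : Prop
    extends W0 u s where
  sec : ∀ σ, π (s σ) = σ
  ker : ∀ p q, π (u p q) = 1
  dec : ∀ g, π g = 1 → ∃ n < 32, g = wd (us u) n
  inj : ∀ n < 32, wd (us u) n = 1 → n = 0

variable {U : Fin 6 → Fin 6 → M} {S : Perm (Fin 6) →* M}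

theorem W0.self (h : W0 U S) (p : Fin 6) : U p p = 1 := left_eq_mul.1 (h.mul p p p).symm

theorem W0.sq (h : W0 U S) (p q : Fin 6) : U p q * U p q = 1 := by
  rw [← h.self p, ← h.mul p q p, h.symm q p]

theorem W0.comm (h : W0 U S) (p q a b : Fin 6) : Commute (U p q) (U a b) := by
  have d : ∀ p a, Commute (U 0 p) (U 0 a) := fun p a => by
    rw [Commute, SemiconjBy, h.symm 0 p, h.mul, h.symm 0 a, h.symm p 0, h.mul, h.symm]
  rw [← h.mul p 0, ← h.mul a 0, h.symm p, h.symm a]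
  exact (Commute.mul_right (d _ _) (d _ _)).mul_left (Commute.mul_right (d _ _) (d _ _))

theorem W0.xor (h : W0 U S) (i j : ℕ) : wd (us U) (i ^^^ j) = wd (us U) i * wd (us U) j :=
  wd_xor (by simp [us, h.sq, (h.comm _ _ _ _).eq]) i j

theorem wd_zero (l : List M) : wd l 0 = 1 := by
  induction l with
  | nil => rfl
  | cons x l ih => exact ih

/-- the module -/
def W0.V (h : W0 U S) : Subgroup M where
  carrier := {g | ∃ n < 32, g = wd (us U) n}
  one_mem' := ⟨0, by decide, (wd_zero _).symm⟩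
  mul_mem' := by
    rintro _ _ ⟨i, hi, rfl⟩ ⟨j, hj, rfl⟩
    exact ⟨i ^^^ j, Nat.xor_lt_two_pow (n := 5) hi hj, (h.xor i j).symm⟩
  inv_mem' := by
    rintro _ ⟨i, hi, rfl⟩
    exact ⟨i, hi, inv_eq_of_mul_eq_one_right (by rw [← h.xor, Nat.xor_self, wd_zero])⟩

theorem W0.mem (h : W0 U S) (p q : Fin 6) : U p q ∈ h.V := by
  have h1 : U 0 1 ∈ h.V := ⟨1, by decide, (mul_one _).symm⟩
  have h2 : U 0 2 ∈ h.V := h.mul 0 1 2 ▸ mul_mem h1 ⟨2, by decide, (mul_one _).symm⟩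
  have h3 : U 0 3 ∈ h.V := h.mul 0 2 3 ▸ mul_mem h2 ⟨4, by decide, (mul_one _).symm⟩
  have h4 : U 0 4 ∈ h.V := h.mul 0 3 4 ▸ mul_mem h3 ⟨8, by decide, (mul_one _).symm⟩
  have h5 : U 0 5 ∈ h.V := h.mul 0 4 5 ▸ mul_mem h4 ⟨16, by decide, (mul_one _).symm⟩
  have k : ∀ p, U 0 p ∈ h.V := fun p => by
    fin_cases p
    exacts [(h.self 0).symm ▸ one_mem _, h1, h2, h3, h4, h5]
  rw [← h.mul p 0 q, h.symm p]
  exact mul_mem (k p) (k q)

theorem W0.cj (h : W0 U S) (σ : Perm (Fin 6)) {w : M} (hw : w ∈ h.V) : S σ * w * (S σ)⁻¹ ∈ h.V := by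
  obtain ⟨n, -, rfl⟩ := hw
  refine wd_mem (K := h.V.comap (MulAut.conj (S σ)).toMonoidHom) (fun x hx => ?_) n
  have k : ∀ p q, U p q ∈ h.V.comap (MulAut.conj (S σ)).toMonoidHom := fun p q =>
    show S σ * U p q * (S σ)⁻¹ ∈ h.V from h.conj σ p q ▸ h.mem _ _
  simp only [us, List.mem_cons, List.not_mem_nil, or_false] at hx
  rcases hx with rfl | rfl | rfl | rfl | rfl <;> exact k _ _

/-- the group generated by the module and the complement -/
def W0.D (h : W0 U S) : Subgroup M where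
  carrier := {g | ∃ w ∈ h.V, ∃ σ, g = w * S σ}
  one_mem' := ⟨1, one_mem _, 1, by simp⟩
  mul_mem' := by
    rintro _ _ ⟨w, hw, σ, rfl⟩ ⟨w', hw', τ, rfl⟩
    exact ⟨_, mul_mem hw (h.cj σ hw'), σ * τ, by rw [map_mul]; group⟩
  inv_mem' := by
    rintro _ ⟨w, hw, σ, rfl⟩
    exact ⟨_, h.cj σ⁻¹ (inv_mem hw), σ⁻¹, by rw [map_inv]; group⟩

theorem W0.bij (h : W0 U S) {u : Fin 6 → Fin 6 → K} {s : Perm (Fin 6) →* K} {π : K →* Perm (Fin 6)}
    (k : WD u s π) (f : M →* K) (h1 : ∀ p q, f (U p q) = u p q) (h2 : ∀ σ, f (S σ) = s σ) :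
    Function.Bijective (f.comp h.D.subtype) := by
  have e : ∀ n, f (wd (us U) n) = wd (us u) n := fun n => by rw [map_wd]; simp [us, h1]
  have e' : ∀ n, π (wd (us u) n) = 1 := fun n => wd_mem (K := π.ker) (by simp [us, k.ker]) n
  refine ⟨(injective_iff_map_eq_one _).2 ?_, fun g => ?_⟩
  · rintro ⟨_, _, ⟨n, hn, rfl⟩, σ, rfl⟩ hg
    change f (wd (us U) n * S σ) = 1 at hg
    rw [map_mul, e, h2] at hg
    have h3 := congrArg π hg
    rw [map_mul, e', k.sec, one_mul, map_one] at h3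
    rw [h3, map_one, mul_one] at hg
    refine Subtype.ext (show wd (us U) n * S σ = 1 from ?_)
    rw [k.inj n hn hg, h3, map_one, wd_zero, mul_one]
  · obtain ⟨n, hn, h3⟩ := k.dec (g * (s (π g))⁻¹) (by rw [map_mul, map_inv, k.sec, mul_inv_cancel])
    refine ⟨⟨_, _, ⟨n, hn, rfl⟩, π g, rfl⟩, ?_⟩
    change f (wd (us U) n * S (π g)) = g
    rw [map_mul, e, h2, ← h3, inv_mul_cancel_right]

theorem WD.iso {u : Fin 6 → Fin 6 → K} {s : Perm (Fin 6) →* K} {π : K →* Perm (Fin 6)}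
    {ρ : M →* Perm (Fin 6)} (k : WD u s π) (k' : WD U S ρ) : Nonempty (K ≃* M) := by
  have h : W0 (fun p q => (u p q, U p q)) (s.prod S) :=
    ⟨fun p q r => Prod.ext (k.mul p q r) (k'.mul p q r), fun p q => Prod.ext (k.symm p q) (k'.symm p q),
      fun σ p q => Prod.ext (k.conj σ p q) (k'.conj σ p q)⟩
  exact ⟨(MulEquiv.ofBijective _ (h.bij k (MonoidHom.fst _ _) (fun _ _ => rfl) fun _ => rfl)).symm.trans
    (MulEquiv.ofBijective _ (h.bij k' (MonoidHom.snd _ _) (fun _ _ => rfl) fun _ => rfl))⟩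

theorem exists_sec {X : Type*} [Group X] (π : K →* X) (H : Subgroup K)
    (h1 : ∀ g ∈ H, π g = 1 → g = 1) (h2 : ∀ σ, ∃ g ∈ H, π g = σ) :
    ∃ s : X →* K, ∀ σ, π (s σ) = σ := by
  have b : Function.Bijective (π.comp H.subtype) :=
    ⟨(injective_iff_map_eq_one _).2 fun g hg => Subtype.ext (h1 g g.2 hg), fun σ =>
      let ⟨g, hg, e⟩ := h2 σ; ⟨⟨g, hg⟩, e⟩⟩
  exact ⟨H.subtype.comp (MulEquiv.ofBijective _ b).symm.toMonoidHom, fun σ =>
    (MulEquiv.ofBijective _ b).apply_symm_apply σ⟩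

end general

/-- the elements which preserve the parity of the points -/
noncomputable def Par : Subgroup HH where
  carrier := {h | ∀ i < 12, pt h i % 2 = i % 2}
  one_mem' := by
    change ∀ i < 12, pt 1 i % 2 = i % 2
    decide +kernel
  mul_mem' {x y} hx hy i hi := by rw [pt_mul _ _ hi, hx _ (pt_lt y hi), hy i hi]
  inv_mem' {x} hx i hi := by
    rw [← hx _ (pt_lt x⁻¹ hi), ← pt_mul _ _ hi, mul_inv_cancel]
    revert i; decide +kernel

theorem model : ∃ s, WD t s sg := by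
  obtain ⟨s, hs⟩ := exists_sec sg Par (fun g hg e => pm_inj (Equiv.ext fun i => Fin.ext (by
      have h1 := sg_val g ⟨i / 2, by omega⟩
      rw [e, pt_half _ i.2] at h1
      have h2 := hg i i.2
      rw [map_one, ← pt_eq]
      change i.1 / 2 = _ at h1
      change _ = i.1
      omega))) fun σ => by
    obtain ⟨l, h1, -, h2⟩ := exists_lf σ
    exact ⟨l, h2 Par (show ∀ i : Fin 5, ∀ j < 12, pt (r i.castSucc i.succ) j % 2 = j % 2 by
      decide +kernel), h1⟩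
  refine ⟨s, ⟨t_mul, t_symm, fun σ p q => by rw [conj_t, hs]⟩, hs, fun p q => Equiv.ext ?_,
    fun g hg => ?_, show ∀ n < 32, wd ts n = 1 → n = 0 by decide +kernel⟩
  · revert p q; decide +kernel
  · exact hallP (f := fun k v => Nat.beq (Nat.shiftRight v 1) (Nat.shiftRight k 1))
      (P := fun h => ∃ n < 32, h = wd ts n) (by decide +kernel) g fun k hk => by
        have := sg_val g ⟨k / 2, by omega⟩
        rw [hg, pt_half _ hk] at this
        exact Nat.beq_eq ▸ this.symm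

/-- a complement to `N` in `T` -/
noncomputable def A1 : Subgroup NC :=
  subG (fun a => a.v < 1024 ∧ a.v % 512 < 64 ∧ a.v % 16 ∈ [0, 1, 14, 15]) [o 1, o 16, o 32, o 512] 4
    (by decide +kernel)

theorem mem_A1 {a : NC} : a ∈ A1 ↔ a.v < 1024 ∧ a.v % 512 < 64 ∧ a.v % 16 ∈ [0, 1, 14, 15] := Iff.rfl

end C5

variable {Γ : Type*} [Group Γ] [Finite Γ] {ψ : NC →* Γ}

open C5 in
theorem BCtx.iso (B : BCtx ψ) : Nonempty (Cx (ψ (o 96)) ≃* Y12.HH) := by
  obtain ⟨π, hπ, hr⟩ := B.exists_pi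
  obtain ⟨φ, hφ⟩ : ∃ φ : NC →* Cx (ψ (o 96)), ∀ a, (φ a : Γ) = ψ a :=
    ⟨ψ.codRestrict _ B.mem_K, fun _ => rfl⟩
  have eqz : ∀ {a b}, φ a = φ b ↔ a = b ∨ a = b * o 1 := fun {a b} => by
    rw [Subtype.ext_iff, hφ, hφ, B.eqz]
  have cj : ∀ g p q, g * φ (tt p q) * g⁻¹ = φ (tt (π g p) (π g q)) := fun g p q =>
    Subtype.ext (by rw [hφ, ← hr g p q, ← hφ (tt p q)]; rfl)
  have dN : ∀ a : NC, InN a → ∃ n < 32, φ a = W2.wd (us fun p q => φ (tt p q)) n := fun a ha => by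
    obtain ⟨n, hn, e⟩ := (by decide +kernel : ∀ a : NC, InN a → ∃ n < 32,
      a = W2.wd (us tt) n ∨ a = W2.wd (us tt) n * o 1) a ha
    exact ⟨n, hn, (eqz.2 e).trans (map_wd φ _ n)⟩
  have kN : ∀ a : NC, InN a → π (φ a) = 1 := fun a ha => Equiv.ext fun p => by
    have k : ∀ q, φ (tt p q) = φ (tt (π (φ a) p) (π (φ a) q)) := fun q => by
      rw [← cj, eq_mul_inv_iff_mul_eq]
      refine Subtype.ext ?_
      rw [Subgroup.coe_mul, Subgroup.coe_mul, hφ, hφ]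
      exact comm_of_sq B.sqN (B.mem_N.2 ((by decide +kernel : ∀ p q, InN (tt p q)) p q)) (B.mem_N.2 ha)
    exact (by decide +kernel : ∀ p a b c : Fin 6,
      (tt p (p + 1) = tt a b ∨ tt p (p + 1) = tt a b * o 1) →
      (tt p (p + 2) = tt a c ∨ tt p (p + 2) = tt a c * o 1) → a = p) p _ _ _ (eqz.1 (k _)) (eqz.1 (k _))
  have ker : ∀ g, π g = 1 ↔ ∃ a, InN a ∧ φ a = g := fun g => by
    refine ⟨fun e => ?_, fun ⟨a, ha, e⟩ => e ▸ kN a ha⟩
    obtain ⟨a, ha, e'⟩ := B.cent (x := g.1) ⟨g.2, by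
      rintro _ ⟨a, ha, rfl⟩
      obtain ⟨n, -, h1⟩ := dN a ha
      have h2 := Y12.wd_comm (g := g) (l := us fun p q => φ (tt p q)) (by
        have : ∀ p q, g * φ (tt p q) = φ (tt p q) * g := fun p q => by
          rw [← mul_inv_eq_iff_eq_mul, cj, e]; rfl
        simp [us, this]) n
      rw [← h1] at h2
      rw [← hφ a]
      exact (congrArg Subtype.val h2).symm⟩
    exact ⟨a, ha, Subtype.ext ((hφ a).trans e')⟩
  have : IsMulCommutative π.ker := ⟨⟨fun x y => Subtype.ext (Subtype.ext (by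
    obtain ⟨a, ha, e⟩ := (ker x).1 x.2
    obtain ⟨b, hb, e'⟩ := (ker y).1 y.2
    change ((x : Cx (ψ (o 96))) : Γ) * ((y : Cx (ψ (o 96))) : Γ) =
      ((y : Cx (ψ (o 96))) : Γ) * ((x : Cx (ψ (o 96))) : Γ)
    rw [← e, ← e', hφ, hφ]
    exact comm_of_sq B.sqN (B.mem_N.2 ha) (B.mem_N.2 hb)))⟩⟩
  have hT : T0.map φ = (T0.map ψ).subgroupOf (Cx (ψ (o 96))) := Subgroup.ext fun g =>
    ⟨fun ⟨a, ha, e⟩ => ⟨a, ha, by rw [← hφ a, e]; rfl⟩,
      fun ⟨a, ha, e⟩ => ⟨a, ha, Subtype.ext ((hφ a).trans e)⟩⟩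
  have hK : π.ker ≤ T0.map φ := fun g hg => by
    obtain ⟨a, ha, e⟩ := (ker g).1 hg
    exact ⟨a, N0_le_T0 ha, e⟩
  have hA : A1.map φ ≤ T0.map φ := map_mono fun a ha => ha.1
  obtain ⟨H, hH⟩ := Cfsg.Agent.S0051.result π.ker (T0.map φ) hK (by
      obtain ⟨k, hk⟩ := (IsPGroup.iff_card (p := 2)).1 (show IsPGroup 2 π.ker from fun x => ⟨1, by
        obtain ⟨a, ha, e⟩ := (ker x).1 x.2
        refine Subtype.ext (Subtype.ext ?_)
        change ((x : Cx (ψ (o 96))) : Γ) ^ 2 ^ 1 = 1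
        rw [← e, hφ, pow_one, pow_two]
        exact B.sqN _ (B.mem_N.2 ha)⟩)
      rw [hk, hT]
      exact (Nat.prime_two.coprime_iff_not_dvd.2 B.sylK.not_dvd).pow_left k)
    (A1.map φ) hA (by
      rw [eq_bot_iff]
      rintro _ ⟨⟨a, ha, rfl⟩, h1⟩
      obtain ⟨b, hb, e⟩ := (ker _).1 h1
      have h2 : InN a := B.mem_N.1 (by rw [← hφ a, ← e, hφ]; exact B.mem_N.2 hb)
      refine Subtype.ext ((hφ a).trans ((B.ker a).2 ?_))
      exact (by decide +kernel : ∀ a : NC, InN a →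
        a.v < 1024 ∧ a.v % 512 < 64 ∧ a.v % 16 ∈ [0, 1, 14, 15] → a = 1 ∨ a = o 1) a h2 ha)
    (le_antisymm (sup_le hK hA) (by
      rintro _ ⟨a, ha, rfl⟩
      obtain ⟨c, hc, h1⟩ := (by decide +kernel : ∀ a : NC, a.v < 1024 →
        LE repT fun c => InN (a * (o c)⁻¹)) a ha
      rw [← inv_mul_cancel_right a (o c), map_mul]
      refine mul_mem_sup (kN _ h1) (mem_map_of_mem φ (mem_A1.2 ?_))
      clear h1; revert c; decide +kernel))
  obtain ⟨s, hs⟩ := exists_sec π H (fun g hg e => hH.disjoint.le_bot ⟨e, hg⟩) fun σ => by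
    obtain ⟨g, rfl⟩ := hπ σ
    obtain ⟨⟨n, h⟩, rfl⟩ := hH.2 g
    exact ⟨h, h.2, by rw [map_mul, n.2, one_mul]⟩
  obtain ⟨s', h'⟩ := model
  refine WD.iso (u := fun p q => φ (tt p q)) (s := s) (π := π) ⟨⟨fun p q r => ?_, fun p q => ?_,
    fun σ p q => by rw [cj, hs]⟩, hs, fun p q => kN _ ?_, fun g hg => ?_, fun n hn e => ?_⟩ h'
  · rw [← map_mul, eqz]; revert p q r; decide +kernel
  · rw [(by decide +kernel : ∀ p q, tt p q = tt q p) p q]
  · revert p q; decide +kernel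
  · obtain ⟨a, ha, rfl⟩ := (ker g).1 hg
    exact dN a ha
  · have h1 : φ (W2.wd (us tt) n) = φ 1 := (map_wd φ _ n).trans (e.trans (map_one φ).symm)
    exact (by decide +kernel : ∀ n < 32,
      (W2.wd (us tt) n = 1 ∨ W2.wd (us tt) n = 1 * o 1) → n = 0) n hn (eqz.1 h1)

end CfsgLib.Yos
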