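import Mathlib
import Cfsg.Agent.Lib.Yos.W0

/-!
# Yoshida's theorem, wreathed case: the subgroup `Q` of order `2 ^ 10` (plans/YOS.md)
-/

set_option autoImplicit false
set_option maxRecDepth 100000
set_option synthInstance.maxSize 4096

namespace CfsgLib.Yos

open Subgroup Cfsg CfsgLib.W2 CfsgLib.W2.TG CfsgLib.Tech CfsgLib.CosetEnum

theorem ok16 : TOk 16 Nat.xor id :=
  (SOk.of_light (gs := [1, 2, 4, 8]) (D := 2) (by decide +kernel)).tok (by decide +kernel)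

/-- The elementary abelian group `R₀ / A`. -/
abbrev E16 : Type := TG ok16

theorem E16_facts : ∀ a : E16, a * a = 1 ∧ ∀ b, a * b = b * a := by decide +kernel

/-- The map `R₀ → R₀ / A`. -/
noncomputable def piE (a : NW) : E16 := o (a.v % 32 / 2)

/-- The action of `m` on `R₀ / A`. -/
noncomputable def cjE (m : ℕ) (w : E16) : E16 := piE (o m * o (2 * w.v) * (o m)⁻¹)

theorem R0_facts : UT 128 fun r : NW => InR0 r → (piE r = 1 ↔ InA r) ∧ InA (r * r) ∧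
    (UT 128 fun s : NW => InR0 s → piE (r * s) = piE r * piE s ∧ (InA s → r * s = s * r)) ∧
    LA [32, 512, 1024] fun m => piE (o m * r * (o m)⁻¹) = cjE m (piE r) ∧ InR0 (o m * r * (o m)⁻¹) ∧
      InR0 ((o m)⁻¹ * r * o m) ∧ (InA r → InA (o m * r * (o m)⁻¹) ∧ InA ((o m)⁻¹ * r * o m)) := by
  decide +kernel

theorem A_le : A0 ≤ R0 := fun a (ha : InA a) => show InR0 a from ⟨by have := ha.1; omega, ha.2⟩

theorem piE_one {r : NW} (h : r ∈ R0) : piE r = 1 ↔ r ∈ A0 := (R0_facts r h.2 h).1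

theorem piE_mul {r s : NW} (h : r ∈ R0) (h' : s ∈ R0) : piE (r * s) = piE r * piE s :=
  ((R0_facts r h.2 h).2.2.1 s h'.2 h').1

theorem piE_A {r a : NW} (h : r ∈ R0) (h' : a ∈ A0) : piE (r * a) = piE r := by
  rw [piE_mul h (A_le h'), (piE_one (A_le h')).2 h', mul_one]

theorem RA_comm {r a : NW} (h : r ∈ R0) (h' : a ∈ A0) : r * a = a * r :=
  ((R0_facts r h.2 h).2.2.1 a h'.2 (A_le h')).2 h'

theorem R_sq {r : NW} (h : r ∈ R0) : r * r ∈ A0 := (R0_facts r h.2 h).2.1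

variable {G : Type*} [Group G] {σ : G} {φ : NW →* G} {δ : ℕ}

/-- The elements which act trivially on `A` and `R₀ / A` and normalise `R`. -/
def QW (φ : NW →* G) : Subgroup G where
  carrier := {g | (∀ a ∈ A0, W2.Rel φ g a a) ∧ (∀ r ∈ R0, ∃ a ∈ A0, W2.Rel φ g r (r * a)) ∧
    ∃ r ∈ R0, W2.Rel φ g (o 32) (r * o 32)}
  one_mem' := ⟨fun a _ => by simp [W2.Rel], fun r _ => ⟨1, one_mem _, by simp [W2.Rel]⟩, 1, one_mem _,
    by simp [W2.Rel]⟩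
  mul_mem' := fun {g h} ⟨g1, g2, r, hr, g3⟩ ⟨h1, h2, s, hs, h3⟩ => ⟨fun a ha => (g1 a ha).comp (h1 a ha),
    fun r hr => by
      obtain ⟨a, ha, e⟩ := h2 r hr
      obtain ⟨b, hb, e'⟩ := g2 r hr
      exact ⟨b * a, mul_mem hb ha, ((e'.mul (g1 a ha)).comp e).of_eq rfl (mul_assoc _ _ _)⟩, by
      obtain ⟨b, hb, e'⟩ := g2 s hs
      exact ⟨s * b * r, mul_mem (mul_mem hs (A_le hb)) hr, ((e'.mul g3).comp h3).of_eq rfl (by group)⟩⟩
  inv_mem' := fun {g} ⟨g1, g2, r, hr, g3⟩ => ⟨fun a ha => (g1 a ha).symm, fun r hr => by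
      obtain ⟨a, ha, e⟩ := g2 r hr
      exact ⟨a⁻¹, inv_mem ha, (e.mul (g1 a ha).inv).symm.of_eq (by group) rfl⟩, by
      obtain ⟨a, ha, e⟩ := g2 r hr
      exact ⟨(r * a⁻¹)⁻¹, inv_mem (mul_mem hr (A_le (inv_mem ha))),
        ((e.mul (g1 a ha).inv).inv.mul g3).symm.of_eq (by group) rfl⟩⟩

theorem rel_A {g : G} (h1 : g ∈ Cx (φ (o 1))) (h2 : g ∈ Cx (φ (o 64))) {a : NW} (ha : a ∈ A0) :
    W2.Rel φ g a a :=
  mem_Cx'.1 (Cx_comm.1 (subG_le (S := (Cx g).comap φ) (by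
    simp only [List.forall_mem_cons]; exact ⟨Cx_comm.1 h1, Cx_comm.1 h2, by simp⟩) ha))

theorem mem_QW {g : G} (h1 : W2.Rel φ g (o 1) (o 1)) (h2 : W2.Rel φ g (o 64) (o 64))
    (h3 : ∀ j ∈ [2, 4, 8, 16], ∃ a ∈ A0, W2.Rel φ g (o j) (o j * a))
    (h4 : ∃ r ∈ R0, W2.Rel φ g (o 32) (r * o 32)) : g ∈ QW φ := by
  have hA := fun a => rel_A (a := a) (mem_Cx'.2 h1) (mem_Cx'.2 h2)
  let S : Subgroup NW :=
    { carrier := {r | r ∈ R0 ∧ ∃ a ∈ A0, W2.Rel φ g r (r * a)}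
      one_mem' := ⟨one_mem _, 1, one_mem _, by simp [W2.Rel]⟩
      mul_mem' := fun {r s} ⟨hr, a, ha, e⟩ ⟨hs, b, hb, e'⟩ => ⟨mul_mem hr hs, a * b, mul_mem ha hb,
        (e.mul e').of_eq rfl (by rw [mul_assoc, ← mul_assoc a, ← RA_comm hs ha]; group)⟩
      inv_mem' := fun {r} ⟨hr, a, ha, e⟩ => ⟨inv_mem hr, a⁻¹, inv_mem ha,
        e.inv.of_eq rfl (by rw [RA_comm hr ha, mul_inv_rev])⟩ }
  have H : LA [2, 4, 8, 16, 64] fun j => InR0 (o j) := by decide +kernel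
  refine ⟨hA, fun r hr => (subG_le (S := S) ?_ hr).2, h4⟩
  simp only [List.forall_mem_cons] at h3 ⊢
  exact ⟨⟨H 2 (by simp), h3.1⟩, ⟨H 4 (by simp), h3.2.1⟩, ⟨H 8 (by simp), h3.2.2.1⟩, ⟨H 16 (by simp), h3.2.2.2.1⟩,
    ⟨H 64 (by simp), 1, one_mem _, h2.of_eq rfl (mul_one _).symm⟩, by simp⟩

/-- Test for `φ m ∈ Q`. -/
abbrev InQ (m : NW) : Prop := m * o 1 * m⁻¹ = o 1 ∧ m * o 64 * m⁻¹ = o 64 ∧
  LA [2, 4, 8, 16] (fun j => InA ((o j)⁻¹ * (m * o j * m⁻¹))) ∧ InR0 (m * o 32 * m⁻¹ * (o 32)⁻¹)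

theorem map_mem_QW {m : NW} (H : InQ m) : φ m ∈ QW φ :=
  mem_QW ((Rel.conj φ _ _).of_eq rfl H.1) ((Rel.conj φ _ _).of_eq rfl H.2.1)
    (fun j hj => ⟨_, H.2.2.1 j hj, (Rel.conj φ _ _).of_eq rfl (by group)⟩)
    ⟨_, H.2.2.2, (Rel.conj φ _ _).of_eq rfl (by group)⟩

theorem R_mem_QW {r : NW} (h : r ∈ R0) : φ r ∈ QW φ :=
  map_mem_QW ((by decide +kernel : UT 128 fun r : NW => InR0 r → InQ r) r h.2 h)

theorem cj32 : LA [32, 512, 1024] fun m => (o m : NW) * o 32 * (o m)⁻¹ = o 32 := by decide +kernel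

theorem conj_mem_QW {m : ℕ} (hm : m ∈ [32, 512, 1024]) {g : G} (hg : g ∈ QW φ) :
    φ (o m) * g * (φ (o m))⁻¹ ∈ QW φ := by
  obtain ⟨g1, g2, r, hr, g3⟩ := hg
  have H := fun r (hr : r ∈ R0) => (R0_facts r hr.2 hr).2.2.2 m hm
  refine ⟨fun a ha => ((g1 _ ((H a (A_le ha)).2.2.2 ha).2).conj_by (o m)).of_eq (by group) (by group),
    fun r hr => ?_, _, (H r hr).2.1, (g3.conj_by (o m)).of_eq (cj32 m hm) ?_⟩
  · obtain ⟨a, ha, e⟩ := g2 _ (H r hr).2.2.1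
    exact ⟨_, ((H a (A_le ha)).2.2.2 ha).1, (e.conj_by (o m)).of_eq (by group) (by group)⟩
  · rw [← cj32 m hm, cj32 m hm, ← conj_mul, cj32 m hm]

/-- The class modulo `A` of an element of `R₀`. -/
noncomputable def valE (φ : NW →* G) (g : G) : E16 := piE (Function.invFun φ g)

theorem valE_map (hφ : Function.Injective φ) (a : NW) : valE φ (φ a) = piE a := by
  rw [valE, Function.leftInverse_invFun hφ]

/-- The commutator with `e`, modulo `A`. -/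
noncomputable def psi (φ : NW →* G) (g : G) : E16 := valE φ (g * φ (o 32) * g⁻¹ * φ (o 32))

theorem eeW : (o 32 : NW) * o 32 = 1 := by decide +kernel

theorem rel_e {g : G} {r : NW} : W2.Rel φ g (o 32) (r * o 32) ↔ g * φ (o 32) * g⁻¹ * φ (o 32) = φ r := by
  rw [W2.Rel, map_mul, ← mul_left_inj (φ (o 32)), mul_assoc (φ r), ← map_mul, eeW, map_one, mul_one]

theorem psi_eq (hφ : Function.Injective φ) {g : G} {r : NW} (h : W2.Rel φ g (o 32) (r * o 32)) :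
    psi φ g = piE r := by
  rw [psi, rel_e.1 h, valE_map hφ]

theorem psi_mul (hφ : Function.Injective φ) {g h : G} (hg : g ∈ QW φ) (hh : h ∈ QW φ) :
    psi φ (g * h) = psi φ g * psi φ h := by
  obtain ⟨-, g2, r, hr, g3⟩ := hg
  obtain ⟨-, -, s, hs, h3⟩ := hh
  obtain ⟨b, hb, e'⟩ := g2 s hs
  rw [psi_eq hφ g3, psi_eq hφ h3, psi_eq hφ (r := s * b * r) (((e'.mul g3).comp h3).of_eq rfl (by group)),
    piE_mul (mul_mem hs (A_le hb)) hr, piE_A hs hb, (E16_facts _).2]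

theorem psi_one (hφ : Function.Injective φ) : psi φ 1 = 1 := by
  rw [psi_eq hφ (r := 1) (by simp [W2.Rel]), (piE_one (one_mem _)).2 (one_mem _)]

theorem psi_inv (hφ : Function.Injective φ) {g : G} (hg : g ∈ QW φ) : psi φ g⁻¹ = psi φ g := by
  have := psi_mul hφ (inv_mem hg) hg
  rw [inv_mul_cancel, psi_one hφ, ← (E16_facts (psi φ g)).1] at this
  exact (mul_right_cancel this).symm

theorem psi_conj (hφ : Function.Injective φ) {m : ℕ} (hm : m ∈ [32, 512, 1024]) {g : G} (hg : g ∈ QW φ) :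
    psi φ (φ (o m) * g * (φ (o m))⁻¹) = cjE m (psi φ g) := by
  obtain ⟨-, -, r, hr, g3⟩ := hg
  rw [psi_eq hφ g3, ← ((R0_facts r hr.2 hr).2.2.2 m hm).1]
  exact psi_eq hφ ((g3.conj_by (o m)).of_eq (cj32 m hm) (by rw [← conj_mul, cj32 m hm]))

/-- An element of `C(z)` which maps `e` into `e A` normalises `⟨e, z⟩`. -/
theorem Ctx.normA (C : Ctx φ σ (128 + δ) (192 + δ)) {g : G} (h1 : g ∈ Cx (φ (o 1))) {a : NW} (ha : a ∈ A0)
    (h : W2.Rel φ g (o 32) (a * o 32)) : ∃ n : NW, n.v % 512 < 128 ∧ g = φ n := by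
  have H : UT 128 fun a : NW => InA a → a * o 32 * (a * o 32) = 1 → a * o 32 = o 32 ∨ a * o 32 = o 33 := by
    decide +kernel
  exact C.normE normE_W h1 ((H a ha.2 ha (((h.mul h).uniq C.inj Rel.one eeW))).imp (h.of_eq rfl) (h.of_eq rfl))

theorem Ctx.psi_ker (C : Ctx φ σ (128 + δ) (192 + δ)) {g : G} (hg : g ∈ QW φ) (h : psi φ g = 1) :
    ∃ r ∈ R0, g = φ r := by
  obtain ⟨g1, g2, r, hr, g3⟩ := hg
  rw [psi_eq C.inj g3, piE_one hr] at h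
  have HA : InA (o 1) ∧ InA (o 64) ∧ LA [2, 4, 8, 16] fun j => InR0 (o j) := by decide +kernel
  obtain ⟨n, h1, rfl⟩ := C.normA (mem_Cx'.2 (g1 _ HA.1)) h g3
  have H : ∀ n : NW, n.v % 512 < 128 → n * o 64 * n⁻¹ = o 64 →
    LA [2, 4, 8, 16] (fun j => InA ((o j)⁻¹ * (n * o j * n⁻¹))) → InR0 n := by decide +kernel
  refine ⟨n, H n h1 ((relW_iff C.inj).1 (g1 _ HA.2.1)) fun j hj => ?_, rfl⟩
  obtain ⟨a, ha, e⟩ := g2 _ (HA.2.2 j hj)
  rw [(relW_iff C.inj).1 e, inv_mul_cancel_left]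
  exact ha

/-- The commutator modulo `A`. -/
noncomputable def bet (φ : NW →* G) (g h : G) : E16 := valE φ (g * h * g⁻¹ * h⁻¹)

section bet
variable (C : Ctx φ σ (128 + δ) (192 + δ)) {g h k : G} (hg : g ∈ QW φ) (hh : h ∈ QW φ)
include C hg hh

theorem Ctx.cmR : ∃ r ∈ R0, g * h * g⁻¹ * h⁻¹ = φ r := by
  refine C.psi_ker (mul_mem (mul_mem (mul_mem hg hh) (inv_mem hg)) (inv_mem hh)) ?_
  rw [psi_mul C.inj (mul_mem (mul_mem hg hh) (inv_mem hg)) (inv_mem hh), psi_mul C.inj (mul_mem hg hh) (inv_mem hg),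
    psi_mul C.inj hg hh, psi_inv C.inj hg, psi_inv C.inj hh, mul_assoc, (E16_facts _).1]

theorem Ctx.bet_left (hk : k ∈ QW φ) : bet φ (g * h) k = bet φ g k * bet φ h k := by
  obtain ⟨r, hr, e1⟩ := C.cmR hg hk
  obtain ⟨s, hs, e2⟩ := C.cmR hh hk
  obtain ⟨a, ha, e3⟩ := hg.2.1 s hs
  rw [bet, bet, bet, show g * h * k * (g * h)⁻¹ * k⁻¹ = g * (h * k * h⁻¹ * k⁻¹) * g⁻¹ * (g * k * g⁻¹ * k⁻¹) by
    group, e1, e2, e3, ← map_mul, valE_map C.inj, valE_map C.inj, valE_map C.inj,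
    piE_mul (mul_mem hs (A_le ha)) hr, piE_A hs ha, (E16_facts _).2]

theorem Ctx.bet_right (hk : k ∈ QW φ) : bet φ g (h * k) = bet φ g h * bet φ g k := by
  obtain ⟨r, hr, e1⟩ := C.cmR hg hh
  obtain ⟨s, hs, e2⟩ := C.cmR hg hk
  obtain ⟨a, ha, e3⟩ := hh.2.1 s hs
  rw [bet, bet, bet, show g * (h * k) * g⁻¹ * (h * k)⁻¹ = g * h * g⁻¹ * h⁻¹ * (h * (g * k * g⁻¹ * k⁻¹) * h⁻¹) by
    group, e1, e2, e3, ← map_mul, valE_map C.inj, valE_map C.inj, valE_map C.inj,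
    piE_mul hr (mul_mem hs (A_le ha)), piE_A hs ha]

theorem Ctx.bet_conj : bet φ (φ (o 1024) * g * (φ (o 1024))⁻¹) (φ (o 1024) * h * (φ (o 1024))⁻¹) =
    cjE 1024 (bet φ g h) := by
  obtain ⟨r, hr, e1⟩ := C.cmR hg hh
  rw [bet, bet, conj_inv, conj_inv, conj_mul, conj_mul, conj_mul, e1, Rel.conj φ, valE_map C.inj, valE_map C.inj,
    ((R0_facts r hr.2 hr).2.2.2 1024 (by simp)).1]

theorem Ctx.bet_one (h1 : g * g ∈ A0.map φ) (h2 : h * h ∈ A0.map φ) :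
    bet φ g h = 1 ↔ g * h * (g * h) ∈ A0.map φ := by
  obtain ⟨r, hr, e1⟩ := C.cmR hg hh
  obtain ⟨a, ha, e2⟩ := h1
  obtain ⟨b, hb, e3⟩ := h2
  rw [bet, show g * h * (g * h) = g * h * g⁻¹ * h⁻¹ * (h * (g * g) * h⁻¹ * (h * h)) by group, e1, ← e2, ← e3,
    hh.1 a ha, ← map_mul, ← map_mul, mem_map_iff_mem C.inj, valE_map C.inj, piE_one hr,
    mul_mem_cancel_right (mul_mem ha hb)]

theorem Ctx.sq_of (e : psi φ h = psi φ g) (h2 : h * h ∈ A0.map φ) : g * g ∈ A0.map φ := by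
  obtain ⟨r, hr, e1⟩ := C.psi_ker (mul_mem (inv_mem hh) hg) (by
    rw [psi_mul C.inj (inv_mem hh) hg, psi_inv C.inj hh, e, (E16_facts _).1])
  obtain ⟨b, hb, e3⟩ := h2
  obtain ⟨a, ha, e2⟩ := hh.2.1 r hr
  rw [show g * g = h * (h⁻¹ * g) * h⁻¹ * (h * h) * (h⁻¹ * g) by group, e1, e2, ← e3, ← map_mul, ← map_mul,
    mul_assoc r, mul_assoc r, ← RA_comm hr (mul_mem ha hb), ← mul_assoc]
  exact mem_map_of_mem φ (mul_mem (R_sq hr) (mul_mem ha hb))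

end bet

theorem Ctx.bet_R (C : Ctx φ σ (128 + δ) (192 + δ)) {g : G} (hg : g ∈ QW φ) {r : NW} (hr : r ∈ R0) :
    bet φ g (φ r) = 1 := by
  obtain ⟨a, ha, e⟩ := hg.2.1 r hr
  rw [bet, e, RA_comm hr ha, map_mul, mul_inv_cancel_right, valE_map C.inj, piE_one (A_le ha)]
  exact ha

/-- The class `w` is the value of an element which is an involution modulo `A`. -/
def ExW (φ : NW →* G) (w : E16) : Prop := ∃ g ∈ QW φ, psi φ g = w ∧ g * g ∈ A0.map φ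

theorem conj_A {m : ℕ} (hm : m ∈ [32, 512, 1024]) {g : G} (h : g ∈ A0.map φ) :
    φ (o m) * g * (φ (o m))⁻¹ ∈ A0.map φ := by
  obtain ⟨a, ha, rfl⟩ := h
  exact ⟨_, (((R0_facts a ha.2 (A_le ha)).2.2.2 m hm).2.2.2 ha).1, by simp⟩

theorem ExW.conj (hφ : Function.Injective φ) {m : ℕ} (hm : m ∈ [32, 512, 1024]) {w : E16} (h : ExW φ w) :
    ExW φ (cjE m w) := by
  obtain ⟨g, hg, rfl, h2⟩ := h
  exact ⟨_, conj_mem_QW hm hg, psi_conj hφ hm hg, by rw [conj_mul]; exact conj_A hm h2⟩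

theorem Ctx.t3_mem (hδ : δ < 2) (C : Ctx φ σ (128 + δ) (192 + δ)) : ∃ u ∈ QW φ, u * u = 1 ∧
    ∀ a, InJ a → W2.Rel φ u a (f3 δ a) := by
  obtain ⟨u, h1, h2, h3⟩ := C.exists_t3 hδ
  have H : ∀ δ < 2, LA [1, 64] (fun j => InJ (o j : NW) ∧ f3 δ (o j) = o j) ∧
    LA [2, 4, 8] (fun j => InJ (o j : NW) ∧ InA ((o j)⁻¹ * f3 δ (o j))) ∧ InJ (o 32 : NW) ∧
      InR0 (f3 δ (o 32) * (o 32)⁻¹) := by decide +kernel
  obtain ⟨H1, H2, H3, H4⟩ := H δ hδ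
  refine ⟨u, mem_QW ((h2 _ (H1 1 (by simp)).1).of_eq rfl (H1 1 (by simp)).2)
    ((h2 _ (H1 64 (by simp)).1).of_eq rfl (H1 64 (by simp)).2) (fun j hj => ?_)
    ⟨_, H4, (h2 _ H3).of_eq rfl (by group)⟩, h1, h2⟩
  by_cases e : j = 16
  · exact e ▸ h3
  · have hj' : j ∈ [2, 4, 8] := by simp only [List.mem_cons] at hj ⊢; tauto
    exact ⟨_, (H2 j hj').2, (h2 _ (H2 j hj').1).of_eq rfl (by group)⟩

theorem Ctx.exW (hδ : δ < 2) (C : Ctx φ σ (128 + δ) (192 + δ)) (w : E16) : ExW φ w := by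
  have hr : 1024 ∈ [32, 512, 1024] := by simp
  have orb : ∀ {L : List ℕ}, (∀ j ∈ L, ExW φ (o j)) → ∀ w, LE L (fun j => w = o j ∨ w = cjE 1024 (o j) ∨
      w = cjE 1024 (cjE 1024 (o j))) → ExW φ w := by
    rintro L hL w ⟨j, hj, rfl | rfl | rfl⟩
    exacts [hL j hj, (hL j hj).conj C.inj hr, ((hL j hj).conj C.inj hr).conj C.inj hr]
  have x0 : ExW φ (o 0) := ⟨1, one_mem _, psi_one C.inj, by simp⟩
  have x1 : ExW φ (o 1) := ⟨φ (o 128), map_mem_QW (by decide +kernel),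
    (psi_eq C.inj (r := o 2) ((relW_iff C.inj).2 (by decide +kernel))).trans (by decide +kernel), by
      rw [← map_mul, (by decide +kernel : (o 128 : NW) * o 128 = 1), map_one]; exact one_mem _⟩
  have x45 : ExW φ (o 4) ∧ ExW φ (o 5) := by
    obtain ⟨u, hu, h1, h2⟩ := C.t3_mem hδ
    have H : ∀ δ < 2, InJ (o 32 : NW) ∧ (piE (f3 δ (o 32) * (o 32)⁻¹) = o 4 ∨ piE (f3 δ (o 32) * (o 32)⁻¹) = o 5) ∧
      cjE 512 (o 4) = o 5 ∧ cjE 512 (o 5) = o 4 := by decide +kernel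
    obtain ⟨H1, H2, H3, H4⟩ := H δ hδ
    have : ExW φ (piE (f3 δ (o 32) * (o 32)⁻¹)) :=
      ⟨u, hu, psi_eq C.inj ((h2 _ H1).of_eq rfl (by group)), h1 ▸ one_mem _⟩
    rcases H2 with e | e <;> rw [e] at this
    exacts [⟨this, H3 ▸ this.conj C.inj (by simp)⟩, ⟨H4 ▸ this.conj C.inj (by simp), this⟩]
  have sing := orb (L := [0, 1, 4, 5]) (by simp only [List.forall_mem_cons]; exact ⟨x0, x1, x45.1, x45.2, by simp⟩)
  have sq : ∀ g ∈ QW φ, ∀ w, psi φ g = w → LE [0, 1, 4, 5] (fun j => w = o j ∨ w = cjE 1024 (o j) ∨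
      w = cjE 1024 (cjE 1024 (o j))) → g * g ∈ A0.map φ := fun g hg w e hw => by
    obtain ⟨h, hh, h1, h2⟩ := sing w hw
    exact C.sq_of hg hh (h1.trans e.symm) h2
  obtain ⟨a, ha, pa, sa⟩ := id x1
  obtain ⟨b, hb, pb, sb⟩ := x45.1
  have ha' := conj_mem_QW hr ha
  have hb' := conj_mem_QW hr hb
  have hb'' := conj_mem_QW hr hb'
  have pa' := psi_conj C.inj hr ha
  have pb' := psi_conj C.inj hr hb
  have pb'' := psi_conj C.inj hr hb'
  have cb := C.bet_conj ha hb'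
  rw [pb'] at pb''
  rw [pa] at pa'
  rw [pb] at pb' pb''
  generalize φ (o 1024) * a * (φ (o 1024))⁻¹ = a' at *
  generalize φ (o 1024) * b * (φ (o 1024))⁻¹ = b' at *
  generalize φ (o 1024) * b' * (φ (o 1024))⁻¹ = b'' at *
  have sa' := sq a' ha' _ pa' (by decide +kernel)
  have sb' := sq b' hb' _ pb' (by decide +kernel)
  have b1 : bet φ a b = 1 := (C.bet_one ha hb sa sb).2 (sq _ (mul_mem ha hb) _
    (by rw [psi_mul C.inj ha hb, pa, pb]) (by decide +kernel))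
  have b2 : bet φ a' b' = 1 := (C.bet_one ha' hb' sa' sb').2 (sq _ (mul_mem ha' hb') _
    (by rw [psi_mul C.inj ha' hb', pa', pb']) (by decide +kernel))
  have paa := psi_mul C.inj ha ha'
  have pbb := psi_mul C.inj hb hb'
  rw [pa, pa'] at paa
  rw [pb, pb'] at pbb
  have b3 : bet φ (a * a') (b * b') = 1 := (C.bet_one (mul_mem ha ha') (mul_mem hb hb')
    (sq _ (mul_mem ha ha') _ paa (by decide +kernel)) (sq _ (mul_mem hb hb') _ pbb (by decide +kernel))).2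
    (sq _ (mul_mem (mul_mem ha ha') (mul_mem hb hb')) _
      (by rw [psi_mul C.inj (mul_mem ha ha') (mul_mem hb hb'), paa, pbb]) (by decide +kernel))
  rw [C.bet_left ha ha' (mul_mem hb hb'), C.bet_right ha hb hb', C.bet_right ha' hb hb', b1, b2, one_mul,
    mul_one] at b3
  obtain ⟨r, hr', e⟩ := C.psi_ker (mul_mem (inv_mem (mul_mem hb hb')) hb'') (by
    rw [psi_mul C.inj (inv_mem (mul_mem hb hb')) hb'', psi_inv C.inj (mul_mem hb hb'), pbb, pb'']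
    decide +kernel)
  rw [inv_mul_eq_iff_eq_mul.1 e, C.bet_right ha' (mul_mem hb hb') (R_mem_QW hr'), C.bet_R ha' hr',
    C.bet_right ha' hb hb', b2, mul_one, mul_one] at cb
  obtain ⟨b4, b5⟩ := (by decide +kernel : ∀ u w : E16, u * w = 1 → w = cjE 1024 u → u = 1 ∧ w = 1) _ _ b3 cb
  refine orb (L := [0, 1, 4, 5, 9, 6]) ?_ w (by revert w; decide +kernel)
  simp only [List.forall_mem_cons]
  refine ⟨x0, x1, x45.1, x45.2, ⟨_, mul_mem ha hb', ?_, (C.bet_one ha hb' sa sb').1 b4⟩,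
    ⟨_, mul_mem ha' hb, ?_, (C.bet_one ha' hb sa' sb).1 b5⟩, by simp⟩
  · rw [psi_mul C.inj ha hb', pa, pb']; decide +kernel
  · rw [psi_mul C.inj ha' hb, pa', pb]; decide +kernel

variable [Finite G]

theorem Ctx.exists_QF (hδ : δ < 2) (C : Ctx φ σ (128 + δ) (192 + δ)) : ∃ Q, QF φ Q := by
  have HA : InA (o 1) ∧ InA (o 64) := by decide +kernel
  have ker : ∀ g ∈ QW φ, psi φ g = 1 ↔ g ∈ R0.map φ := fun g hg => ⟨fun h => by
      obtain ⟨r, hr, rfl⟩ := C.psi_ker hg h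
      exact mem_map_of_mem φ hr, by
    rintro ⟨r, hr, rfl⟩
    rw [psi_eq C.inj (r := r * o 32 * r⁻¹ * (o 32)⁻¹) ((Rel.conj φ _ _).of_eq rfl (by group))]
    exact (by decide +kernel : UT 128 fun r : NW => InR0 r → piE (r * o 32 * r⁻¹ * (o 32)⁻¹) = 1) r hr.2 hr⟩
  have ge : R0.map φ ≤ QW φ := by
    rintro _ ⟨r, hr, rfl⟩
    exact R_mem_QW hr
  refine ⟨QW φ, fun g hg => ⟨mem_Cx'.2 (hg.1 _ HA.1), mem_Cx'.2 (hg.1 _ HA.2)⟩, ge, ?_, fun g hg => ?_,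
    mem_normalizer_of_forall fun g => conj_mem_QW (by simp),
    mem_normalizer_of_forall fun g => conj_mem_QW (by simp), fun g ⟨_, _, r, hr, h⟩ => ⟨r, hr, (rel_e.1 h).symm⟩,
    fun g hg ⟨a, ha, h⟩ => (ker g hg).1 ?_, fun r hr => ?_, fun n hn h => ?_⟩
  · obtain ⟨K, W, h1, h2, h3⟩ := card_homW (QW φ) (psi φ) fun a ha b hb => psi_mul C.inj ha hb
    have e1 : K = R0.map φ := Subgroup.ext fun a => (h2 a).trans
      ⟨fun h => (ker a h.1).1 h.2, fun h => ⟨ge h, (ker a (ge h)).2 h⟩⟩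
    have e2 : W = ⊤ := eq_top_iff.2 fun w _ => by
      obtain ⟨g, hg, h, -⟩ := C.exW hδ w
      exact (h3 w).2 ⟨g, hg, h⟩
    rw [h1, e1, e2, card_top, card_eq, card_map_of_injective C.inj, R0, card_subG]
    decide +kernel
  · obtain ⟨h, hh, h1, h2⟩ := C.exW hδ (psi φ g)
    exact C.sq_of hg hh h1 h2
  · rw [psi, ← h, valE_map C.inj, piE_one (A_le ha)]
    exact ha
  · obtain ⟨g, hg, h1, -⟩ := C.exW hδ (piE r)
    obtain ⟨-, -, s, hs, h2⟩ := id hg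
    refine ⟨g, hg, ?_⟩
    rw [rel_e.1 h2, ← map_mul, mem_map_iff_mem C.inj, ← piE_one (mul_mem hs hr), piE_mul hs hr, ← psi_eq C.inj h2,
      h1, (E16_facts _).1]
  · obtain ⟨u, hu, -, h2⟩ := C.t3_mem hδ
    have H : ∀ δ < 2, UT 128 fun n : NW => LA [128, 256] (fun j => o j * n * (o j)⁻¹ = n ∨
        o j * n * (o j)⁻¹ = n * o 1) → InJ n ∧ InJ ((o 1024)⁻¹ * n * o 1024) ∧ ((f3 δ n = n ∨ f3 δ n = n * o 1) →
        (o 1024 * f3 δ ((o 1024)⁻¹ * n * o 1024) * (o 1024)⁻¹ = n ∨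
          o 1024 * f3 δ ((o 1024)⁻¹ * n * o 1024) * (o 1024)⁻¹ = n * o 1) → InA n) := by decide +kernel
    have H' : LA [128, 256] fun j => InQ (o j) := by decide +kernel
    obtain ⟨h3, h4, h5⟩ := H δ hδ n hn fun j hj =>
      (h _ (map_mem_QW (H' j hj))).imp (relW_iff C.inj).1 (relW_iff C.inj).1
    have h6 := ((h2 _ h4).conj_by (o 1024)).of_eq (p' := n) (by group) rfl
    exact h5 ((h u hu).imp (fun e => (h2 n h3).uniq C.inj e rfl) fun e => (h2 n h3).uniq C.inj e rfl)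
      ((h _ (conj_mem_QW (m := 1024) (by simp) hu)).imp (fun e => h6.uniq C.inj e rfl) fun e => h6.uniq C.inj e rfl)

end CfsgLib.Yos
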