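import Mathlib
import Cfsg.Agent.Lib.Yos.W1

/-!
# Yoshida's theorem, wreathed case: a Sylow 2-subgroup normalises `Q` (plans/YOS.md)
-/

set_option autoImplicit false
set_option maxRecDepth 100000
set_option synthInstance.maxSize 4096

namespace CfsgLib.Yos

open Subgroup Cfsg CfsgLib.W2 CfsgLib.W2.TG CfsgLib.Tech CfsgLib.CosetEnum

variable {G : Type*} [Group G] {σ : G} {φ : NW →* G} {δ : ℕ} {Q : Subgroup G}

theorem cm_of_sq {Q A : Subgroup G} (hc : ∀ g ∈ Q, ∀ a ∈ A, g * a = a * g) (hs : ∀ g ∈ Q, g * g ∈ A)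
    {g h : G} (hg : g ∈ Q) (hh : h ∈ Q) : g * h * g⁻¹ * h⁻¹ ∈ A := by
  rw [show g * h * g⁻¹ * h⁻¹ = g * h * (g * h) * (h⁻¹ * (g * g)⁻¹) * h * (h * h)⁻¹ by group,
    hc _ (inv_mem hh) _ (inv_mem (hs g hg)), ← mul_assoc, inv_mul_cancel_right]
  exact mul_mem (mul_mem (hs _ (mul_mem hg hh)) (inv_mem (hs g hg))) (inv_mem (hs h hh))

theorem card_le_cnt_map (hφ : Function.Injective φ) (K : Subgroup G) (P : NW → Prop) [DecidablePred P]
    (h : ∀ u ∈ K, ∃ r, P r ∧ u = φ r) : Nat.card K ≤ cnt P := by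
  rw [← map_comap_eq_self (f := φ) (H := K) fun u hu => (h u hu).imp fun _ e => e.2.symm,
    card_map_of_injective hφ]
  refine card_le_cnt _ _ fun r hr => ?_
  obtain ⟨s, hs, e⟩ := h _ hr
  exact hφ e ▸ hs

theorem QF.cA (F : QF φ Q) : ∀ g ∈ Q, ∀ a ∈ A0.map φ, g * a = a * g := by
  rintro g hg _ ⟨a, ha, rfl⟩
  exact (rel_A (F.le hg).1 (F.le hg).2 ha).comm

theorem QF.le_QW (F : QF φ Q) : Q ≤ QW φ := fun g hg => by
  refine ⟨fun a => rel_A (F.le hg).1 (F.le hg).2, fun r hr => ?_, ?_⟩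
  · obtain ⟨a, ha, e⟩ := cm_of_sq F.cA F.sq hg (F.ge (mem_map_of_mem φ hr))
    exact ⟨a, ha, by rw [W2.Rel, RA_comm hr ha, map_mul, e, inv_mul_cancel_right]⟩
  · obtain ⟨r, hr, e⟩ := F.ce g hg
    exact ⟨r, hr, rel_e.2 e.symm⟩

theorem ee_map : φ (o 32) * φ (o 32) = 1 := by rw [← map_mul, eeW, map_one]

theorem tt_map : φ (o 512) * φ (o 512) = 1 := by
  rw [← map_mul, (by decide +kernel : (o 512 : NW) * o 512 = 1), map_one]

theorem cm_inv {e k : G} (he : e * e = 1) :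
    k * e * k⁻¹ * e * e * (k * e * k⁻¹ * e)⁻¹ * e = k * e * k⁻¹ * e * (k * e * k⁻¹ * e) := by
  rw [show k * e * k⁻¹ * e * e * (k * e * k⁻¹ * e)⁻¹ * e = k * e * k⁻¹ * e * (k * e⁻¹ * k⁻¹ * e) by group,
    ← mul_eq_one_iff_eq_inv.1 he]

/-- The elements which normalise `Q` and centralise the involution `e` modulo `Q`. -/
def cMod (Q : Subgroup G) (e : G) (he : e * e = 1) : Subgroup G where
  carrier := {u | u ∈ normalizer (Q : Set G) ∧ u * e * u⁻¹ * e ∈ Q}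
  one_mem' := ⟨one_mem _, by simp [he]⟩
  mul_mem' := fun {u v} ⟨h1, h2⟩ ⟨h3, h4⟩ => ⟨mul_mem h1 h3, by
    rw [show u * v * e * (u * v)⁻¹ * e = u * (v * e * v⁻¹ * e) * u⁻¹ * (u * e⁻¹ * u⁻¹ * e) by group,
      ← mul_eq_one_iff_eq_inv.1 he]
    exact mul_mem (conj_mem_of_mem_normalizer h1 h4) h2⟩
  inv_mem' := fun {u} ⟨h1, h2⟩ => ⟨inv_mem h1, by
    have := conj_mem_of_mem_normalizer' h1 (inv_mem h2)
    rw [show u⁻¹ * (u * e * u⁻¹ * e)⁻¹ * u = u⁻¹ * e⁻¹ * u⁻¹⁻¹ * e⁻¹ by group,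
      ← mul_eq_one_iff_eq_inv.1 he] at this
    exact this⟩

variable [Finite G]

omit [Finite G] in
theorem QF.key (F : QF φ Q) (C : Ctx φ σ (128 + δ) (192 + δ)) {T : Subgroup G} (hT : IsPGroup 2 T) (hQ : Q ≤ T)
    (ht : φ (o 512) ∈ T) (hz : T ≤ Cx (φ (o 1))) {k : G} (hk : k ∈ T) (hx : k ∈ Cx (φ (o 64)))
    (h : k * φ (o 32) * k⁻¹ * φ (o 32) ∈ Q) : k ∈ Q ∨ k * φ (o 512) ∈ Q := by
  obtain ⟨r, hr, e1⟩ := F.ker _ h (by rw [cm_inv ee_map]; exact F.sq _ h)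
  obtain ⟨a, ha, h1⟩ := F.surj r hr
  obtain ⟨s, hs, e2⟩ := F.ce a ha
  rw [← e2, ← map_mul, mem_map_iff_mem C.inj, ← piE_one (mul_mem hs hr), piE_mul hs hr] at h1
  have h2 : r * s⁻¹ ∈ A0 := by
    have := piE_mul (mul_mem hr (inv_mem hs)) hs
    rw [inv_mul_cancel_right, (mul_eq_one_iff_eq_inv.1 h1).trans (mul_eq_one_iff_eq_inv.1 (E16_facts _).1).symm] at this
    exact (piE_one (mul_mem hr (inv_mem hs))).1 (by simpa using this)
  obtain ⟨n, h3, e3⟩ := C.normA (mul_mem (inv_mem (F.le ha).1) (hz hk)) h2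
    ((((F.le_QW ha).1 _ h2).mul (rel_e.2 e2.symm)).symm.comp ((rel_e.2 e1.symm).of_eq rfl (by group)))
  have H : ∀ n : NW, n.v % 512 < 128 → n * o 64 = o 64 * n → InR0 n ∨ InR0 (n * o 512) ∨ LE [0, 512] fun j =>
    n * o j * (n * o j) ≠ 1 ∧ n * o j * (n * o j) * (n * o j * (n * o j)) * (n * o j * (n * o j)) = 1 := by
    decide +kernel
  have hn : φ n ∈ T := e3 ▸ mul_mem (inv_mem (hQ ha)) hk
  rw [inv_mul_eq_iff_eq_mul] at e3
  rcases H n h3 ((commW_iff C.inj).1 ((mul_mem_cancel_left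
    (show a ∈ Cx (φ (o 64)) from (F.le ha).2)).1 (e3 ▸ hx))) with h4 | h4 | ⟨j, hj, h4, h5⟩
  · exact Or.inl (e3 ▸ mul_mem ha (F.ge (mem_map_of_mem φ h4)))
  · exact Or.inr (by rw [e3, mul_assoc, ← map_mul]; exact mul_mem ha (F.ge (mem_map_of_mem φ h4)))
  · have : φ (n * o j) ∈ T := by
      rw [map_mul]
      refine mul_mem hn ?_
      simp only [List.mem_cons, List.not_mem_nil, or_false] at hj
      rcases hj with rfl | rfl
      exacts [(map_one φ).symm ▸ one_mem T, ht]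
    refine absurd (C.inj ?_) h4
    rw [map_one, map_mul]
    exact eq_one_of_cubeW hT (mul_mem this this) (by simp only [← map_mul]; rw [h5, map_one])

/-- The elements of `Q` which commute with `t` modulo `A`. -/
theorem QF.card_le (F : QF φ Q) (C : Ctx φ σ (128 + δ) (192 + δ)) {D : Subgroup G} (hD : D ≤ Q)
    (h : ∀ u ∈ D, φ (o 512) * u * (φ (o 512))⁻¹ * u⁻¹ ∈ A0.map φ) : Nat.card D ≤ 64 := by
  obtain ⟨K, W, h1, h2, h3⟩ := card_homW D (psi φ) fun a ha b hb =>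
    psi_mul C.inj (F.le_QW (hD ha)) (F.le_QW (hD hb))
  have e1 := card_le_cnt_map C.inj K (fun r => InR0 r ∧ InA (o 512 * r * (o 512)⁻¹ * r⁻¹)) fun u hu => by
    obtain ⟨r, hr, rfl⟩ := C.psi_ker (F.le_QW (hD ((h2 u).1 hu).1)) ((h2 u).1 hu).2
    refine ⟨r, ⟨hr, (mem_map_iff_mem (K := A0) C.inj).1 ?_⟩, rfl⟩
    simpa using h _ ((h2 _).1 hu).1
  have e2 := card_le_cnt W (fun w => cjE 512 w = w) fun w hw => by
    obtain ⟨u, hu, rfl⟩ := (h3 w).1 hw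
    obtain ⟨a, ha, e⟩ := h u hu
    rw [← psi_conj C.inj (by simp) (F.le_QW (hD hu)), ← inv_mul_cancel_right (φ (o 512) * u * (φ (o 512))⁻¹) u,
      ← e, psi_mul C.inj (R_mem_QW (A_le ha)) (F.le_QW (hD hu)),
      psi_eq C.inj (r := a * o 32 * a⁻¹ * (o 32)⁻¹) ((Rel.conj φ _ _).of_eq rfl (by group)),
      (by decide +kernel : UT 128 fun r : NW => InA r → piE (r * o 32 * r⁻¹ * (o 32)⁻¹) = 1) a ha.2 ha, one_mul]
  exact h1 ▸ (Nat.mul_le_mul e1 e2).trans (by decide +kernel)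

noncomputable def Z0 : Subgroup NW := subG (fun a => a.v < 2) [o 1] 1 (by decide +kernel)

theorem QF.normal (F : QF φ Q) (C : Ctx φ σ (128 + δ) (192 + δ)) {T : Subgroup G} (hT : IsPGroup 2 T) (hQ : Q ≤ T)
    (he : φ (o 32) ∈ T) (ht : φ (o 512) ∈ T) (hz : T ≤ Cx (φ (o 1))) (hA : T ≤ normalizer (A0.map φ : Set G)) :
    T ≤ normalizer (Q : Set G) := by
  by_contra hn
  obtain ⟨g, hg, gN, gn⟩ := exists_mem_normalizer_of_lt hT
    (lt_of_le_of_ne inf_le_left fun e => hn (e ▸ inf_le_right) : T ⊓ normalizer (Q : Set G) < T)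
  have AQ : A0.map φ ≤ Q := (map_mono A_le).trans F.ge
  have h1 : cj g Q ≤ T ⊓ normalizer (Q : Set G) := cj_le_iff.2 fun u hu =>
    conj_mem_of_mem_normalizer gn ⟨hQ hu, le_normalizer hu⟩
  have h2 : φ (o 32) ∈ normalizer (cj g Q : Set G) := by
    rw [← cj_normalizer, mem_cj]
    exact (conj_mem_of_mem_normalizer' gn ⟨he, F.ne⟩).2
  have cA : ∀ u ∈ cj g Q, ∀ a ∈ A0.map φ, u * a = a * u := fun u hu a ha => by
    have := F.cA _ (mem_cj.1 hu) _ (conj_mem_of_mem_normalizer' (hA hg) ha)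
    rwa [show g⁻¹ * u * g * (g⁻¹ * a * g) = g⁻¹ * (u * a) * g by group,
      show g⁻¹ * a * g * (g⁻¹ * u * g) = g⁻¹ * (a * u) * g by group, mul_left_inj, mul_right_inj] at this
  have sq : ∀ u ∈ cj g Q, u * u ∈ A0.map φ := fun u hu => by
    have := conj_mem_of_mem_normalizer (hA hg) (F.sq _ (mem_cj.1 hu))
    rwa [show g * (g⁻¹ * u * g * (g⁻¹ * u * g)) * g⁻¹ = u * u by group] at this
  have key : ∀ u ∈ cj g Q, u * φ (o 32) * u⁻¹ * φ (o 32) ∈ Q → u ∈ Q ∨ u * φ (o 512) ∈ Q := fun u hu =>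
    F.key C hT hQ ht hz (h1 hu).1 (mem_Cx.2 (cA u hu _ (mem_map_of_mem φ (by decide +kernel : InA (o 64)))))
  have cm : ∀ u ∈ cj g Q, u * φ (o 32) * u⁻¹ * φ (o 32) ∈ cj g Q := fun u hu => by
    have := mul_mem hu (conj_mem_of_mem_normalizer h2 (inv_mem hu))
    rwa [← mul_eq_one_iff_eq_inv.1 ee_map, ← mul_assoc, ← mul_assoc] at this
  have key2 := fun u hu => key _ (cm u hu) (by rw [cm_inv ee_map]; exact AQ (sq _ (cm u hu)))
  have two : ∀ a b, a * φ (o 512) ∈ Q → b * φ (o 512) ∈ Q → a * b ∈ Q := fun a b ha hb => by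
    have := mul_mem ha (conj_mem_of_mem_normalizer F.nt hb)
    rwa [show a * φ (o 512) * (φ (o 512) * (b * φ (o 512)) * (φ (o 512))⁻¹) = a * (φ (o 512) * φ (o 512)) * b by
      group, tt_map, mul_one] at this
  have c1 := card_twoW (S := cj g Q) (T := cMod Q _ (ee_map (φ := φ))) fun u hu v hv nu nv =>
    ⟨(h1 (mul_mem hu hv)).2, by
      have := mul_mem (AQ (cm_of_sq cA sq hu (cm v hv))) (two _ _
        ((key2 v hv).resolve_left fun h => nv ⟨(h1 hv).2, h⟩) ((key2 u hu).resolve_left fun h => nu ⟨(h1 hu).2, h⟩))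
      rwa [show ∀ e : G, u * (v * e * v⁻¹ * e) * u⁻¹ * (v * e * v⁻¹ * e)⁻¹ * (v * e * v⁻¹ * e * (u * e * u⁻¹ * e)) =
        u * v * e * v⁻¹ * (e * u⁻¹ * u * e) * u⁻¹ * e from fun e => by group, inv_mul_cancel_right, ee_map,
        mul_one, mul_assoc _ v⁻¹, ← mul_inv_rev] at this⟩
  have c2 := card_twoW (S := cj g Q ⊓ cMod Q _ (ee_map (φ := φ))) (T := Q) fun u hu v hv nu nv =>
    two _ _ ((key u hu.1 hu.2.2).resolve_left nu) ((key v hv.1 hv.2.2).resolve_left nv)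
  obtain ⟨k, hk, hk'⟩ : ∃ k ∈ cj g Q, k * φ (o 512) ∈ Q := by
    by_contra h
    push Not at h
    exact gN ⟨hg, mem_normalizer_of_cj_le fun u hu => (key u hu ((key2 u hu).resolve_right
      (h _ (cm u hu)))).resolve_right (h u hu)⟩
  have c3 := F.card_le C (D := cj g Q ⊓ cMod Q _ (ee_map (φ := φ)) ⊓ Q) inf_le_right fun u hu => by
    have e1 := cm_of_sq F.cA F.sq hk' hu.2
    have := mul_mem e1 (cm_of_sq cA sq (inv_mem hk) hu.1.1)
    rwa [show ∀ c : G, c * (k⁻¹ * u * k⁻¹⁻¹ * u⁻¹) = c * k⁻¹ * (u * k * u⁻¹) from fun c => by group,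
      ← cA _ (inv_mem hk) _ e1, show ∀ t : G, k⁻¹ * (k * t * u * (k * t)⁻¹ * u⁻¹) * (u * k * u⁻¹) =
        t * u * t⁻¹ * u⁻¹ from fun t => by group] at this
  rw [card_cj, F.card] at c1
  omega

/-- A Sylow 2-subgroup which normalises `A` and `Q`. -/
theorem Ctx.exists_sylW (hδ : δ < 2) (C : Ctx φ σ (128 + δ) (192 + δ)) {Q : Subgroup G} (F : QF φ Q) :
    ∃ T, IsSylowIn 2 T ⊤ ∧ Q ≤ T ∧ φ (o 32) ∈ T ∧ T ≤ Cx (φ (o 1)) ∧
      T ≤ normalizer (A0.map φ : Set G) ∧ T ≤ normalizer (Q : Set G) := by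
  let H0 : Subgroup NW := subG (fun a => a.v ∈ [0, 32, 512, 544]) [o 32, o 512] 2 (by decide +kernel)
  have h0 : IsPGroup 2 (H0.map φ) := (IsPGroup.of_card (n := 2) (by rw [card_subG]; decide +kernel)).map φ
  obtain ⟨T, hT, h1⟩ := exists_isSylowIn_ge (H := ⊤) (IsPGroup.to_sup_of_normal_left'
    (IsPGroup.of_card (n := 10) F.card) h0 (map_le_iff_le_comap.2 (subG_le (by
      simp only [List.forall_mem_cons]; exact ⟨F.ne, F.nt, by simp⟩)))) le_top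
  have hQ : Q ≤ T := le_sup_left.trans h1
  have he : φ (o 32) ∈ T := h1 (mem_sup_right (mem_map_of_mem φ (by decide +kernel : (o 32 : NW).v ∈ [0, 32, 512, 544])))
  have ht : φ (o 512) ∈ T :=
    h1 (mem_sup_right (mem_map_of_mem φ (by decide +kernel : (o 512 : NW).v ∈ [0, 32, 512, 544])))
  have HR : LA [1, 2, 4, 8, 16, 64] fun j => InR0 (o j) := by decide +kernel
  have hR : ∀ j ∈ [1, 2, 4, 8, 16, 64], φ (o j) ∈ T := fun j hj => hQ (F.ge (mem_map_of_mem φ (HR j hj)))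
  have hz : T ≤ Cx (φ (o 1)) := by
    obtain ⟨u, -, h2, h3⟩ := cenMod (N := ⊥) hT.pgroup le_normalizer_of_normal fun h =>
      absurd (C.inj ((mem_bot.1 (h he)).trans (map_one φ).symm)) (by decide +kernel)
    have h4 : ∀ g ∈ T, u ∈ Cx g := fun g hg => mem_Cx'.2 (mul_inv_eq_one.1 (mem_bot.1 (h3 g hg)))
    obtain ⟨n, h5, rfl⟩ := C.cent u (h4 _ he) (h4 _ (hR 1 (by simp)))
    have H : ∀ n : NW, n.v % 512 < 64 → LA [1, 2, 4, 8, 16, 64] (fun j => n * o j = o j * n) → n = 1 ∨ n = o 1 := by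
      decide +kernel
    rcases H n h5 fun j hj => (commW_iff C.inj).1 (h4 _ (hR j hj)) with rfl | rfl
    · exact absurd (by simp) h2
    · exact fun g hg => Cx_comm.1 (h4 g hg)
  have hA : T ≤ normalizer (A0.map φ : Set G) := by
    have H0 : UT 2 fun a : NW => (a = 1 ∨ a = o 1) ∧ InA a := by decide +kernel
    obtain ⟨k, hk, h2, h3⟩ := cenMod (N := Z0.map φ) hT.pgroup (fun g hg => mem_normalizer_of_forall (by
      rintro _ ⟨a, ha, rfl⟩
      refine ⟨a, ha, ?_⟩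
      rcases (H0 a ha).1 with rfl | rfl
      exacts [by simp, (mem_Cx'.1 (hz hg)).symm])) fun h =>
        absurd ((mem_map_iff_mem C.inj).1 (h he)) (by decide +kernel : ¬ (o 32 : NW).v < 2)
    obtain ⟨n, h4, rfl⟩ : ∃ n : NW, n.v % 512 < 128 ∧ k = φ n := by
      obtain ⟨a, ha, e⟩ := h3 _ he
      exact C.normA (hz hk) (H0 a ha).2 (by rw [W2.Rel, map_mul, e, inv_mul_cancel_right])
    have H : ∀ n : NW, n.v % 512 < 128 → LA [1, 2, 4, 8, 16, 64] (fun j => (n * o j * n⁻¹ * (o j)⁻¹).v < 2) →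
      n.v < 128 ∧ (UT 2 fun a : NW => a⁻¹ * n = n ∨ a⁻¹ * n = n * o 1) ∧
        (InA n → ¬ n.v < 2 → o 64 = n ∨ o 64 = n * o 1) := by decide +kernel
    obtain ⟨h5, h6, h7⟩ := H n h4 fun j hj => (mem_map_iff_mem (K := Z0) C.inj).1 (by simpa using h3 _ (hR j hj))
    have h8 : ∀ g ∈ T, W2.Rel φ g n n ∨ W2.Rel φ g n (n * o 1) := fun g hg => by
      obtain ⟨a, ha, e⟩ := h3 g hg
      have : W2.Rel φ g n (a⁻¹ * n) := by rw [W2.Rel, map_mul, map_inv, e]; group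
      exact (h6 a ha).imp (this.of_eq rfl) (this.of_eq rfl)
    have h9 : n ∈ A0 := F.cen n h5 fun g hg => h8 g (hQ hg)
    have hz' : o 1 ∈ A0 := (by decide +kernel : InA (o 1))
    refine fun g hg => mem_normalizer_of_forall ?_
    rintro _ ⟨a, ha, rfl⟩
    rw [← inv_inv g, inv_inv g⁻¹, ← mem_cj]
    have m : ∀ a, ∀ b ∈ A0, W2.Rel φ g a b → a ∈ (cj g⁻¹ (A0.map φ)).comap φ := fun a b hb e =>
      mem_cj.2 ⟨b, hb, by rw [inv_inv]; exact Eq.symm e⟩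
    have m1 := m _ _ hz' (mem_Cx'.1 (hz hg))
    have m2 : n ∈ _ := (h8 g hg).elim (m _ _ h9) (m _ _ (mul_mem h9 hz'))
    refine subG_le (S := (cj g⁻¹ (A0.map φ)).comap φ) ?_ ha
    simp only [List.forall_mem_cons]
    refine ⟨m1, ?_, by simp⟩
    rcases h7 h9 fun h => h2 (mem_map_of_mem φ h) with e | e <;> rw [e]
    exacts [m2, mul_mem m2 m1]
  exact ⟨T, hT, hQ, he, hz, hA, F.normal C hT.pgroup hQ he ht hz hA⟩

end CfsgLib.Yos
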