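import Mathlib
import Cfsg.Agent.Lib.Yos.W2

/-!
# Yoshida's theorem: the wreathed case is impossible (plans/YOS.md)
-/

set_option autoImplicit false
set_option maxRecDepth 100000
set_option synthInstance.maxSize 4096

namespace CfsgLib.Yos

open Subgroup Cfsg CfsgLib.W2 CfsgLib.W2.TG CfsgLib.Tech CfsgLib.CosetEnum

variable {G : Type*} [Group G] [Finite G] {σ : G} {φ : NW →* G} {δ : ℕ}

noncomputable def V0W : Subgroup NW := subG (fun a => a.v < 4) [o 1, o 2] 1 (by decide +kernel)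
noncomputable def V1W : Subgroup NW := subG (fun a => a.v / 4 = 0 ∨ a.v / 4 = 19) [o 1, o 2, o 76] 2
  (by decide +kernel)

/-- The commutators of `e` which lie in `J`. -/
abbrev InX (a : NW) : Prop := a.v / 4 ∈ [0, 1, 2, 19, 128, 131, 161, 178]

/-- No group of order `2 ^ 10` which is elementary abelian modulo `V` is normalised by `e`. -/
theorem Ctx.no_big (hδ : δ < 2) (C : Ctx φ σ (128 + δ) (192 + δ)) {Q : Subgroup G} (hc : Nat.card Q = 1024)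
    (h1 : Q ≤ Cx (φ (o 1))) (h2 : Q ≤ Cx (φ (o 2))) (sq : ∀ u ∈ Q, u * u ∈ V0W.map φ)
    (he : φ (o 32) ∈ normalizer (Q : Set G)) : False := by
  have cA : ∀ u ∈ Q, ∀ a ∈ V0W.map φ, u * a = a * u := by
    rintro u hu _ ⟨a, ha, rfl⟩
    exact (mem_Cx.1 (subG_le (S := (Cx u).comap φ) (by
      simp only [List.forall_mem_cons]; exact ⟨Cx_comm.1 (h1 hu), Cx_comm.1 (h2 hu), by simp⟩) ha)).symm
  have cm : ∀ u ∈ Q, u * φ (o 32) * u⁻¹ * φ (o 32) ∈ Q := fun u hu => by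
    have := mul_mem hu (conj_mem_of_mem_normalizer he (inv_mem hu))
    rwa [← mul_eq_one_iff_eq_inv.1 ee_map, ← mul_assoc, ← mul_assoc] at this
  have mJ : ∀ u ∈ Q, u * φ (o 32) * u⁻¹ * φ (o 32) ∈ V0W.map φ → ∃ a, InJ a ∧ u = φ a := fun u hu ⟨v, hv, e⟩ =>
    C.memJ hδ (h1 hu) (h2 hu) hv ((rel_e.2 e.symm).of_eq rfl
      ((by decide +kernel : UT 4 fun v : NW => v * o 32 = o 32 * v) v hv))
  have lb : ∀ u ∈ Q, ∃ a, InX a ∧ u * φ (o 32) * u⁻¹ * φ (o 32) = φ a := fun u hu => by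
    obtain ⟨a, ha, e⟩ := mJ _ (cm u hu) (by rw [cm_inv ee_map]; exact sq _ (cm u hu))
    have H : UT 1024 fun a : NW => InJ a → InJ (a * o 32) ∧
      ((a * o 32).v / 4 ∈ [8, 9, 10, 27, 136, 139, 169, 186] → InX a) := by decide +kernel
    exact ⟨a, (H a ha.1 ha).2 (C.labW hδ _ (H a ha.1 ha).1 (rel_e.2 e).isConj), e⟩
  have nm : ∀ W : Subgroup NW, V0W ≤ W → Q ≤ normalizer ((Q ⊓ W.map φ : Subgroup G) : Set G) := fun W hW u hu =>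
    mem_normalizer_of_forall fun w hw => ⟨Q.mul_mem (Q.mul_mem hu hw.1) (Q.inv_mem hu), by
      have := mul_mem (map_mono hW (cm_of_sq cA sq hu hw.1)) hw.2
      rwa [inv_mul_cancel_right] at this⟩
  have H : UT 1024 fun a : NW => InX a → UT 1024 fun b : NW => InX b → UT 4 fun w : NW => InX (w * (b * a)) →
    (¬ (a.v / 4 = 0 ∨ a.v / 4 = 19) → ¬ (b.v / 4 = 0 ∨ b.v / 4 = 19) →
      (w * (b * a)).v / 4 = 0 ∨ (w * (b * a)).v / 4 = 19) ∧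
    ((a.v / 4 = 0 ∨ a.v / 4 = 19) → (b.v / 4 = 0 ∨ b.v / 4 = 19) → ¬ a.v < 4 → ¬ b.v < 4 →
      (w * (b * a)).v < 4) := by decide +kernel
  have lt : ∀ a, InX a → a.v < 1024 := fun a ha => by
    simp only [InX, List.mem_cons, List.not_mem_nil, or_false] at ha; omega
  have pr : ∀ u ∈ Q, ∀ v ∈ Q, ∃ a b c : NW, u * φ (o 32) * u⁻¹ * φ (o 32) = φ a ∧
      v * φ (o 32) * v⁻¹ * φ (o 32) = φ b ∧ u * v * φ (o 32) * (u * v)⁻¹ * φ (o 32) = φ c ∧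
      (a ∉ V1W → b ∉ V1W → c ∈ V1W) ∧ (a ∈ V1W → b ∈ V1W → a ∉ V0W → b ∉ V0W → c ∈ V0W) := fun u hu v hv => by
    obtain ⟨a, ha, e1⟩ := lb u hu
    obtain ⟨b, hb, e2⟩ := lb v hv
    obtain ⟨c, hc, e3⟩ := lb _ (mul_mem hu hv)
    obtain ⟨w, hw, e4⟩ := cm_of_sq cA sq hu (cm v hv)
    obtain rfl : c = w * (b * a) := C.inj (by
      rw [map_mul, map_mul, e4, ← e1, ← e2, ← e3, show ∀ e : G, u * (v * e * v⁻¹ * e) * u⁻¹ * (v * e * v⁻¹ * e)⁻¹ *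
        (v * e * v⁻¹ * e * (u * e * u⁻¹ * e)) = u * v * e * v⁻¹ * (e * u⁻¹ * u * e) * u⁻¹ * e from
        fun e => by group, inv_mul_cancel_right, ee_map, mul_one, mul_assoc _ v⁻¹, ← mul_inv_rev])
    exact ⟨a, b, _, e1, e2, e3, H a (lt a ha) ha b (lt b hb) hb w hw hc⟩
  have v01 : V0W ≤ V1W := fun a (ha : a.v < 4) => Or.inl (by omega)
  have c1 := card_twoW (S := Q) (T := cMod (Q ⊓ V1W.map φ) _ (ee_map (φ := φ))) fun u hu v hv nu nv => by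
    obtain ⟨a, b, c, e1, e2, e3, h3, -⟩ := pr u hu v hv
    exact ⟨nm _ v01 (mul_mem hu hv), cm _ (mul_mem hu hv), c, h3 (fun h => nu ⟨nm _ v01 hu, cm _ hu, a, h, e1.symm⟩)
      fun h => nv ⟨nm _ v01 hv, cm _ hv, b, h, e2.symm⟩, e3.symm⟩
  have c2 := card_twoW (S := Q ⊓ cMod (Q ⊓ V1W.map φ) _ (ee_map (φ := φ)))
    (T := cMod (Q ⊓ V0W.map φ) _ (ee_map (φ := φ))) fun u hu v hv nu nv => by
    obtain ⟨a, b, c, e1, e2, e3, -, h3⟩ := pr u hu.1 v hv.1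
    exact ⟨nm _ le_rfl (mul_mem hu.1 hv.1), cm _ (mul_mem hu.1 hv.1), c,
      h3 ((mem_map_iff_mem C.inj).1 (e1 ▸ hu.2.2.2)) ((mem_map_iff_mem C.inj).1 (e2 ▸ hv.2.2.2))
        (fun h => nu ⟨nm _ le_rfl hu.1, cm _ hu.1, a, h, e1.symm⟩)
        fun h => nv ⟨nm _ le_rfl hv.1, cm _ hv.1, b, h, e2.symm⟩, e3.symm⟩
  by_cases hm : φ (o 32) ∈ Q
  · have := card_le_cnt_map C.inj Q InJ fun u hu => mJ u hu (by
      have := cm_of_sq cA sq hu hm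
      rwa [← mul_eq_one_iff_eq_inv.1 ee_map] at this)
    rw [hc] at this
    exact absurd this (by decide +kernel)
  · have := card_le_cnt_map C.inj (Q ⊓ cMod (Q ⊓ V1W.map φ) _ (ee_map (φ := φ)) ⊓
      cMod (Q ⊓ V0W.map φ) _ (ee_map (φ := φ))) (fun a => InJ a ∧ a ≠ o 32) fun u hu => by
      obtain ⟨a, ha, rfl⟩ := mJ u hu.1.1 hu.2.2.2
      exact ⟨a, ⟨ha, fun e => hm (e ▸ hu.1.1)⟩, rfl⟩
    rw [(by decide +kernel : cnt (fun a : NW => InJ a ∧ a ≠ o 32) = 255)] at this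
    omega

theorem Ctx.wreath_false (hδ : δ < 2) (C : Ctx φ σ (128 + δ) (192 + δ)) {Q : Subgroup G} (F : QF φ Q)
    (hO : φ (o 32) ∈ pResidual 2 G) : False := by
  obtain ⟨T, hT, hQ, he, hz, hA, hN⟩ := C.exists_sylW hδ F
  have HA : InA (o 1) ∧ InA (o 64) ∧ (o 32 : NW) * o 64 * (o 32)⁻¹ = o 64 * o 1 ∧ (o 64 : NW) * o 1 ≠ o 64 ∧
    (o 64 : NW) * o 1 * o 1 = o 64 ∧ InS (o 32) ∧ InJ (o 64 : NW) ∧ (o 1 : NW) * o 1 = 1 ∧ (o 64 : NW) * o 64 = 1 ∧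
    (o 1 : NW) ≠ 1 ∧ (o 64 : NW) ≠ 1 ∧ (o 64 : NW) ≠ o 1 ∧ UT 128 fun a : NW => InA a →
      a = 1 ∨ a = o 1 ∨ a = o 64 ∨ a = o 64 * o 1 := by decide +kernel
  obtain ⟨a1, a2, a3, a4, a5, a6, a7, a8, a9, b1, b2, b3, b4⟩ := HA
  have rz : ∀ b ∈ T, W2.Rel φ b (o 1) (o 1) := fun b hb => mem_Cx'.1 (hz hb)
  have hx : ∀ b ∈ T, W2.Rel φ b (o 64) (o 64) ∨ W2.Rel φ b (o 64) (o 64 * o 1) := fun b hb => by
    obtain ⟨a, ha, e⟩ := conj_mem_of_mem_normalizer (hA hb) (mem_map_of_mem φ a2)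
    have e' : W2.Rel φ b (o 64) a := e.symm
    rcases b4 a ha.2 ha with rfl | rfl | rfl | rfl
    exacts [absurd (e'.uniq' C.inj Rel.one rfl) b2, absurd (e'.uniq' C.inj (rz b hb) rfl) b3, Or.inl e', Or.inr e']
  have re : W2.Rel φ (φ (o 32)) (o 64) (o 64 * o 1) := (relW_iff C.inj).2 a3
  obtain ⟨k, h1, h2⟩ := thompson_ext (H := T) (Q := Cx (φ (o 64))) (by rw [← relIndex_top_right]; exact hT.not_dvd)
    (index_eq_two_iff.2 ⟨⟨_, he⟩, fun b => (hx b b.2).elim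
      (fun h => Or.inr ⟨mem_Cx'.2 h, fun h' => a4 (((h.mul (rz b b.2)).comp re).uniq C.inj (mem_Cx'.1 h') rfl)⟩)
      fun h => Or.inl ⟨mem_Cx'.2 (((h.mul (rz b b.2)).comp re).of_eq rfl a5),
        fun h' => a4 (h.uniq C.inj (mem_Cx'.1 h') rfl)⟩⟩) ee_map hO C.sylS.pgroup C.sylS.le
  have h3 := h2 _ (mem_map_of_mem φ a6)
  have hle : cj k (A0.map φ) ≤ S0.map φ := le_sup_right.trans (C.sylS.eq_of_le
    (IsPGroup.to_sup_of_normal_right' C.sylS.pgroup (isPGroup_cj k ((IsPGroup.of_card (n := 10) F.card).to_le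
      ((map_mono A_le).trans F.ge))) fun s hs => by rw [← cj_normalizer, mem_cj]; exact hA (h2 s hs))
    le_sup_left (sup_le C.sylS.le (cj_le_iff.2 (by
      rintro _ ⟨a, ha, rfl⟩
      have := conj_mem_Cx (g := k).2 (Cx_comm.1 (mem_Cx'.2 (rel_A (hz h3) h1 ha)))
      rwa [show k * (k⁻¹ * φ (o 32) * k) * k⁻¹ = φ (o 32) by group] at this)))).le
  obtain ⟨n1, s1, e1⟩ := hle (conj_mem_cj.2 (mem_map_of_mem φ a1))
  obtain ⟨n2, s2, e2⟩ := hle (conj_mem_cj.2 (mem_map_of_mem φ a2))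
  have r1 : W2.Rel φ k (o 1) n1 := e1.symm
  have r2 : W2.Rel φ k (o 64) n2 := e2.symm
  have HS : LA [4, 8, 16, 512] fun j => InS (o j) := by decide +kernel
  have tr : ∀ j ∈ [4, 8, 16, 512], ∀ {a a' b b'}, W2.Rel φ k a a' → W2.Rel φ k b b' →
      W2.Rel φ (k⁻¹ * φ (o j) * k) a b → o j * a' * (o j)⁻¹ = b' := fun j hj a a' b b' h h' h'' =>
    (relW_iff C.inj).1 (by simpa [mul_assoc] using (h'.comp h'').comp h.symm)
  have q1 := (r1.mul r1).uniq C.inj Rel.one a8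
  have q2 := (r2.mul r2).uniq C.inj Rel.one a9
  have H1 : UT 1024 fun n : NW => n.v % 512 < 32 → LA [4, 8, 16, 512] (fun j => o j * n * (o j)⁻¹ = n) →
    n = 1 ∨ n = o 1 := by decide +kernel
  obtain rfl : n1 = o 1 := (H1 n1 s1.1 (not_le.1 fun h => C.nc ((C.labW' hδ n1 s1.1 h s1.2 q1).trans r1.isConj.symm))
    fun j hj => tr j hj r1 r1 (rz _ (h2 _ (mem_map_of_mem φ (HS j hj))))).resolve_left fun e =>
      b1 (r1.uniq' C.inj Rel.one e)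
  have H2 : UT 1024 fun n : NW => n.v % 512 < 32 → n * n = 1 → LA [4, 8, 16, 512] (fun j => o j * n * (o j)⁻¹ = n ∨
    o j * n * (o j)⁻¹ = n * o 1) → n ≠ 1 → n ≠ o 1 → n.v < 4 ∧ (n * o 1).v < 4 ∧ (o 2 = n ∨ o 2 = n * o 1) := by
    decide +kernel
  obtain ⟨h4, h5, h6⟩ := H2 n2 s2.1 (not_le.1 fun h => absurd (C.labW hδ _ a7
      ((C.labW' hδ n2 s2.1 h s2.2 q2).trans r2.isConj.symm)) (by decide +kernel)) q2
    (fun j hj => (hx _ (h2 _ (mem_map_of_mem φ (HS j hj)))).imp (tr j hj r2 r2) (tr j hj r2 (r2.mul r1)))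
    (fun e => b2 (r2.uniq' C.inj Rel.one e)) fun e => b3 (r2.uniq' C.inj r1 e)
  have cQ : ∀ {a b}, a ∈ A0 → W2.Rel φ k a b → cj k Q ≤ Cx (φ b) := fun ha h => cj_le_iff.2 fun u hu =>
    Eq.symm h ▸ conj_mem_Cx.2 (mem_Cx.2 (F.cA u hu _ (mem_map_of_mem φ ha)))
  refine C.no_big hδ (Q := cj k Q) (by rw [card_cj, F.card]) (cQ a1 r1) ?_ (fun u hu => ?_)
    (by rw [← cj_normalizer, mem_cj]; exact hN h3)
  · rcases h6 with e | e <;> rw [e]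
    exacts [cQ a2 r2, cQ (mul_mem a2 a1) (r2.mul r1)]
  · obtain ⟨a, ha, e⟩ := F.sq _ (mem_cj.1 hu)
    rw [show u * u = k * (k⁻¹ * u * k * (k⁻¹ * u * k)) * k⁻¹ by group, ← e]
    rcases b4 a ha.2 ha with rfl | rfl | rfl | rfl
    exacts [by simp, ⟨_, (by decide +kernel : (o 1 : NW).v < 4), Eq.symm r1⟩, ⟨_, h4, Eq.symm r2⟩,
      ⟨_, h5, Eq.symm (r2.mul r1)⟩]

end CfsgLib.Yos
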