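import Mathlib
import Cfsg.Agent.Lib.Yos.XBa

set_option autoImplicit false
set_option maxRecDepth 100000

namespace CfsgLib.Yos

open Subgroup Cfsg CfsgLib.W2 CfsgLib.W2.TG CfsgLib.Tech CfsgLib.CosetEnum

variable {G : Type*} [Group G] {e σ x : G} {M : Subgroup G} {φ : HM →* G} {c i : ℕ}

theorem Ctx0.comm (C : Ctx0 e M φ σ) (p : HM) : e * φ p = φ p * e :=
  (mem_Cx.1 ((C.cent _).2 (.inl ((C.rng _).1 ⟨p, rfl⟩).1))).symm

theorem Ctx0.exP (C : Ctx0 e M φ σ) {g : G} (h1 : g ∈ Cx e) (h2 : g ∈ Cx (φ (o 1))) :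
    ∃ p, g = φ p ∨ g = φ p * e := by
  rcases (C.cent g).1 h1 with h | h
  · obtain ⟨p, hp⟩ := (C.rng g).2 ⟨h, h2⟩
    exact ⟨p, .inl hp.symm⟩
  · obtain ⟨p, hp⟩ := (C.rng _).2 ⟨h, mul_mem h2 (mem_Cx.2 (C.comm _))⟩
    exact ⟨p, .inr (by rw [hp, mul_assoc, C.ee, mul_one])⟩

/-- The embedding of `S₃`. -/
noncomputable def s3H : TG ok6 →* HM :=
  homOf (gs := [o 1, o 2]) (D := 3) (by decide +kernel) (fun s => o (32 * s.v)) rfl (by decide +kernel)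

/-- The relations between `R`, `t`, `ρ` and `x' = σ x σ⁻¹`. -/
structure XR (e : G) (φ : HM →* G) (σ : G) (ψ : RG →* G) (c : ℕ) (k : RG) : Prop where
  q : ∀ q < 32, ψ (o q) = φ (o q)
  e : ψ (o 32) = e
  inj : Function.Injective ψ
  r : ∀ a, W2.Rel ψ (φ (o 64)) a (wR lr a)
  t : ∀ a, W2.Rel ψ (φ (o 32)) a (wR [1, 2, 6, 11, 31, 32, 64 + c] a)
  y : ∀ a, W2.Rel ψ (σ * ψ (o 64) * σ⁻¹) a (wR [1, 2, 4 + 2 * c, 8, (o 16 * (o 64 * k)⁻¹).v, 34,
    ((o 64 * k)⁻¹ * (k * o ((k.v / 32) * 2))⁻¹).v] a)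
  yt : W2.Rel φ (σ * ψ (o 64) * σ⁻¹) (o 32) (o (32 + 2 * c))
  k : σ⁻¹ * ψ (o 64) * σ = σ * ψ (o 64) * σ⁻¹ * ψ (o 64 * k)

theorem Ctx0.exists_xr (C : Ctx0 e M φ σ) (X : XA e φ σ x c i) :
    ∃ ψ : RG →* G, XR e φ σ ψ c (o (8 * c + 34 * i)) := by
  obtain ⟨ψ, hq, he, hx⟩ := exists_homR C.ee X.xx C.comm X.xq X.xe
  have hc := X.hc
  have hi := X.hi
  have hs := C.rel
  simp only [List.forall_mem_cons] at hs
  obtain ⟨s1, s2, s4, s8, s32, -⟩ := hs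
  have s3 : W2.Rel φ σ (o 3) (o 1) := (s1.mul s2).of_eq (by decide +kernel) (by decide +kernel)
  have s46 : W2.Rel φ σ (o 46) (o 32) := by simpa using (s32.inv_of_cube C.s3 s4).symm
  have se : σ * e * σ⁻¹ = e := mem_Cx'.1 ((C.cent σ).2 (.inl C.sM))
  have tr : ∀ {u : G} {p q : ℕ}, p < 32 → q < 32 → W2.Rel φ u (o p) (o q) → W2.Rel ψ u (o p) (o q) :=
    fun hp hq' h => by rwa [W2.Rel, hq _ hp, hq _ hq']
  have cj : ∀ {p q p' q' : HM}, W2.Rel φ x p q → W2.Rel φ σ p p' → W2.Rel φ σ q q' →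
      W2.Rel φ (σ * x * σ⁻¹) p' q' := fun h h1 h2 => (h2.comp h).comp h1.symm
  set y := σ * x * σ⁻¹ with hy
  have yy : y * y = 1 := by rw [hy, conj_mul, X.xx]; simp
  have y1 := tr (by norm_num) (by norm_num) (cj (X.xq 3 (by norm_num)) s3 s3)
  have y2 := tr (by norm_num) (by norm_num) (cj (X.xq 1 (by norm_num)) s1 s1)
  have y8 := tr (by norm_num) (by norm_num) (cj (X.xq 8 (by norm_num)) s8 s8)
  have y4 : W2.Rel ψ y (o 4) (o (4 + 2 * c)) := tr (by norm_num) (by omega) (cj X.xt s32 (by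
    interval_cases c
    exacts [s32, (s32.mul s1).of_eq (by decide +kernel) (by decide +kernel)]))
  have yt : W2.Rel φ y (o 32) (o (32 + 2 * c)) := by
    interval_cases c
    · exact cj (((X.xq 14 (by norm_num)).mul X.xt).of_eq (by decide +kernel) (by decide +kernel)) s46 s46
    · exact cj (((X.xq 14 (by norm_num)).mul X.xt).of_eq (by decide +kernel) (by decide +kernel)) s46
        ((s46.mul s1).of_eq rfl (by decide +kernel))
  have ye : W2.Rel ψ y (o 32) (o 34) := by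
    rw [W2.Rel, he, show (o 34 : RG) = o 32 * o 2 by decide +kernel, map_mul, he, hq 2 (by norm_num), ← s1]
    nth_rewrite 1 [← se]
    rw [hy, mul_inv_rev, inv_inv, mul_inv_rev]
    calc _ = σ * (x * e * x⁻¹) * σ⁻¹ := by group
      _ = _ := by rw [X.xe, ← conj_mul, se]
  set k : RG := o (8 * c + 34 * i) with hk
  have ek : φ (o (8 * c + 2 * i)) * e ^ i = ψ k := by
    rw [← hq _ (by omega), ← he, ← map_pow, ← map_mul, hk]
    congr 1
    interval_cases c <;> interval_cases i <;> decide +kernel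
  have yk : W2.Rel ψ y k (k * o ((k.v / 32) * 2)) := by
    rw [hk]
    interval_cases c <;> interval_cases i
    exacts [Rel.one.of_eq (by decide +kernel) (by decide +kernel),
      (y2.mul ye).of_eq (by decide +kernel) (by decide +kernel),
      y8.of_eq (by decide +kernel) (by decide +kernel),
      ((y8.mul y2).mul ye).of_eq (by decide +kernel) (by decide +kernel)]
  have e2 : σ⁻¹ * x * σ = y * ψ (o 64 * k) := by
    rw [map_mul, hx, ← ek, ← X.k, ← mul_assoc x, ← mul_assoc x, X.xx, one_mul, ← mul_assoc y, yy, one_mul]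
  have e3 : W2.Rel ψ y (o 64 * k) (o 64 * k)⁻¹ := by
    have : y * ψ (o 64 * k) * (y * ψ (o 64 * k)) = 1 := by
      rw [← e2, show σ⁻¹ * x * σ * (σ⁻¹ * x * σ) = σ⁻¹ * (x * x) * σ by group, X.xx]; simp
    rw [W2.Rel, map_inv, eq_inv_iff_mul_eq_one, inv_eq_of_mul_eq_one_right yy, mul_assoc, this]
  have e4 : W2.Rel ψ y (o 16) (o 16 * (o 64 * k)⁻¹) := by
    have qq : φ (o 16) * φ (o 16) = 1 := by rw [← map_mul, ← map_one φ]; congr 1
    have : φ (o 16) * y * φ (o 16) = σ⁻¹ * x * σ := by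
      have h1 := C.qinv
      have h2 := (X.xq 16 (by norm_num)).comm
      rw [← inv_eq_of_mul_eq_one_right qq] at h1
      calc φ (o 16) * y * φ (o 16) = (φ (o 16) * σ * φ (o 16)) * (φ (o 16))⁻¹ * x * φ (o 16) *
            (φ (o 16) * σ * φ (o 16))⁻¹ * (φ (o 16) * φ (o 16)) := by rw [hy]; group
        _ = _ := by rw [C.qinv, qq, mul_assoc (_ * _) x, h2]; group
    rw [W2.Rel, map_mul, ← e3, ← e2, ← this, hq 16 (by norm_num), ← mul_assoc, ← mul_assoc, ← mul_assoc, qq,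
      one_mul]
  have cjq : ∀ (h : HM) {p q : ℕ}, p < 32 → q < 32 → h * o p * h⁻¹ = o q → W2.Rel ψ (φ h) (o p) (o q) :=
    fun h _ _ hp hq e => tr hp hq ((Rel.conj φ h _).of_eq rfl e)
  have cje : ∀ h : HM, W2.Rel ψ (φ h) (o 32) (o 32) := fun h => Rel.of_comm (by rw [he, C.comm])
  refine ⟨ψ, hq, he, injective_of_socle ψ (z := o 1) (fun h => ?_) [o 2, o 4, o 8, o 16, o 32, o 64]
    (by decide +kernel), relR ?_, relR ?_, hx ▸ relR ?_, hx ▸ yt, hx ▸ e2⟩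
  · rw [hq 1 (by norm_num), ← map_one φ] at h
    exact absurd (C.inj h) (by decide +kernel)
  · refine .cons ?_ (.cons ?_ (.cons ?_ (.cons ?_ (.cons ?_ (.cons (cje _) (.cons ?_ .nil))))))
    iterate 5 exact cjq _ (by norm_num) (by norm_num) (by decide +kernel)
    exact Rel.of_comm (by rw [hx, X.xr.comm])
  · refine .cons ?_ (.cons ?_ (.cons ?_ (.cons ?_ (.cons ?_ (.cons (cje _) (.cons ?_ .nil))))))
    iterate 5 exact cjq _ (by norm_num) (by norm_num) (by decide +kernel)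
    have h1 : (o (32 + c) : HM) = o 32 * o c := by interval_cases c <;> decide +kernel
    have h2 : (o (64 + c) : RG) = o c * o 64 := by interval_cases c <;> decide +kernel
    have h3 : (o 32 * (o 32 * o c) : HM) = o c := by interval_cases c <;> decide +kernel
    have tt : φ (o 32) * φ (o 32) = 1 := by rw [← map_mul, ← map_one φ]; congr 1
    rw [W2.Rel, h2, map_mul, hx, hq c (by omega), ← h3, map_mul, ← h1, ← X.xt,
      inv_eq_of_mul_eq_one_right tt]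
    group
  · refine .cons y1 (.cons y2 (.cons y4 (.cons y8 (.cons (by rw [o_v]; exact e4) (.cons ye
      (.cons ?_ .nil))))))
    rw [o_v]
    exact (e3.mul yk.inv).of_eq (mul_inv_cancel_right _ _) rfl

theorem XR.act {ψ : RG →* G} {k : RG} (C : Ctx0 e M φ σ) (X : XR e φ σ ψ c k) {w : G} {f : RG → RG}
    (hw : ∀ a, W2.Rel ψ w a (f a)) (h : f (o 1) = o 1 ∧ f (o 32) = o 32 ∧ ∀ q < 32, (f (o q)).v < 32) :
    ∃ p : HM, (w = φ p ∨ w = φ p * e) ∧ ∀ q < 32, p * o q * p⁻¹ = o (f (o q)).v := by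
  obtain ⟨p, hp⟩ := C.exP (g := w) (mem_Cx'.2 (X.e ▸ (hw _).of_eq rfl h.2.1))
    (mem_Cx'.2 (X.q 1 (by norm_num) ▸ (hw _).of_eq rfl h.1))
  refine ⟨p, hp, fun q hq => C.inj ?_⟩
  rw [← X.q _ (h.2.2 q hq), o_v, ← hw, X.q q hq, map_mul, map_mul, map_inv]
  rcases hp with rfl | rfl
  · rfl
  · rw [mul_assoc _ e, C.comm]; group

theorem XR.cent {ψ : RG →* G} {k : RG} (C : Ctx0 e M φ σ) (X : XR e φ σ ψ c k) {w : G}
    (hw : ∀ a, W2.Rel ψ w a a) : ∃ δ < 2, w = ψ (o δ) := by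
  obtain ⟨p, hp, h⟩ := X.act C (f := id) hw (by decide +kernel)
  obtain ⟨δ, h1, rfl⟩ : ∃ δ < 2, p = o δ := by revert h; clear * -; revert p; decide +kernel
  rw [← X.q δ (by omega), ← X.e, ← map_mul] at hp
  rcases hp with rfl | rfl
  · exact ⟨δ, h1, rfl⟩
  · exact absurd ((hw (o 64)).uniq X.inj (Rel.conj ψ _ _) rfl) (by interval_cases δ <;> decide +kernel)

/-- The context from the element `g₁`. -/
theorem XR.ctx {ψ : RG →* G} {k r : RG} (C : Ctx0 e M φ σ) (X : XR e φ σ ψ c k) (h1 : ¬ IsConj e (φ (o 1)))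
    (h2 : ¬ 256 ∣ Nat.card (Cx e)) {a1 a2 a3 : ℕ → ℕ → ℕ} {iN : ℕ → ℕ}
    {k1 : TOk 256 (sdm 128 mR Nat.xor a1) iN}
    {k2 : TOk 512 (sdm 256 (sdm 128 mR Nat.xor a1) Nat.xor a2) iN}
    (k3 : TOk 3072 (sdm 512 (sdm 256 (sdm 128 mR Nat.xor a1) Nat.xor a2) mS a3) iN) {lg : List ℕ}
    (H : BOk k1 k2 (wR [1, 2, 6, 11, 31, 32, 64 + c]) (wR lg) r (a3 := a3)) {g : G} (gg : g * g = 1)
    (hg : ∀ a, W2.Rel ψ g a (wR lg a)) (tg : φ (o 32) * g * (φ (o 32))⁻¹ = g) {b xp xq : ℕ}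
    (hy : ∀ Φ : TG k3 →* G, (∀ a : RG, Φ (o a.v) = ψ a) → Φ (o 512) = φ (o 32) →
      ∀ δ < 2, Φ (o 128) = g * ψ (o δ) → Φ (o b * o 128 * o δ) = σ * ψ (o 64) * σ⁻¹)
    (d1 : ∀ a, wR lg (wR lr (wR lg (wR lr (wR lg (wR lr a))))) = r * a * r⁻¹)
    (d2 : ∀ δ < 2, (∀ a : RG, o δ * a * (o δ)⁻¹ = a) ∧ wR lr (o δ) = o δ ∧ (o δ * o δ : RG) = 1 ∧
      wR [1, 2, 6, 11, 31, 32, 64 + c] (o δ) = o δ ∧ wR lg (o δ) = o δ ∧ (o b * o 128 * o δ : TG k3) =
        o (xp + δ) ∧ (o (xp + δ) * o (o 64 * k).v : TG k3) = o (xq + δ))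
    (d3 : ∀ p : HM, p = o (p.v % 32) * s3H (o (p.v / 32)) ∧ (o (p.v % 32) * o (512 * (p.v / 32)) : TG k3) =
      o (p.v % 32 + 512 * (p.v / 32)) ∧
      (o (p.v % 32 + 512 * (p.v / 32)) * o 32 : TG k3).v % 512 < 64)
    (d4 : ∀ g : TG k3, g = 1 ∨ g = o 1 ∨ LE [o 2, o 4, o 8, o 16, o 32, o 64] fun k =>
      k * g * k⁻¹ * g⁻¹ = o 1 ∨ LE [o 2, o 4, o 8, o 16, o 32, o 64] fun l =>
        l * (k * g * k⁻¹ * g⁻¹) * l⁻¹ * (k * g * k⁻¹ * g⁻¹)⁻¹ = o 1) :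
    ∃ (Φ : TG k3 →* G) (δ : ℕ), δ < 2 ∧ Ctx Φ σ (xp + δ) (xq + δ) ∧ Φ (o 32) = e := by
  set ρ := φ (o 64) with eρ
  have r3 : ρ * ρ * ρ = 1 := by rw [eρ, ← map_mul, ← map_mul, ← map_one φ]; congr 1
  have e1 : ∀ u : G, u * (ρ * u * ρ⁻¹) * (ρ * (ρ * u * ρ⁻¹) * ρ⁻¹) = u * ρ * (u * ρ) * (u * ρ) := fun u =>
    calc _ = u * ρ * (u * ρ) * (u * (ρ * ρ)⁻¹) := by group
      _ = _ := by rw [inv_eq_of_mul_eq_one_right r3]
  obtain ⟨δ, hδ, hw⟩ := X.cent C (w := (ψ r)⁻¹ * (g * ρ * (g * ρ) * (g * ρ))) fun a =>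
    ((Rel.conj ψ r a).symm.comp (((((hg _).comp (X.r _)).comp ((hg _).comp (X.r _))).comp
      ((hg _).comp (X.r a))).of_eq rfl (d1 a)))
  obtain ⟨c1, c2, c3, c4, c5, c6, c7⟩ := d2 δ hδ
  have zg : Commute (ψ (o δ)) g := ((hg _).of_eq rfl c5).comm.symm
  have zr : Commute (ψ (o δ)) ρ := ((X.r _).of_eq rfl c2).comm.symm
  have zz : ψ (o δ) * ψ (o δ) = 1 := by rw [← map_mul, c3, map_one]
  obtain ⟨Φ, f1, f2, f3⟩ := build k1 k2 k3 H ψ (φ.comp s3H) (g := g * ψ (o δ))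
    (by rw [← sq, zg.symm.mul_pow, sq, sq, gg, zz, one_mul]) X.r X.t
    (fun a => (hg a).comp ((Rel.conj ψ _ a).of_eq rfl (c1 a)))
    (show φ (o 32) * _ * (φ (o 32))⁻¹ = _ by rw [← conj_mul, tg, ((X.t _).of_eq rfl c4 :)])
    ((e1 _).trans (by
      rw [mul_assoc g, zr.eq, ← mul_assoc g, ← pow_three', (zg.mul_right zr).symm.mul_pow, pow_three',
        pow_three', zz, one_mul, inv_mul_eq_iff_eq_mul.1 hw, mul_assoc, zz, mul_one]))
  have fq : ∀ q < 128, Φ (o q) = ψ (o q) := fun q hq => by rw [← f1, v_o hq]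
  have fe : Φ (o 32) = e := (fq _ (by norm_num)).trans X.e
  have fp : ∀ p : HM, Φ (o (p.v % 32 + 512 * (p.v / 32))) = φ p := fun p => by
    have h := f3 (o (p.v / 32))
    rw [v_o (by have := p.v_lt; omega)] at h
    rw [← (d3 p).2.1, map_mul, h, fq _ (by omega), X.q _ (by omega), MonoidHom.comp_apply, ← map_mul,
      ← (d3 p).1]
  have fp' : ∀ p < 192, Φ (o (p % 32 + 512 * (p / 32))) = φ (o p) := fun p hp => by rw [← fp, v_o hp]
  have fz : Φ (o 1) = φ (o 1) := fp' 1 (by norm_num)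
  have fy : Φ (o (xp + δ)) = σ * ψ (o 64) * σ⁻¹ := c6 ▸ hy Φ f1 (fp' 32 (by norm_num)) δ hδ f2
  refine ⟨Φ, δ, hδ, ⟨injective_of_socle Φ (z := o 1) (fun h => ?_) _ d4, fun g h3 h4 => ?_, fe ▸ h2,
    by rwa [fe, fz], C.s3, ?_⟩, fe⟩
  · rw [fz, ← map_one φ] at h
    exact absurd (C.inj h) (by decide +kernel)
  · obtain ⟨p, rfl | rfl⟩ := C.exP (fe ▸ h3) (fz ▸ h4)
    · exact ⟨_, by rw [v_o (by have := p.v_lt; omega)]; omega, (fp p).symm⟩
    · exact ⟨_, (d3 p).2.2, by rw [map_mul, fp, fe]⟩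
  · have hs := C.rel
    have tr : ∀ p < 192, ∀ q < 192, W2.Rel φ σ (o p) (o q) →
        W2.Rel Φ σ (o (p % 32 + 512 * (p / 32))) (o (q % 32 + 512 * (q / 32))) := fun p hp q hq h => by
      rwa [W2.Rel, fp' p hp, fp' q hq]
    simp only [List.forall_mem_cons] at hs ⊢
    obtain ⟨s1, s2, s4, s8, s32, -⟩ := hs
    refine ⟨tr 1 (by norm_num) 2 (by norm_num) s1, tr 2 (by norm_num) 3 (by norm_num) s2,
      tr 4 (by norm_num) 46 (by norm_num) s4, tr 8 (by norm_num) 8 (by norm_num) s8, ?_,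
      tr 32 (by norm_num) 4 (by norm_num) s32, ?_, ?_, by simp⟩
    · rw [W2.Rel, fe]; exact mem_Cx'.1 ((C.cent σ).2 (.inl C.sM))
    · rw [W2.Rel, fy, fq _ (by norm_num)]
    · rw [W2.Rel, ← c7, map_mul, fy, f1, ← X.k]
      calc _ = σ * σ * ψ (o 64) * (σ * σ)⁻¹ := by group
        _ = _ := by rw [eq_inv_of_mul_eq_one_left C.s3, inv_inv]

theorem Ctx0.exists_ctx (C : Ctx0 e M φ σ) (X : XA e φ σ x c i) (h1 : ¬ IsConj e (φ (o 1)))
    (h2 : ¬ 256 ∣ Nat.card (Cx e)) :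
    (∃ (ψ : NW →* G) (δ : ℕ), δ < 2 ∧ Ctx ψ σ (128 + δ) (192 + δ) ∧ ψ (o 32) = e) ∨
      ∃ (ψ : NC →* G) (δ : ℕ), δ < 2 ∧ Ctx ψ σ (678 + δ) (716 + δ) ∧ ψ (o 32) = e := by
  obtain ⟨ψ, Y⟩ := C.exists_xr X
  have hc := X.hc
  have hi := X.hi
  have xx : ψ (o 64) * ψ (o 64) = 1 := by rw [← map_mul, ← map_one ψ]; congr 1
  set y := σ * ψ (o 64) * σ⁻¹ with hy
  have yy : y * y = 1 := by rw [hy, conj_mul, xx]; simp
  have zz : ∀ {N : ℕ} {m : ℕ → ℕ → ℕ} {j : ℕ → ℕ} {h : TOk N m j} (Φ : TG h → G) {g : G},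
      (∀ a : RG, Φ (o a.v) = ψ a) → ∀ δ < 2, g * ψ (o δ) * Φ (o δ) = g := fun Φ g f δ hδ => by
    have := f (o δ)
    rw [v_o (by omega)] at this
    rw [this, mul_assoc, ← map_mul, show (o δ * o δ : RG) = 1 by interval_cases δ <;> decide +kernel,
      map_one, mul_one]
  interval_cases c <;> interval_cases i
  · refine .inl (Y.ctx C h1 h2 ok3W bokW yy (fun a => (Y.y a).of_eq rfl (by revert a; decide +kernel)) ?_ (b := 0)
      (fun Φ f1 _ δ hδ f2 => ?_) (by decide +kernel) (by decide +kernel) (by decide +kernel)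
      (by decide +kernel))
    · exact mem_Cx'.1 (mem_Cx.2 Y.yt.comm.symm)
    · rw [o_zero, one_mul, map_mul, f2, zz Φ f1 δ hδ]
  · obtain ⟨p, -, h⟩ := Y.act C (fun a => (((((Y.r _).comp (Y.y _)).comp (Y.r _)).comp (Y.y _)).comp
      (Y.r _)).comp (Y.y a)) (by decide +kernel)
    exact absurd h (by clear * -; revert p; decide +kernel)
  · obtain ⟨p, -, h⟩ := Y.act C (fun a => ((((((Y.r _).comp (Y.y _)).comp (Y.r _)).comp (Y.r _)).comp
      (Y.y _)).comp (Y.r _)).comp (Y.y a)) (by decide +kernel)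
    exact absurd h (by clear * -; revert p; decide +kernel)
  · set t := φ (o 32) with et
    have tt : t * t = 1 := by rw [et, ← map_mul, ← map_one φ]; congr 1
    have yt : y * t * y⁻¹ = t * ψ (o 2) := by
      rw [Y.q 2 (by norm_num), et, ← map_mul]; exact Y.yt.of_eq rfl (by decide +kernel)
    have t1 := (Y.t (o 36)).of_eq rfl (show _ = o 36 * (o 2)⁻¹ by decide +kernel)
    have t2 := (Y.t (o 2)).of_eq rfl (show _ = o 2 by decide +kernel)
    have tg : t * (ψ (o 36) * t * y) * t⁻¹ = ψ (o 36) * t * y := by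
      have h3 : t * y * t⁻¹ = ψ (o 2) * y := by
        rw [mul_inv_eq_iff_eq_mul] at yt
        rw [inv_eq_of_mul_eq_one_right tt, mul_assoc, yt, mul_assoc t, ← mul_assoc t, tt, one_mul]
      rw [← conj_mul, ← conj_mul, t1, h3, mul_inv_cancel_right, map_mul, map_inv, mul_assoc, mul_assoc,
        ← mul_assoc t, t2.comm, mul_assoc (ψ _), inv_mul_cancel_left, mul_assoc]
    refine .inr (Y.ctx C h1 h2 ok3C bokC (g := ψ (o 36) * t * y) ?_ (fun a => (((Rel.conj ψ (o 36) _).comp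
      (Y.t _)).comp (Y.y a)).of_eq rfl (by revert a; decide +kernel)) tg (b := 550)
      (fun Φ f1 f3 δ hδ f2 => ?_) (by decide +kernel) (by decide +kernel) (by decide +kernel)
      (by decide +kernel))
    · have y1 := ((Y.t _).comp (Y.y (o 36))).of_eq rfl (show _ = (o 36)⁻¹ * (o 2)⁻¹ by decide +kernel)
      calc _ = ψ (o 36) * (t * y * ψ (o 36) * (t * y)⁻¹) * t * (y * t * y⁻¹) * (y * y) := by group
        _ = 1 := by rw [y1, yt, yy, map_mul, map_inv, map_inv, mul_assoc _ t, ← mul_assoc t, tt]; group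
    · rw [map_mul, map_mul, f2, mul_assoc, zz Φ f1 δ hδ, show (o 550 : NC) = o 512 * (o (o 36 : RG).v)⁻¹ by
        decide +kernel, map_mul, map_inv, f1, f3, mul_assoc (ψ _), mul_assoc, inv_mul_cancel_left,
        ← mul_assoc, tt, one_mul]

end CfsgLib.Yos
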